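import Cfsg.Agent.Lib.RootSub.RankOne
set_option autoImplicit false

/-! Sets of abstract root subgroups: basic lemmas (Timmesfeld II §1-2). -/

namespace Cfsg.Agent.RootSub

open Cfsg

variable {G : Type*} [Group G] {S : Set (Subgroup G)} {A B C D P : Subgroup G}

theorem commCase_symm (h : RootCommutatorCase S A B) : RootCommutatorCase S B A := by
  obtain ⟨h1, h2, h3, h4⟩ := h
  rw [Subgroup.commutator_comm] at h1 h2 h3 h4
  refine ⟨h1, fun c hc x hx => h2 c hc x (by rwa [sup_comm]), ?_, ?_⟩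
  · intro b hb hb1
    rw [← h4 b hb hb1, ← Subgroup.closure_inv]
    congr 1; ext x
    simp only [Set.mem_inv, Set.mem_image, SetLike.mem_coe]
    constructor
    · rintro ⟨a, ha, e⟩; exact ⟨a, ha, inv_injective (by rw [← e]; group)⟩
    · rintro ⟨a, ha, e⟩; exact ⟨a, ha, by rw [← e]; group⟩
  · intro a ha ha1
    rw [← h3 a ha ha1, ← Subgroup.closure_inv]
    congr 1; ext x
    simp only [Set.mem_inv, Set.mem_image, SetLike.mem_coe]
    constructor
    · rintro ⟨b, hb, e⟩; exact ⟨b, hb, inv_injective (by rw [← e]; group)⟩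
    · rintro ⟨b, hb, e⟩; exact ⟨b, hb, by rw [← e]; group⟩

theorem commCase_not_commute (hS : IsRootSubgroupSet S) (h : RootCommutatorCase S A B) : ⁅A, B⁆ ≠ ⊥ :=
  hS.ne_bot _ h.1

/-- In the commutator case a conjugate of B by an element of A centralizes B. -/
theorem commCase_conj_commute (hS : IsRootSubgroupSet S) (h : RootCommutatorCase S A B) (hB : B ∈ S)
    {a : G} (ha : a ∈ A) : ⁅conjBy B a, B⁆ = ⊥ := by
  rw [commutator_eq_bot_iff_commute]
  intro x hx b hb
  rw [mem_conjBy] at hx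
  have hc : a * (a⁻¹ * x * a) * a⁻¹ * (a⁻¹ * x * a)⁻¹ ∈ ⁅A, B⁆ := by
    simpa [commutatorElement_def] using Subgroup.commutator_mem_commutator ha hx
  generalize hy : a⁻¹ * x * a = y at hx hc
  have hxy : x = a * y * a⁻¹ * y⁻¹ * y := by rw [← hy]; group
  have h1 := h.2.1 _ hc b (Subgroup.mem_sup_right hb)
  have h2 := mul_comm_of_mem (hS.commutative B hB) hx hb
  rw [hxy]
  generalize a * y * a⁻¹ * y⁻¹ = c at h1
  rw [mul_assoc, h2, ← mul_assoc, h1, mul_assoc]

/-- The commutator case and the rank one case exclude each other. -/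
theorem not_rankOne_of_commCase (hS : IsRootSubgroupSet S) (hB : B ∈ S)
    (h : RootCommutatorCase S A B) : ¬ IsRankOnePair A B := by
  intro hr
  obtain ⟨a, ha, ha1⟩ := rankOne_exists_ne_one hr
  refine ha1 (rankOne_eq_one_of_normalizes hr ha ?_)
  exact unipotentSubgroups_eq_of_commute hr
    (unipotentSubgroups_conj (Subgroup.mem_sup_left ha) (right_mem_unipotentSubgroups hr))
    (right_mem_unipotentSubgroups hr) (commCase_conj_commute hS h hB ha)

/-- An element ≠ 1 of A centralizing B forces A and B to commute. -/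
theorem commute_of_mem_commute (hS : IsRootSubgroupSet S) (hA : A ∈ S) (hB : B ∈ S) {a : G}
    (ha : a ∈ A) (ha1 : a ≠ 1) (hc : ∀ b ∈ B, a * b = b * a) : ⁅A, B⁆ = ⊥ := by
  rcases hS.pair A hA B hB with e | hr | h
  · exact e
  · exact absurd (rankOne_eq_one_of_normalizes hr ha
      (conjBy_eq_self_iff.2 (mem_normalizer_of_forall_commute hc))) ha1
  · rw [← h.2.2.1 a ha ha1, Subgroup.closure_eq_bot_iff]
    rintro _ ⟨b, hb, rfl⟩
    simp [hc b hb]

/-- If A has partner P, C commutes with A and some elements of C and A# conjugate P alike, then C = A. -/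
theorem eq_of_conj_partner (hS : IsRootSubgroupSet S) (hC : C ∈ S) (hP : P ∈ S)
    (hr : IsRankOnePair A P) (hAC : ⁅A, C⁆ = ⊥) {a c : G} (ha : a ∈ A) (ha1 : a ≠ 1) (hc : c ∈ C)
    (e : conjBy P c = conjBy P a) : C = A := by
  have hne : conjBy P a ≠ P := fun e => ha1 (rankOne_eq_one_of_normalizes hr ha e)
  rcases hS.pair C hC P hP with h | h | h
  · exfalso
    refine hne ?_
    rw [← e]
    exact conjBy_eq_self_iff.2 (mem_normalizer_of_forall_commute fun x hx =>
      commutator_eq_bot_iff_commute.1 h c hc x hx)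
  · have hc1 : c ≠ 1 := by rintro rfl; rw [conjBy_one] at e; exact hne e.symm
    obtain ⟨b', hb', -, e'⟩ := h.cond_left c⁻¹ (inv_mem hc) (inv_ne_one.2 hc1)
    obtain ⟨b, hb, -, e''⟩ := hr.cond_left a⁻¹ (inv_mem ha) (inv_ne_one.2 ha1)
    rw [inv_inv] at e' e''
    rw [e, ← e'', conjBy_eq_iff, conjBy_conjBy, inv_inv] at e'
    refine unipotentSubgroups_eq_of_commute hr ?_ (left_mem_unipotentSubgroups A P) ?_
    · exact ⟨b' * b⁻¹, mul_mem (Subgroup.mem_sup_right hb') (Subgroup.mem_sup_right (inv_mem hb)), e'⟩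
    · rwa [Subgroup.commutator_comm]
  · exfalso
    refine hne (unipotentSubgroups_eq_of_commute hr
      (unipotentSubgroups_conj (Subgroup.mem_sup_left ha) (right_mem_unipotentSubgroups hr))
      (right_mem_unipotentSubgroups hr) ?_)
    rw [← e]
    exact commCase_conj_commute hS h hP hc

/-- A member with a rank one partner meets every other member trivially. -/
theorem inf_eq_bot_of_partner (hS : IsRootSubgroupSet S) (hA : A ∈ S) (hC : C ∈ S) (hP : P ∈ S)
    (hr : IsRankOnePair A P) (hne : A ≠ C) : A ⊓ C = ⊥ := by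
  rw [Subgroup.eq_bot_iff_forall]
  rintro x ⟨hxA, hxC⟩
  by_contra hx1
  have hAC := commute_of_mem_commute hS hA hC hxA hx1
    fun c hc => mul_comm_of_mem (hS.commutative C hC) hxC hc
  exact hne (eq_of_conj_partner hS hC hP hr hAC hxA hx1 hxC rfl).symm

theorem eq_of_mem_of_partner (hS : IsRootSubgroupSet S) (hA : A ∈ S) (hC : C ∈ S) (hP : P ∈ S)
    (hr : IsRankOnePair A P) {x : G} (hxA : x ∈ A) (hxC : x ∈ C) (hx1 : x ≠ 1) : A = C := by
  by_contra hne
  exact hx1 ((Subgroup.eq_bot_iff_forall _).1 (inf_eq_bot_of_partner hS hA hC hP hr hne) x ⟨hxA, hxC⟩)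

/-- Timmesfeld II (2.2): z a is not a root element for z ≠ 1 centralizing ⟨A, B⟩, a ∈ A#. -/
theorem centralizing_mul_not_rootElement (hS : IsRootSubgroupSet S) (hA : A ∈ S) (hP : P ∈ S)
    (hr : IsRankOnePair A P) {z : G} (hzA : ∀ x ∈ A, z * x = x * z) (hzP : ∀ x ∈ P, z * x = x * z)
    (hz1 : z ≠ 1) {a : G} (ha : a ∈ A) (ha1 : a ≠ 1) : z * a ∉ rootElements S := by
  rintro ⟨hne, C, hC, hc⟩
  have hcA : ∀ x ∈ A, z * a * x = x * (z * a) := fun x hx => by
    rw [mul_assoc, mul_comm_of_mem (hS.commutative A hA) ha hx, ← mul_assoc, hzA x hx, mul_assoc]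
  have hAC : ⁅A, C⁆ = ⊥ := by
    rw [Subgroup.commutator_comm]; exact commute_of_mem_commute hS hC hA hc hne hcA
  have e : conjBy P (z * a) = conjBy P a := by
    rw [hzA a ha, ← conjBy_conjBy,
      conjBy_eq_self_iff.2 (mem_normalizer_of_forall_commute hzP)]
  have hCA := eq_of_conj_partner hS hC hP hr hAC ha ha1 hc e
  subst hCA
  have hz : z ∈ C := by simpa using mul_mem hc (inv_mem ha)
  exact hz1 (rankOne_eq_one_of_normalizes hr hz
    (conjBy_eq_self_iff.2 (mem_normalizer_of_forall_commute hzP)))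

theorem exists_partner_of_not_isolated (hA : A ∈ S) (h : ¬ IsIsolatedIn (FAdj S) S A) :
    ∃ P ∈ S, IsRankOnePair A P := by
  simp only [IsIsolatedIn, not_and, not_forall] at h
  obtain ⟨P, hP⟩ := h hA
  by_cases hp : FAdj S A P
  · exact ⟨P, hp.2.1, hp.2.2⟩
  · obtain ⟨h1, -, h3⟩ := not_not.1 (hP hp)
    exact ⟨P, h1, rankOne_symm h3⟩

theorem mem_of_mem_unipotentSubgroups (hS : IsRootSubgroupSet S) (hA : A ∈ S)
    (hC : C ∈ unipotentSubgroups A B) : C ∈ S := by
  obtain ⟨x, -, rfl⟩ := hC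
  exact hS.conj_mem A hA x

/-- Elements of ⟨A,B⟩ centralizing A are in A times the centre. -/
theorem rankOne_centralizer_left (h : IsRankOnePair A B) (hab : IsMulCommutative A)
    {x : G} (hx : x ∈ A ⊔ B) (hc : ∀ a ∈ A, x * a = a * x) :
    ∃ e ∈ A, ∃ z ∈ A ⊔ B, x = e * z ∧ ∀ y ∈ A ⊔ B, z * y = y * z := by
  have hxA : conjBy A x = A := conjBy_eq_self_iff.2 (mem_normalizer_of_forall_commute hc)
  rcases (mem_unipotentSubgroups_iff h).1 (unipotentSubgroups_conj hx (right_mem_unipotentSubgroups h))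
    with e | ⟨e, he, e'⟩
  · rw [conjBy_eq_iff] at e
    refine absurd ?_ h.ne
    rw [e]; rw [conjBy_eq_iff] at hxA; exact hxA
  refine ⟨e, he, e⁻¹ * x, mul_mem (inv_mem (Subgroup.mem_sup_left he)) hx, by group, ?_⟩
  set z := e⁻¹ * x with hz
  have hzA : ∀ a ∈ A, z * a = a * z := fun a ha => by
    rw [hz, mul_assoc, hc a ha, ← mul_assoc, mul_comm_of_mem hab (inv_mem he) ha, mul_assoc]
  have hzB : conjBy B z = B := by
    rw [hz, ← conjBy_conjBy, e', conjBy_conjBy, inv_mul_cancel, conjBy_one]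
  have hzfix : ∀ C ∈ unipotentSubgroups A B, conjBy C z = C := by
    intro C hC
    rcases (mem_unipotentSubgroups_iff h).1 hC with rfl | ⟨a, ha, rfl⟩
    · exact conjBy_eq_self_iff.2 (mem_normalizer_of_forall_commute hzA)
    · rw [conjBy_conjBy, hzA a ha, ← conjBy_conjBy, hzB]
  let N : Subgroup G :=
    { carrier := {n | n ∈ A ⊔ B ∧ ∀ C ∈ unipotentSubgroups A B, conjBy C n = C}
      one_mem' := ⟨one_mem _, fun C _ => conjBy_one C⟩
      mul_mem' := fun {u v} hu hv => ⟨mul_mem hu.1 hv.1, fun C hC => by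
        rw [← conjBy_conjBy, hv.2 C hC, hu.2 C hC]⟩
      inv_mem' := fun {u} hu => ⟨inv_mem hu.1, fun C hC => by
        rw [conjBy_eq_iff, inv_inv, hu.2 C hC]⟩ }
  have hzN : z ∈ N := ⟨mul_mem (inv_mem (Subgroup.mem_sup_left he)) hx, hzfix⟩
  have hB : ∀ b ∈ B, z * b = b * z := by
    refine rankOne_commute_of_normal (rankOne_symm h) N ?_
      (fun n hn => hn.2 B (right_mem_unipotentSubgroups h))
      (fun n hn => hn.2 A (left_mem_unipotentSubgroups A B)) z hzN
    intro b hb n hn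
    have hbm : b ∈ A ⊔ B := Subgroup.mem_sup_right hb
    refine ⟨mul_mem (mul_mem hbm hn.1) (inv_mem hbm), fun C hC => ?_⟩
    rw [← conjBy_conjBy, ← conjBy_conjBy, hn.2 _ (unipotentSubgroups_conj (inv_mem hbm) hC),
      conjBy_conjBy, mul_inv_cancel, conjBy_one]
  intro y hy
  have : A ⊔ B ≤ Subgroup.centralizer {z} := sup_le
    (fun a ha => Subgroup.mem_centralizer_singleton_iff.2 (hzA a ha).symm)
    (fun b hb => Subgroup.mem_centralizer_singleton_iff.2 (hB b hb).symm)
  exact (Subgroup.mem_centralizer_singleton_iff.1 (this hy)).symm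

/-- A non-central member of S inside a rank one group ⟨C, D⟩ of members of S is one of its unipotent subgroups. -/
theorem mem_unipotentSubgroups_of_le (hS : IsRootSubgroupSet S) (hC : C ∈ S) (hD : D ∈ S)
    (hr : IsRankOnePair C D) (hA : A ∈ S) (hle : A ≤ C ⊔ D) (hnc : ⁅A, C ⊔ D⁆ ≠ ⊥) : A ∈ unipotentSubgroups C D := by
  have hΩ : ∀ E ∈ unipotentSubgroups C D, ∃ E' ∈ unipotentSubgroups C D, E' ∈ S ∧
      IsRankOnePair E E' ∧ E ⊔ E' = C ⊔ D := by
    intro E hE
    have hE' : ∃ E' ∈ unipotentSubgroups C D, E ≠ E' := by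
      by_cases h : E = C
      · exact ⟨D, right_mem_unipotentSubgroups hr, h ▸ hr.ne⟩
      · exact ⟨C, left_mem_unipotentSubgroups C D, h⟩
    obtain ⟨E', hE', hne⟩ := hE'
    exact ⟨E', hE', mem_of_mem_unipotentSubgroups hS hC hE',
      rankOne_of_unipotentSubgroups hr hE hE' hne⟩
  by_contra hA'
  have hrk : ∀ E ∈ unipotentSubgroups C D, IsRankOnePair A E := by
    intro E hE
    have hES := mem_of_mem_unipotentSubgroups hS hC hE
    obtain ⟨E', hE'm, hE'S, hr', hsup⟩ := hΩ E hE
    rcases hS.pair A hA E hES with h | h | h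
    · exfalso
      obtain ⟨⟨f, hf⟩, hf'⟩ := Subgroup.ne_bot_iff_exists_ne_one.1 (hS.ne_bot A hA)
      have hf1 : f ≠ 1 := fun e => hf' (Subtype.ext e)
      obtain ⟨e, he, z, -, hfe, hz⟩ := rankOne_centralizer_left hr' (hS.commutative E hES)
        (hsup ▸ hle hf) (fun a ha => commutator_eq_bot_iff_commute.1 h f hf a ha)
      have hzE : ∀ x ∈ E, z * x = x * z := fun x hx => hz x (Subgroup.mem_sup_left hx)
      have hzE' : ∀ x ∈ E', z * x = x * z := fun x hx => hz x (Subgroup.mem_sup_right hx)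
      by_cases hz1 : z = 1
      · subst hz1
        rw [mul_one] at hfe
        have := eq_of_mem_of_partner hS hES hA hE'S hr' he (hfe ▸ hf) (hfe ▸ hf1)
        exact hA' (this ▸ hE)
      by_cases he1 : e = 1
      · subst he1
        rw [one_mul] at hfe
        subst hfe
        refine hnc ?_
        have h1 : ⁅A, E'⁆ = ⊥ := commute_of_mem_commute hS hA hE'S hf hf1 hzE'
        rw [Subgroup.commutator_comm, Subgroup.commutator_eq_bot_iff_le_centralizer, ← hsup]
        exact sup_le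
          (Subgroup.commutator_eq_bot_iff_le_centralizer.1 (by rwa [Subgroup.commutator_comm]))
          (Subgroup.commutator_eq_bot_iff_le_centralizer.1 (by rwa [Subgroup.commutator_comm]))
      · exact centralizing_mul_not_rootElement hS hES hE'S hr' hzE hzE' hz1 he he1
          ⟨by rwa [hzE e he, ← hfe], A, hA, by rwa [hzE e he, ← hfe]⟩
    · exact h
    · exfalso
      have hfix : ∀ a ∈ A, conjBy E a = E := fun a ha =>
        unipotentSubgroups_eq_of_commute hr (unipotentSubgroups_conj (hle ha) hE) hE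
          (commCase_conj_commute hS h hES ha)
      have hFE : ⁅A, E⁆ ≤ E := Subgroup.commutator_le.2 fun a ha x hx => by
        rw [commutatorElement_def]
        refine mul_mem ?_ (inv_mem hx)
        exact (hfix a ha) ▸ conj_mem_conjBy hx
      obtain ⟨⟨f, hf⟩, hf'⟩ := Subgroup.ne_bot_iff_exists_ne_one.1 (hS.ne_bot _ h.1)
      have heq := eq_of_mem_of_partner hS hES h.1 hE'S hr' (hFE hf) hf (fun e => hf' (Subtype.ext e))
      refine commCase_not_commute hS h ?_
      rw [commutator_eq_bot_iff_commute]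
      intro a ha x hx
      exact (h.2.1 x (heq ▸ hx) a (Subgroup.mem_sup_left ha)).symm
  obtain ⟨x, hx, e⟩ := unipotentSubgroups_symm (hrk C (left_mem_unipotentSubgroups C D)) ▸
    left_mem_unipotentSubgroups A C
  exact hA' (e ▸ ⟨x, sup_le le_sup_left hle hx, rfl⟩)

end Cfsg.Agent.RootSub
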