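import Cfsg.Agent.Lib.RootSub.Line
set_option autoImplicit false

/-! The graph of rank one pairs: components, connectivity, homomorphic images. -/

namespace Cfsg.Agent.RootSub

open Cfsg
open scoped commutatorElement

variable {G : Type*} [Group G] {S : Set (Subgroup G)} {A B C P : Subgroup G}

theorem fAdj_symm (h : FAdj S A B) : FAdj S B A := ⟨h.2.1, h.1, rankOne_symm h.2.2⟩

theorem fReach_symm (h : Relation.ReflTransGen (FAdj S) A B) : Relation.ReflTransGen (FAdj S) B A := by
  induction h with
  | refl => exact .refl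
  | tail _ h1 ih => exact .head (fAdj_symm h1) ih

theorem fReach_conjBy (hS : IsRootSubgroupSet S) (h : Relation.ReflTransGen (FAdj S) A B) (g : G) :
    Relation.ReflTransGen (FAdj S) (conjBy A g) (conjBy B g) := by
  induction h with
  | refl => exact .refl
  | tail _ h1 ih =>
    exact ih.tail ⟨hS.conj_mem _ h1.1 g, hS.conj_mem _ h1.2.1 g, rankOne_conjBy h1.2.2 g⟩

theorem fReach_of_component_eq (hA : A ∈ S) (h : componentOf (FAdj S) S A = componentOf (FAdj S) S B) :
    Relation.ReflTransGen (FAdj S) B A := by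
  have h' : A ∈ componentOf (FAdj S) S A := ⟨hA, .refl⟩
  rw [h] at h'
  exact h'.2

/-- Two lines with the same product join their first members. -/
theorem fReach_of_lines {A' B' R : Subgroup G} (L : Line S A B) (L' : Line S A' B') (e : A ⊔ B = A' ⊔ B')
    (hP : P ∈ S) (hr : IsRankOnePair A P) (hR : R ∈ S) (hr' : IsRankOnePair A' R) :
    Relation.ReflTransGen (FAdj S) A A' := by
  obtain ⟨F, -, -, hconn, X, hX, hXF, hXA⟩ := line_component L hP hr
  obtain ⟨F', -, -, hconn', -⟩ := line_component L' hR hr'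
  rw [← e] at hconn'
  have hA : A ∈ membersIn S (A ⊔ B) := ⟨L.memA, le_sup_left⟩
  have hA' : A' ∈ membersIn S (A ⊔ B) := ⟨L'.memA, e ▸ le_sup_left⟩
  by_cases h1 : A' = F
  · by_cases h2 : A = F'
    · subst h1 h2
      exact (hconn X hX hXF).trans (fReach_symm (hconn' X hX hXA))
    · exact fReach_symm (hconn' A hA h2)
  · exact hconn A' hA' h1

theorem component_eq_of_fReach (h : Relation.ReflTransGen (FAdj S) A B) :
    componentOf (FAdj S) S A = componentOf (FAdj S) S B := by
  ext U
  exact ⟨fun hU => ⟨hU.1, (fReach_symm h).trans hU.2⟩, fun hU => ⟨hU.1, h.trans hU.2⟩⟩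

/-- Members with partners lying on one line are joined (S5031). -/
theorem fReach_of_linePartner (hS : IsRootSubgroupSet S) (hA : A ∈ S) (hB : B ∈ linePartners S A)
    (hP : P ∈ S) (hr : IsRankOnePair A P) (hR : C ∈ S) (hr' : IsRankOnePair B C) :
    Relation.ReflTransGen (FAdj S) A B :=
  fReach_of_component_eq hB.1.1
    (line_same_component (line_of_linePartner hS hA hB) hP hr hR hr').symm

/-- The component of a member with a partner is invariant in G up to conjugacy. -/
theorem fReach_conj_self (hS : IsRootSubgroupSet S) (hA : A ∈ S) (hP : P ∈ S) (hr : IsRankOnePair A P)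
    (g : G) : Relation.ReflTransGen (FAdj S) A (conjBy A g) := by
  let H : Subgroup G :=
    { carrier := {g | Relation.ReflTransGen (FAdj S) A (conjBy A g)}
      one_mem' := by show Relation.ReflTransGen (FAdj S) A (conjBy A 1); rw [conjBy_one]
      mul_mem' := fun {x y} hx hy => by
        have := fReach_conjBy hS hy x
        rw [conjBy_conjBy] at this
        exact hx.trans this
      inv_mem' := fun {x} hx => by
        have := fReach_conjBy hS (fReach_symm hx) x⁻¹
        rw [conjBy_conjBy, inv_mul_cancel, conjBy_one] at this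
        exact this }
  suffices (⨆ X ∈ S, X) ≤ H from this (hS.generates ▸ Subgroup.mem_top g)
  refine iSup₂_le fun X hX x hx => ?_
  show Relation.ReflTransGen (FAdj S) A (conjBy A x)
  by_cases he : conjBy A x = A
  · rw [he]
  have hA' := hS.conj_mem A hA x
  rcases hS.pair X hX A hA with h | h | h
  · exact absurd (conjBy_eq_self_iff.2 (mem_normalizer_of_forall_commute
      (commutator_eq_bot_iff_commute.1 h x hx))) he
  · exact .single ⟨hA, hA', (rankOne_of_unipotentSubgroups h (right_mem_unipotentSubgroups h)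
      (unipotentSubgroups_conj (Subgroup.mem_sup_left hx) (right_mem_unipotentSubgroups h)) (Ne.symm he)).1⟩
  · have h' := commCase_symm h
    have L : Line S A ⁅A, X⁆ := ⟨hS, hA, h'.1, commCase_ne hS hA h', commCase_commute_eq_bot h',
      partition_commutator hS hA hP hr h'⟩
    have hsup : conjBy A x ⊔ ⁅A, X⁆ = A ⊔ ⁅A, X⁆ := by
      have hfix : conjBy ⁅A, X⁆ x = ⁅A, X⁆ := conjBy_eq_self_iff.2 (mem_normalizer_of_forall_commute
        fun c hc => (commCase_commute_right h' c hc x hx).symm)
      refine le_antisymm (sup_le (conjBy_le_sup_commutator hx) le_sup_right) (sup_le ?_ le_sup_right)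
      calc A = conjBy (conjBy A x⁻¹) x := by rw [conjBy_conjBy, mul_inv_cancel, conjBy_one]
        _ ≤ conjBy (A ⊔ ⁅A, X⁆) x := conjBy_le_conjBy.2 (conjBy_le_sup_commutator (inv_mem hx))
        _ = conjBy A x ⊔ ⁅A, X⁆ := by rw [conjBy_sup, hfix]
    have L' : Line S (conjBy A x) ⁅A, X⁆ := by
      have hfix : conjBy ⁅A, X⁆ x = ⁅A, X⁆ := conjBy_eq_self_iff.2 (mem_normalizer_of_forall_commute
        fun c hc => (commCase_commute_right h' c hc x hx).symm)
      refine ⟨hS, hA', h'.1, fun e => commCase_ne hS hA h' (conjBy_inj.1 (e.trans hfix.symm)), ?_,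
        by rw [hsup]; exact L.part⟩
      rw [← hfix, ← conjBy_commutator, commCase_commute_eq_bot h', conjBy_eq_bot_iff]
    exact fReach_of_lines L L' hsup.symm hP hr (hS.conj_mem P hP x) (rankOne_conjBy hr x)

theorem connected_of_class (hS : IsRootSubgroupClass S) (hA : A ∈ S) (hP : P ∈ S)
    (hr : IsRankOnePair A P) : IsConnectedFamily (FAdj S) S := by
  intro U hU V hV
  obtain ⟨g, rfl⟩ := hS.2.2 A hA U hU
  obtain ⟨g', rfl⟩ := hS.2.2 A hA V hV
  exact (fReach_symm (fReach_conj_self hS.1 hA hP hr g)).trans (fReach_conj_self hS.1 hA hP hr g')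

theorem conj_of_fReach (h : Relation.ReflTransGen (FAdj S) A B) : ∃ g : G, B = conjBy A g := by
  induction h with
  | refl => exact ⟨1, (conjBy_one A).symm⟩
  | tail _ h1 ih =>
    obtain ⟨g, rfl⟩ := ih
    obtain ⟨x, -, e⟩ := right_mem_unipotentSubgroups h1.2.2
    exact ⟨x * g, by rw [e, conjBy_conjBy]⟩

theorem class_of_connected (hne : S.Nonempty) (h : IsConnectedFamily (FAdj S) S) :
    IsConjClassOfSubgroups S := ⟨hne, fun U hU V hV => conj_of_fReach (h U hU V hV)⟩

theorem partner_of_connected (h : IsConnectedFamily (FAdj S) S) (h2 : ∃ A ∈ S, ∃ B ∈ S, A ≠ B) :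
    ∀ U ∈ S, ∃ P ∈ S, IsRankOnePair U P := by
  intro U hU
  obtain ⟨A, hA, B, hB, hne⟩ := h2
  obtain ⟨V, hV, hUV⟩ : ∃ V ∈ S, U ≠ V := by
    by_cases e : U = A
    · exact ⟨B, hB, e ▸ hne⟩
    · exact ⟨A, hA, e⟩
  rcases Relation.ReflTransGen.cases_head (h U hU V hV) with e | ⟨W, hW, -⟩
  · exact absurd e hUV
  · exact ⟨W, hW.2.1, hW.2.2⟩

section Image

variable {H : Type*} [Group H] (f : G →* H)

theorem map_conjBy (A : Subgroup G) (g : G) : (conjBy A g).map f = conjBy (A.map f) (f g) := by
  simp only [conjBy, Subgroup.map_map]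
  congr 1
  ext x
  simp [MulAut.conj_apply]

theorem map_rankOne (h : IsRankOnePair A B) (hne : A.map f ≠ B.map f) :
    IsRankOnePair (A.map f) (B.map f) := by
  have key : ∀ {A B : Subgroup G}, RankOneCondition A B → A.map f ≠ B.map f →
      RankOneCondition (A.map f) (B.map f) := by
    intro A B hc hne x hx hx1
    obtain ⟨a, ha, rfl⟩ := hx
    obtain ⟨b, hb, -, e⟩ := hc a ha (fun e => hx1 (by rw [e, map_one]))
    have e' := congrArg (fun U => U.map f) e
    simp only [map_conjBy, map_inv] at e'
    refine ⟨f b, ⟨b, hb, rfl⟩, fun h1 => hne ?_, e'⟩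
    rw [h1, inv_one, conjBy_one] at e'
    have : conjBy (A.map f) (f a) = B.map f := by
      rw [e', conjBy_conjBy, mul_inv_cancel, conjBy_one]
    rwa [conjBy_self (Subgroup.mem_map_of_mem f ha)] at this
  have hnil : ∀ A : Subgroup G, Group.IsNilpotent A → Group.IsNilpotent (A.map f) := fun A hA =>
    Group.nilpotent_of_surjective (f.subgroupMap A) (MonoidHom.subgroupMap_surjective f A)
  exact ⟨hne, hnil A h.nilpotent_left, hnil B h.nilpotent_right, key h.cond_left hne,
    key h.cond_right hne.symm⟩

theorem image_rootSet (hS : IsRootSubgroupSet S) (hf : Function.Surjective f)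
    (hne : ∀ A ∈ S, A.map f ≠ ⊥) : IsRootSubgroupSet ((fun A : Subgroup G => A.map f) '' S) where
  commutative := by
    rintro _ ⟨A, hA, rfl⟩
    have := hS.commutative A hA
    exact Subgroup.map_isMulCommutative A f
  ne_bot := by rintro _ ⟨A, hA, rfl⟩; exact hne A hA
  generates := by
    rw [iSup_image, ← Subgroup.map_top_of_surjective f hf, ← hS.generates]
    simp only [Subgroup.map_iSup]
  conj_mem := by
    rintro _ ⟨A, hA, rfl⟩ g
    obtain ⟨x, rfl⟩ := hf g
    exact ⟨conjBy A x, hS.conj_mem A hA x, map_conjBy f A x⟩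
  pair := by
    rintro _ ⟨A, hA, rfl⟩ _ ⟨B, hB, rfl⟩
    simp only
    rcases hS.pair A hA B hB with h | h | h
    · left; rw [← Subgroup.map_commutator, h, Subgroup.map_bot]
    · by_cases e : A.map f = B.map f
      · left
        rw [e]
        have := hS.commutative B hB
        exact commutator_eq_bot_iff_commute.2 fun a ha b hb =>
          mul_comm_of_mem (Subgroup.map_isMulCommutative B f) ha hb
      · exact Or.inr (Or.inl (map_rankOne f h e))
    · right; right
      obtain ⟨h1, h2, h3, h4⟩ := h
      refine ⟨⟨_, h1, Subgroup.map_commutator A B f⟩, ?_, ?_, ?_⟩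
      · rw [← Subgroup.map_commutator, ← Subgroup.map_sup]
        rintro _ ⟨c, hc, rfl⟩ _ ⟨x, hx, rfl⟩
        rw [← map_mul, ← map_mul, h2 c hc x hx]
      · rintro _ ⟨a, ha, rfl⟩ ha1
        rw [← Subgroup.map_commutator, ← h3 a ha (fun e => ha1 (by rw [e, map_one])),
          MonoidHom.map_closure]
        congr 1
        rw [Subgroup.coe_map, Set.image_image, Set.image_image]
        simp
      · rintro _ ⟨b, hb, rfl⟩ hb1
        rw [← Subgroup.map_commutator, ← h4 b hb (fun e => hb1 (by rw [e, map_one])),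
          MonoidHom.map_closure]
        congr 1
        rw [Subgroup.coe_map, Set.image_image, Set.image_image]
        simp

theorem image_connected (hc : IsConnectedFamily (FAdj S) S) :
    IsConnectedFamily (FAdj ((fun A : Subgroup G => A.map f) '' S)) ((fun A : Subgroup G => A.map f) '' S) := by
  rintro _ ⟨U, hU, rfl⟩ _ ⟨V, hV, rfl⟩
  have h := hc U hU V hV
  induction h with
  | refl => exact .refl
  | tail _ h1 ih =>
    rename_i W X _
    refine (ih h1.1).trans ?_
    by_cases e : W.map f = X.map f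
    · simp only [e]; exact .refl
    · exact .single ⟨⟨W, h1.1, rfl⟩, ⟨X, h1.2.1, rfl⟩, map_rankOne f h1.2.2 e⟩

end Image

end Cfsg.Agent.RootSub
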