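import Cfsg.Agent.Lib.RootSub.Special
import Cfsg.Agent.Lib.RootSub.Graph
set_option autoImplicit false

/-! Classes: the orders by C_Σ and Ω, generation by Λ_A and a partner, weak TI-subsets. -/

namespace Cfsg.Agent.RootSub

open Cfsg
open scoped commutatorElement

variable {G : Type*} [Group G] {S : Set (Subgroup G)} {A B C D F P Q U V : Subgroup G}

theorem linePartners_symm (hA : A ∈ S) (h : B ∈ linePartners S A) : A ∈ linePartners S B := by
  obtain ⟨⟨-, hne, hc⟩, hp⟩ := h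
  exact ⟨⟨hA, hne.symm, by rw [Subgroup.commutator_comm]; exact hc⟩, by rw [sup_comm]; exact hp⟩

/-- An invariant transitive relation implying commutation is symmetric on pairs with a common partner. -/
theorem arrow_symm (hS : IsRootSubgroupSet S) (r : Subgroup G → Subgroup G → Prop)
    (hr : ∀ U V, U ∈ S → V ∈ S → r U V → ∀ g : G, r (conjBy U g) (conjBy V g))
    (htrans : ∀ U V W, U ∈ S → V ∈ S → W ∈ S → r U V → r V W → r U W)
    (hcomm : ∀ U V, U ∈ S → V ∈ S → r U V → ⁅U, V⁆ = ⊥)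
    (hA : A ∈ S) (hC : C ∈ S) (hQ : Q ∈ S) (h : r A C) (h1 : IsRankOnePair A Q)
    (h2 : IsRankOnePair C Q) : r C A := by
  have hAC := commutator_eq_bot_iff_commute.1 (hcomm A C hA hC h)
  have step : ∀ q ∈ Q, ∀ a ∈ A, ∀ c ∈ C, conjBy Q a⁻¹ = conjBy A q⁻¹ → conjBy Q c⁻¹ = conjBy C q⁻¹ →
      r Q (conjBy Q (a * c⁻¹)) := by
    intro q _ a _ c _ ea ec
    have := hr A C hA hC h (a * q⁻¹)
    rw [← conjBy_conjBy A, ← conjBy_conjBy C, ← ea, ← ec, conjBy_conjBy, mul_inv_cancel, conjBy_one,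
      conjBy_conjBy] at this
    exact this
  obtain ⟨a, ha, ha1⟩ := rankOne_exists_ne_one h1
  obtain ⟨q, hq, hq1, ea⟩ := h1.cond_left a ha ha1
  obtain ⟨q', hq', hq1', ea'⟩ := h1.cond_left a⁻¹ (inv_mem ha) (inv_ne_one.2 ha1)
  obtain ⟨c, hc, -, ec⟩ := h2.cond_right q hq hq1
  obtain ⟨c', hc', -, ec'⟩ := h2.cond_right q' hq' hq1'
  have r1 := step q hq a ha c hc ea.symm ec
  have r2 := step q' hq' a⁻¹ (inv_mem ha) c' hc' ea'.symm ec'
  have m1 := hS.conj_mem Q hQ (a * c⁻¹)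
  have r3 : r Q (conjBy Q (c⁻¹ * c'⁻¹)) := by
    have h3 := hr Q _ hQ (hS.conj_mem Q hQ _) r2 (a * c⁻¹)
    have e3 : a * c⁻¹ * (a⁻¹ * c'⁻¹) = c⁻¹ * c'⁻¹ := by
      rw [show a * c⁻¹ * (a⁻¹ * c'⁻¹) = (a * c⁻¹ * a⁻¹) * c'⁻¹ by group, hAC a ha _ (inv_mem hc),
        mul_inv_cancel_right]
    rw [conjBy_conjBy, e3] at h3
    exact htrans Q _ _ hQ m1 (hS.conj_mem Q hQ _) r1 h3
  have hcc : c⁻¹ * c'⁻¹ = 1 := by
    have hm : c⁻¹ * c'⁻¹ ∈ C := mul_mem (inv_mem hc) (inv_mem hc')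
    refine rankOne_eq_one_of_normalizes h2 hm (Eq.symm ?_)
    exact unipotentSubgroups_eq_of_commute h2 (right_mem_unipotentSubgroups h2)
      (unipotentSubgroups_conj (Subgroup.mem_sup_left hm) (right_mem_unipotentSubgroups h2))
      (hcomm _ _ hQ (hS.conj_mem Q hQ _) r3)
  have hz : a * c⁻¹ * (a⁻¹ * c'⁻¹) = 1 := by
    rw [show a * c⁻¹ * (a⁻¹ * c'⁻¹) = (a * c⁻¹ * a⁻¹) * c'⁻¹ by group, hAC a ha _ (inv_mem hc),
      mul_inv_cancel_right, hcc]
  have r4 : r (conjBy Q (a * c⁻¹)) Q := by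
    have h4 := hr Q _ hQ (hS.conj_mem Q hQ _) r2 (a * c⁻¹)
    rwa [conjBy_conjBy, hz, conjBy_one] at h4
  have r5 := hr _ _ m1 hQ r4 (q * a⁻¹)
  rw [conjBy_conjBy, show q * a⁻¹ * (a * c⁻¹) = q * c⁻¹ by group, ← conjBy_conjBy Q c⁻¹, ec,
    ← conjBy_conjBy Q a⁻¹, ← ea, conjBy_conjBy, conjBy_conjBy, mul_inv_cancel, conjBy_one, conjBy_one] at r5
  exact r5

/-- For a line AB with B having a partner there is R with ⁅B, R⁆ = A. -/
theorem line_exists_back (L : Line S A B) (hpart : ∀ E ∈ membersIn S (A ⊔ B), ∃ P ∈ S, IsRankOnePair E P) :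
    ∃ R ∈ S, RootCommutatorCase S B R ∧ ⁅B, R⁆ = A := by
  have hS := L.root
  have hA : A ∈ membersIn S (A ⊔ B) := ⟨L.memA, le_sup_left⟩
  have hB : B ∈ membersIn S (A ⊔ B) := ⟨L.memB, le_sup_right⟩
  obtain ⟨Q, hQ, hr⟩ := hpart B hB
  obtain ⟨F, hF, hne, hcase⟩ := line_exists_commCase L hB hQ hr
  obtain ⟨hC, e⟩ := line_triangle L hB hQ hr hF hne hcase
  obtain ⟨x, -, ex1, ex2⟩ := line_two_transitive L hpart B hB F hF B hB A hA hne.symm L.ne.symm
  refine ⟨conjBy ⁅F, Q⁆ x, hS.conj_mem _ hcase.1 x, ?_⟩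
  have e2 : ⁅B, conjBy ⁅F, Q⁆ x⁆ = A := by
    conv_lhs => rw [← ex1]
    rw [← conjBy_commutator, e, ex2]
  exact ⟨commCase_of_mem hS L.memB (hS.conj_mem _ hcase.1 x) (e2.symm ▸ L.memA), e2⟩

theorem commutator_line_partner (hS : IsRootSubgroupSet S) (hA : A ∈ S) (hP : P ∈ S)
    (hr : IsRankOnePair A P) (h : RootCommutatorCase S A B) : ⁅A, B⁆ ∈ linePartners S A :=
  linePartners_symm h.1 (left_mem_linePartners hS hA hP hr h)

/-- For a commutator case A, B there is a partner of A commuting with B (S5037). -/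
theorem exists_partner_commute (hS : IsRootSubgroupClass S) (hA : A ∈ S) (hB : B ∈ S)
    (hrk : ∃ A ∈ S, ∃ B ∈ S, IsRankOnePair A B) (h : RootCommutatorCase S A B) :
    ∃ R ∈ S, IsRankOnePair A R ∧ ⁅R, B⁆ = ⊥ := by
  have hpart := class_partner hS hrk
  obtain ⟨P, hP, hr⟩ := hpart B hB
  have h' := commCase_symm h
  have L : Line S B ⁅B, A⁆ :=
    ⟨hS.1, hB, h'.1, commCase_ne hS.1 hB h', commCase_commute_eq_bot h', partition_commutator hS.1 hB hP hr h'⟩
  obtain ⟨R, hR, hcase, e⟩ := line_exists_back L (fun E hE => hpart E hE.1)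
  refine ⟨R, hR, ?_, ?_⟩
  · have T : Triangle S ⁅B, A⁆ R A :=
      ⟨hS.1, h'.1, hR, hA, by rw [e]; exact hB, by rw [e, Subgroup.commutator_comm]⟩
    exact rankOne_symm (triangle_rankOne T)
  · rw [Subgroup.commutator_comm, commutator_eq_bot_iff_commute]
    exact commCase_commute_right hcase |> fun h3 b hb r hr => h3 b (e.symm ▸ hb) r hr

theorem centralizingMembers_mem_iff :
    U ∈ centralizingMembers S A ↔ U ∈ S ∧ ⁅U, A⁆ = ⊥ := by
  simp only [centralizingMembers, Set.mem_ofPred_eq, Subgroup.commutator_eq_bot_iff_le_centralizer]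

theorem self_mem_centralizingMembers (hS : IsRootSubgroupSet S) (hA : A ∈ S) :
    A ∈ centralizingMembers S A :=
  centralizingMembers_mem_iff.2 ⟨hA, commutator_eq_bot_iff_commute.2
    fun _ ha _ hb => mul_comm_of_mem (hS.commutative A hA) ha hb⟩

theorem centralizingMembers_conj (hS : IsRootSubgroupSet S) (g : G) :
    U ∈ centralizingMembers S (conjBy A g) ↔ conjBy U g⁻¹ ∈ centralizingMembers S A := by
  simp only [centralizingMembers_mem_iff]
  constructor
  · rintro ⟨h1, h2⟩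
    refine ⟨hS.conj_mem U h1 _, ?_⟩
    have := congrArg (fun X => conjBy X g⁻¹) h2
    simpa [conjBy_commutator, conjBy_conjBy, conjBy_one, conjBy_eq_bot_iff] using this
  · rintro ⟨h1, h2⟩
    have h1' := hS.conj_mem _ h1 g
    have := congrArg (fun X => conjBy X g) h2
    simp [conjBy_commutator, conjBy_conjBy, conjBy_one, conjBy_eq_bot_iff.2] at h1' this
    exact ⟨h1', this⟩

theorem rankOnePartners_conj (hS : IsRootSubgroupSet S) (g : G) :
    U ∈ rankOnePartners S (conjBy A g) ↔ conjBy U g⁻¹ ∈ rankOnePartners S A := by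
  constructor
  · rintro ⟨h1, h2⟩
    refine ⟨hS.conj_mem U h1 _, ?_⟩
    have := rankOne_conjBy h2 g⁻¹
    rwa [conjBy_conjBy, inv_mul_cancel, conjBy_one] at this
  · rintro ⟨h1, h2⟩
    have h1' := hS.conj_mem _ h1 g
    have h2' := rankOne_conjBy h2 g
    rw [conjBy_conjBy, mul_inv_cancel, conjBy_one] at h1' h2'
    exact ⟨h1', h2'⟩

theorem rankOnePartners_subset (hS : IsRootSubgroupClass S)
    (hrk : ∃ A ∈ S, ∃ B ∈ S, IsRankOnePair A B) (hA : A ∈ S) (hC : C ∈ S)
    (h : rankOnePartners S A ⊆ rankOnePartners S C) :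
    ⁅A, C⁆ = ⊥ ∧ rankOnePartners S A = rankOnePartners S C := by
  have hpart := class_partner hS hrk
  have hcomm : ∀ U V, U ∈ S → V ∈ S → rankOnePartners S U ⊆ rankOnePartners S V → ⁅U, V⁆ = ⊥ := by
    intro U V hU hV hsub
    rcases hS.1.pair U hU V hV with h' | h' | h'
    · exact h'
    · exact absurd rfl (hsub ⟨hV, h'⟩).2.ne
    · obtain ⟨R, hR, hr, hc⟩ := exists_partner_commute hS hU hV hrk h'
      exact absurd (by rwa [Subgroup.commutator_comm] : ⁅V, R⁆ = ⊥) (rankOne_not_commute (hsub ⟨hR, hr⟩).2)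
  refine ⟨hcomm A C hA hC h, Set.Subset.antisymm h ?_⟩
  obtain ⟨Q, hQ, hr⟩ := hpart A hA
  exact arrow_symm hS.1 (fun U V => rankOnePartners S U ⊆ rankOnePartners S V)
    (fun U V _ _ hUV g W hW => (rankOnePartners_conj hS.1 g).2 (hUV ((rankOnePartners_conj hS.1 g).1 hW)))
    (fun U V W _ _ _ h1 h2 => h1.trans h2) hcomm hA hC hQ h hr (h ⟨hQ, hr⟩).2

theorem centralizingMembers_subset (hS : IsRootSubgroupClass S)
    (hrk : ∃ A ∈ S, ∃ B ∈ S, IsRankOnePair A B) (hA : A ∈ S) (hC : C ∈ S)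
    (h : centralizingMembers S A ⊆ centralizingMembers S C) :
    centralizingMembers S A = centralizingMembers S C := by
  have hcomm : ∀ U V, U ∈ S → V ∈ S → centralizingMembers S U ⊆ centralizingMembers S V → ⁅U, V⁆ = ⊥ :=
    fun U V hU _ hsub => (centralizingMembers_mem_iff.1 (hsub (self_mem_centralizingMembers hS.1 hU))).2
  obtain ⟨Q, hQ, hr⟩ := class_partner hS hrk C hC
  have hQA : IsRankOnePair A Q := by
    rcases hS.1.pair A hA Q hQ with h' | h' | h'
    · refine absurd ?_ (rankOne_not_commute hr)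
      rw [Subgroup.commutator_comm]
      exact (centralizingMembers_mem_iff.1 (h (centralizingMembers_mem_iff.2
        ⟨hQ, by rw [Subgroup.commutator_comm]; exact h'⟩))).2
    · exact h'
    · exfalso
      have hRC : ⁅⁅A, Q⁆, C⁆ = ⊥ := (centralizingMembers_mem_iff.1 (h (centralizingMembers_mem_iff.2
        ⟨h'.1, by rw [Subgroup.commutator_comm]; exact commCase_commute_eq_bot h'⟩))).2
      obtain ⟨a, ha, ha1⟩ := exists_mem_ne_one (hS.1.ne_bot A hA)
      obtain ⟨z, hz, hz1⟩ := exists_mem_ne_one (hS.1.ne_bot _ h'.1)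
      obtain ⟨q, hq, e⟩ := commCase_exists_commutator h' ha ha1 hz
      have hq1 : q ≠ 1 := fun e1 => hz1 (by rw [← e, e1]; group)
      refine centralizing_mul_not_rootElement hS.1 hQ hC (rankOne_symm hr)
        (commCase_commute_right h' z hz) (commutator_eq_bot_iff_commute.1 hRC z hz) hz1 hq hq1
        ⟨?_, conjBy Q a, hS.1.conj_mem Q hQ a, ?_⟩
      · rw [← e, inv_mul_cancel_right]
        exact fun e1 => hq1 (by rw [mul_inv_eq_one] at e1; simpa using e1)
      · rw [← e, inv_mul_cancel_right]; exact conj_mem_conjBy hq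
  refine Set.Subset.antisymm h ?_
  exact arrow_symm hS.1 (fun U V => centralizingMembers S U ⊆ centralizingMembers S V)
    (fun U V _ _ hUV g W hW => (centralizingMembers_conj hS.1 g).2 (hUV ((centralizingMembers_conj hS.1 g).1 hW)))
    (fun U V W _ _ _ h1 h2 => h1.trans h2) hcomm hA hC hQ h hQA hr

/-- The line graph is connected (S5041). -/
theorem eConnected (hS : IsRootSubgroupClass S) (hnd : IsNondegenerateRootSet S) :
    IsConnectedFamily (EAdj S S) S := by
  have hpart := class_partner hS hnd.2.1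
  obtain ⟨A₀, hA₀, B₀, hB₀, hr₀⟩ := hnd.2.1
  have hF := connected_of_class hS hA₀ hB₀ hr₀
  intro U hU V hV
  have h := hF U hU V hV
  induction h with
  | refl => exact .refl
  | tail _ h1 ih =>
    rename_i W X _
    obtain ⟨hW, hX, hr⟩ := h1
    obtain ⟨F, hFl, hcase, T⟩ := nondeg_triangle hS hnd hW hX hr
    obtain ⟨Q, hQ, hrC⟩ := hpart _ hcase.1
    have hCF : ⁅F, X⁆ ∈ linePartners S F := by
      have h' := triangle_caseDC T
      have h'' := left_mem_linePartners hS.1 hcase.1 hQ hrC (commCase_symm h')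
      rw [Subgroup.commutator_comm, T.back] at h''
      exact h''
    have hXC : X ∈ linePartners S ⁅F, X⁆ := by
      rw [Subgroup.commutator_comm]
      exact left_mem_linePartners hS.1 hX hW (rankOne_symm hr) (commCase_symm hcase)
    exact (((ih hW).tail ⟨hW, hFl.1.1, hFl⟩).tail ⟨hFl.1.1, hcase.1, hCF⟩).tail ⟨hcase.1, hX, hXC⟩

/-- G = ⟨Λ_A, B⟩ (S5042). -/
theorem generated_by_line_partners (hS : IsRootSubgroupClass S) (hnd : IsNondegenerateRootSet S)
    (hA : A ∈ S) (hB : B ∈ S) (hr : IsRankOnePair A B) (H : Subgroup G) (hBH : B ≤ H)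
    (hΛ : ∀ C ∈ linePartners S A, C ≤ H) : H = ⊤ := by
  have hpart := class_partner hS hnd.2.1
  have hS' := hS.1
  -- the members R = ⁅F, B⁆ lie in H
  have hline : ∀ V ∈ linePartners S A, ∃ F ∈ membersIn S (A ⊔ V), F ≠ A ∧ ⁅F, B⁆ ≤ H ∧
      RootCommutatorCase S A ⁅F, B⁆ ∧ RootCommutatorCase S F B ∧ ⁅A, ⁅F, B⁆⁆ = F ∧ A ⊔ F = A ⊔ V := by
    intro V hV
    have L := line_of_linePartner hS' hA hV
    obtain ⟨F, hF, hne, hcase, hC, e, hsup⟩ := line_from_partner L hB hr
    refine ⟨F, hF, hne, ?_, hC, hcase, e, hsup⟩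
    refine Subgroup.commutator_le.2 fun f hf b hb => ?_
    rw [commutatorElement_def]
    have h1 := hΛ F (linePartners_of_line L hF hne hsup) hf
    exact mul_mem (mul_mem (mul_mem h1 (hBH hb)) (inv_mem h1)) (inv_mem (hBH hb))
  have hAH : A ≤ H := by
    obtain ⟨V, hV⟩ := nondeg_exists_linePartner hS hnd hA
    obtain ⟨F, hF, hne, hR, hC, hcase, e, hsup⟩ := hline V hV
    have L := line_of_linePartner hS' hA hV
    obtain ⟨r, hr', hr1⟩ := exists_mem_ne_one (hS'.ne_bot _ hcase.1)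
    have hfix : conjBy F r = F := conjBy_eq_self_iff.2 (mem_normalizer_of_forall_commute fun f hf =>
      commCase_commute_left hcase r hr' f hf)
    have hle : F ≤ A ⊔ conjBy A r := by
      intro f hf
      obtain ⟨a, ha, ea⟩ := commCase_exists_commutator (commCase_symm hC) hr' hr1
        (by rw [Subgroup.commutator_comm, e]; exact hf)
      rw [← ea, show r * a * r⁻¹ * a⁻¹ = (r * a * r⁻¹) * a⁻¹ by group]
      exact mul_mem (Subgroup.mem_sup_right (conj_mem_conjBy ha)) (Subgroup.mem_sup_left (inv_mem ha))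
    have hrle : conjBy A r ≤ A ⊔ V := by
      rw [← hsup]; have := conjBy_le_sup_commutator (A := A) hr'; rwa [e] at this
    have hXmem : conjBy A r ∈ membersIn S (A ⊔ V) := ⟨hS'.conj_mem A hA r, hrle⟩
    have hsupX : A ⊔ conjBy A r = A ⊔ V :=
      le_antisymm (sup_le le_sup_left hrle) (hsup ▸ sup_le le_sup_left hle)
    have hXne : conjBy A r ≠ A := by
      intro e'
      rw [e', sup_idem] at hle
      obtain ⟨f, hf, hf1⟩ := exists_mem_ne_one (hS'.ne_bot F hF.1)
      exact hne (line_eq_of_mem L hF ⟨hA, le_sup_left⟩ hf (hle hf) hf1)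
    have hX := hΛ _ (linePartners_of_line L hXmem hXne hsupX)
    intro a ha
    have h2 := hX (conj_mem_conjBy (g := r) ha)
    have := mul_mem (mul_mem (inv_mem (hR hr')) h2) (hR hr')
    rwa [show r⁻¹ * (r * a * r⁻¹) * r = a by group] at this
  have key : ∀ V ∈ linePartners S A, ∃ h ∈ H, V = conjBy A h := by
    intro V hV
    obtain ⟨F, hF, hne, hR, hC, hcase, e, hsup⟩ := hline V hV
    have L := line_of_linePartner hS' hA hV
    have hmem := membersIn_commutator hS' hA hB hr hC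
    rw [e, hsup] at hmem
    have hV' : V ∈ membersIn S (A ⊔ V) := ⟨hV.1.1, le_sup_right⟩
    have hconj : ∀ X ∈ membersIn S (A ⊔ V), X ≠ F → ∃ h ∈ H, X = conjBy A h := by
      intro X hX hXF
      rw [hmem] at hX
      rcases hX with ⟨r, hr', rfl⟩ | h'
      · exact ⟨r, hR hr', rfl⟩
      · exact absurd h' hXF
    by_cases hVF : V = F
    · obtain ⟨R, hR', hcase', e'⟩ := line_exists_back L (fun E hE => hpart E hE.1)
      obtain ⟨Q, hQ, hrV⟩ := hpart V hV.1.1
      obtain ⟨P', hP', hrR⟩ := hpart R hR'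
      have hRH : R ≤ H := hΛ R (by
        have := commutator_line_partner hS' hR' hP' hrR (commCase_symm hcase')
        rw [Subgroup.commutator_comm, e'] at this
        exact linePartners_symm hR' this)
      obtain ⟨r, hr', hr1⟩ := exists_mem_ne_one (hS'.ne_bot R hR')
      have hle : conjBy V r ≤ A ⊔ V := by
        have := conjBy_le_sup_commutator (A := V) hr'
        rwa [e', sup_comm] at this
      have hne' : conjBy V r ≠ F := by
        rw [← hVF]
        intro efix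
        obtain ⟨v, hv, hv1⟩ := rankOne_exists_ne_one hrV
        refine hr1 (commCase_commutator_inj hS' hV.1.1 hQ hrV hcase' hv hv1 hr' ?_)
        have h1 : v * r * v⁻¹ * r⁻¹ ∈ V := by
          rw [show v * r * v⁻¹ * r⁻¹ = v * (r * v⁻¹ * r⁻¹) by group]
          refine mul_mem hv ?_
          have := conj_mem_conjBy (g := r) (inv_mem hv)
          rwa [efix] at this
        have h2 : v * r * v⁻¹ * r⁻¹ ∈ ⁅V, R⁆ := by
          simpa [commutatorElement_def] using Subgroup.commutator_mem_commutator hv hr'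
        have h3 := (Subgroup.eq_bot_iff_forall _).1 (commCase_inf_eq_bot hS' hcase') _ (Subgroup.mem_inf.2 ⟨h1, h2⟩)
        rwa [mul_inv_eq_one, mul_inv_eq_iff_eq_mul] at h3
      obtain ⟨h, hh, eh⟩ := hconj _ ⟨hS'.conj_mem V hV.1.1 r, hle⟩ hne'
      refine ⟨r⁻¹ * h, mul_mem (inv_mem (hRH hr')) hh, ?_⟩
      rw [← conjBy_conjBy, ← eh, conjBy_conjBy, inv_mul_cancel, conjBy_one]
    · exact hconj V hV' hVF
  rw [eq_top_iff, ← hS'.generates]
  refine iSup₂_le fun U hU => ?_
  obtain ⟨h, hh, rfl⟩ : ∃ h ∈ H, U = conjBy A h := by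
    have hreach := eConnected hS hnd A hA U hU
    clear hU
    induction hreach with
    | refl => exact ⟨1, one_mem _, (conjBy_one A).symm⟩
    | tail _ h1 ih =>
      obtain ⟨h, hh, rfl⟩ := ih
      obtain ⟨-, -, hlp⟩ := h1
      have := linePartners_conjBy hS' (g := h⁻¹) hlp
      rw [conjBy_conjBy, inv_mul_cancel, conjBy_one] at this
      obtain ⟨h', hh', e⟩ := key _ this
      refine ⟨h * h', mul_mem hh hh', ?_⟩
      rw [← conjBy_conjBy, ← e, conjBy_conjBy, mul_inv_cancel, conjBy_one]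
  intro x hx
  rw [mem_conjBy] at hx
  have := mul_mem (mul_mem hh (hAH hx)) (inv_mem hh)
  rwa [show h * (h⁻¹ * x * h) * h⁻¹ = x by group] at this

end Cfsg.Agent.RootSub
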