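import Cfsg.Agent.Lib.RootSub.SpecialPower
set_option autoImplicit false

/-! Special rank one groups with more than three elements in A: [A, H] = A, and ⟨A, B⟩ is perfect. -/

namespace Cfsg.Agent.RootSub

open Cfsg

variable {G : Type*} [Group G] {A B : Subgroup G}

/-- n interchanges A and B and lies in ⟨A, B⟩. -/
def Swaps (A B : Subgroup G) (n : G) : Prop := n ∈ A ⊔ B ∧ conjBy A n = B ∧ conjBy B n = A

theorem mem_diagonal_iff {x : G} :
    x ∈ rankOneDiagonal A B ↔ x ∈ A ⊔ B ∧ conjBy A x = A ∧ conjBy B x = B := by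
  rw [conjBy_eq_self_iff, conjBy_eq_self_iff, rankOneDiagonal, Subgroup.mem_inf, Subgroup.mem_inf, and_assoc]

theorem diagonal_symm (A B : Subgroup G) : rankOneDiagonal A B = rankOneDiagonal B A := by
  ext x
  rw [mem_diagonal_iff, mem_diagonal_iff, sup_comm, and_comm (a := conjBy A x = A)]

theorem swaps_inv {n : G} (h : Swaps A B n) : Swaps A B n⁻¹ := by
  obtain ⟨h0, h1, h2⟩ := h
  refine ⟨inv_mem h0, ?_, ?_⟩
  · rw [conjBy_eq_iff, inv_inv, h2]
  · rw [conjBy_eq_iff, inv_inv, h1]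

theorem swaps_mul {n n' : G} (h : Swaps A B n) (h' : Swaps A B n') : n * n' ∈ rankOneDiagonal A B :=
  mem_diagonal_iff.2 ⟨mul_mem h.1 h'.1, by rw [← conjBy_conjBy, h'.2.1, h.2.2],
    by rw [← conjBy_conjBy, h'.2.2, h.2.1]⟩

theorem swaps_diagonal {n : G} (h : Swaps A B n) :
    conjBy (rankOneDiagonal A B) n = rankOneDiagonal A B := by
  have key : ∀ n, Swaps A B n → ∀ x ∈ rankOneDiagonal A B, n * x * n⁻¹ ∈ rankOneDiagonal A B := by
    intro n hn x hx
    rw [mem_diagonal_iff] at hx ⊢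
    refine ⟨mul_mem (mul_mem hn.1 hx.1) (inv_mem hn.1), ?_, ?_⟩
    · rw [← conjBy_conjBy, (swaps_inv hn).2.1, ← conjBy_conjBy, hx.2.2, hn.2.2]
    · rw [← conjBy_conjBy, (swaps_inv hn).2.2, ← conjBy_conjBy, hx.2.1, hn.2.1]
  ext x
  rw [mem_conjBy]
  constructor
  · intro hx
    have := key n h _ hx
    rwa [show n * (n⁻¹ * x * n) * n⁻¹ = x by group] at this
  · intro hx
    have := key n⁻¹ (swaps_inv h) x hx
    rwa [inv_inv] at this

section Special

variable (h : IsSpecialRankOnePair A B) (hab : HasAbelianUnipotents A B)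
include h

theorem matched_swaps {a b : G} (m : Matched A B a b) : Swaps A B (a⁻¹ * b * a⁻¹) :=
  ⟨mul_mem (mul_mem (Subgroup.mem_sup_left (inv_mem m.1)) (Subgroup.mem_sup_right m.2.2.1))
      (Subgroup.mem_sup_left (inv_mem m.1)), (matched_n h m).1, (matched_n h m).2.1⟩

theorem matched_braid {a b : G} (m : Matched A B a b) : a⁻¹ * b * a⁻¹ = b * a⁻¹ * b := by
  have := congrArg (fun z => z⁻¹) (special_braid h m.1 m.2.1 m.2.2.1 m.2.2.2.1 (matched_cond h m))
  simpa [mul_assoc] using this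

/-- n conjugates a to b⁻¹ and b to a⁻¹. -/
theorem matched_n_b {a b : G} (m : Matched A B a b) :
    (a⁻¹ * b * a⁻¹) * b * (a⁻¹ * b * a⁻¹)⁻¹ = a⁻¹ := by
  have h1 := (matched_n (special_symm h) (matched_inv (special_symm h) (matched_symm m))).2.2
  rw [inv_inv, inv_inv, ← matched_braid h m] at h1
  have h2 := congrArg (fun z => z⁻¹) h1
  simp only [mul_inv_rev, inv_inv, ← mul_assoc] at h2
  simpa [mul_assoc] using h2

omit h in
theorem matched_conj {a b x : G} (m : Matched A B a b) (hA : conjBy A x = A) (hB : conjBy B x = B) :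
    Matched A B (x * a * x⁻¹) (x * b * x⁻¹) := by
  obtain ⟨ha, ha1, hb, hb1, e⟩ := m
  refine ⟨?_, conj_ne_one' ha1, ?_, conj_ne_one' hb1, ?_⟩
  · rw [← hA]; exact conj_mem_conjBy ha
  · rw [← hB]; exact conj_mem_conjBy hb
  · have hA' : conjBy A x⁻¹ = A := by rw [conjBy_eq_iff, inv_inv, hA]
    have hB' : conjBy B x⁻¹ = B := by rw [conjBy_eq_iff, inv_inv, hB]
    rw [← conjBy_conjBy, hA', ← conjBy_conjBy, e, conjBy_conjBy, ← conjBy_conjBy B x⁻¹ (x * a), hB']
where
  conj_ne_one' {x a : G} (ha1 : a ≠ 1) : x * a * x⁻¹ ≠ 1 := fun e => ha1 (conj_eq_one_iff.1 e)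

include hab

/-- The decomposition of a product b(c) b(e). -/
theorem matched_sum {c e c' d bc be : G} (mc : Matched A B c bc) (me : Matched A B e be)
    (mu : Matched A B (c * e) d) (m' : Matched A B c' (bc * be)) :
    c' = c * ((c⁻¹ * bc * c⁻¹) * d * (c⁻¹ * bc * c⁻¹)⁻¹) := by
  set nc := c⁻¹ * bc * c⁻¹ with hnc
  set ne := e⁻¹ * be * e⁻¹ with hne
  set n := (c * e)⁻¹ * d * (c * e)⁻¹ with hn
  have sc := matched_swaps h mc
  have se := matched_swaps h me
  have su := matched_swaps h mu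
  rw [← hnc] at sc
  rw [← hne] at se
  rw [← hn] at su
  have h1 : c * e = d * n⁻¹ * d := by
    rw [hn, matched_braid h mu]; group
  have hdec : bc * be = (c * (nc * d * nc⁻¹)) * (nc * n⁻¹ * ne) * (ne⁻¹ * d * ne * e) := by
    calc bc * be = c * nc * (c * e) * ne * e := by rw [hnc, hne]; group
      _ = c * nc * (d * n⁻¹ * d) * ne * e := by rw [h1]
      _ = _ := by group
  have hα1 : nc * d * nc⁻¹ ∈ A := by rw [← sc.2.2]; exact conj_mem_conjBy mu.2.2.1
  have hα2 : ne⁻¹ * d * ne * e ∈ A := by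
    refine mul_mem ?_ me.1
    have := conj_mem_conjBy (g := ne⁻¹) mu.2.2.1
    rwa [(swaps_inv se).2.2, inv_inv] at this
  have h2 := m'.2.2.2.2
  rw [hdec, ← conjBy_conjBy, conjBy_self hα2, ← conjBy_conjBy, ← conjBy_conjBy A ne (nc * n⁻¹),
    se.2.1, ← conjBy_conjBy B n⁻¹ nc, (swaps_inv su).2.2, sc.2.1] at h2
  exact rankOne_conjBy_inj h.1 m'.1 (mul_mem mc.1 hα1) h2.symm

/-- If the diagonal subgroup centralizes A then A has at most three elements. -/
theorem card_le_three_of_centralized (hc : ∀ x ∈ rankOneDiagonal A B, ∀ a ∈ A, x * a = a * x) :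
    ENat.card A ≤ 3 := by
  have key : ∀ c e : G, c ∈ A → c ≠ 1 → e ∈ A → e ≠ 1 → c * e ≠ 1 → c * e * e = 1 := by
    intro c e hcA hc1 heA he1 hce
    obtain ⟨bc, mc⟩ := matched_exists h hcA hc1
    obtain ⟨be, me⟩ := matched_exists h heA he1
    obtain ⟨d, mu⟩ := matched_exists h (mul_mem hcA heA) hce
    set n := (c * e)⁻¹ * d * (c * e)⁻¹ with hn
    have su := matched_swaps h mu
    rw [← hn] at su
    -- all the swapping elements act alike
    have halike : ∀ {x y : G}, Matched A B x y → y = n * x⁻¹ * n⁻¹ ∧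
        ∀ b ∈ B, (x⁻¹ * y * x⁻¹) * b * (x⁻¹ * y * x⁻¹)⁻¹ = n * b * n⁻¹ := by
      intro x y mxy
      have hz := swaps_mul (swaps_inv su) (matched_swaps h mxy)
      have hcB : ∀ b ∈ B, (n⁻¹ * (x⁻¹ * y * x⁻¹)) * b * (n⁻¹ * (x⁻¹ * y * x⁻¹))⁻¹ = b := by
        intro b hb
        by_cases hb1 : b = 1
        · rw [hb1]; group
        obtain ⟨a, ma⟩ := matched_exists (special_symm h) hb hb1
        obtain ⟨-, hzA, hzB⟩ := mem_diagonal_iff.1 hz
        refine matched_unique h.1 ?_ (matched_symm ma)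
        have := matched_conj (matched_symm ma) hzA hzB
        rwa [hc _ hz a ma.2.2.1, mul_inv_cancel_right] at this
      refine ⟨?_, fun b hb => ?_⟩
      · have h1 := (matched_n h mxy).2.2
        have h2 : (n⁻¹ * (x⁻¹ * y * x⁻¹)) * x = x * (n⁻¹ * (x⁻¹ * y * x⁻¹)) := hc _ hz x mxy.1
        have h3 : n * x * n⁻¹ = y⁻¹ := by
          calc n * x * n⁻¹ = n * (x * (n⁻¹ * (x⁻¹ * y * x⁻¹))) * (x⁻¹ * y * x⁻¹)⁻¹ := by group
            _ = (x⁻¹ * y * x⁻¹) * x * (x⁻¹ * y * x⁻¹)⁻¹ := by rw [← h2]; group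
            _ = y⁻¹ := h1
        rw [← inv_inj, ← h3]; group
      · calc (x⁻¹ * y * x⁻¹) * b * (x⁻¹ * y * x⁻¹)⁻¹
            = n * ((n⁻¹ * (x⁻¹ * y * x⁻¹)) * b * (n⁻¹ * (x⁻¹ * y * x⁻¹))⁻¹) * n⁻¹ := by group
          _ = n * b * n⁻¹ := by rw [hcB b hb]
    have hd : d = bc * be := by
      rw [(halike mu).1, (halike mc).1, (halike me).1, mul_inv_rev, mul_comm_left hab (inv_mem heA) (inv_mem hcA)]
      group
    have h4 := matched_sum h hab mc me mu (hd ▸ mu)
    rw [(halike mc).2 d mu.2.2.1, matched_n_b h mu] at h4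
    have h5 : e = (c * e)⁻¹ := mul_left_cancel h4
    conv_lhs => arg 2; rw [h5]
    exact mul_inv_cancel _
  by_contra hcard
  obtain ⟨x, hx, hx1⟩ := rankOne_exists_ne_one h.1
  refine hcard ?_
  have hsub : (A : Set G) ⊆ {1, x, x⁻¹} := by
    intro z hz
    by_cases hz1 : z = 1
    · simp [hz1]
    by_cases hxz : x * z = 1
    · simp [eq_inv_of_mul_eq_one_right hxz]
    have hzx : z * x ≠ 1 := fun e => hxz (by rw [mul_comm_left hab hx hz, e])
    have e1 := key x z hx hx1 hz hz1 hxz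
    have e2 := key z x hz hz1 hx hx1 hzx
    have : z = x := by
      have e3 : x * z * z = x * z * x := by
        rw [e1, mul_comm_left hab hx hz, e2]
      exact mul_left_cancel e3
    simp [this]
  rw [← Nat.cast_ofNat]
  refine le_trans (le_of_eq (ENat.card_coe_set_eq (A : Set G))) ((Set.encard_le_encard hsub).trans ?_)
  refine (Set.encard_insert_le _ _).trans ?_
  refine (add_le_add ((Set.encard_insert_le _ _).trans_eq (by rw [Set.encard_singleton])) le_rfl).trans ?_
  norm_num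

/-- [A, H] = A when A has more than three elements. -/
theorem commutator_diagonal (h3 : 3 < ENat.card A) : ⁅A, rankOneDiagonal A B⁆ = A := by
  set H := rankOneDiagonal A B with hH
  set A1 := ⁅A, H⁆ with hA1
  set B1 := ⁅B, H⁆ with hB1
  have hle : A1 ≤ A := by
    rw [hA1, Subgroup.commutator_le]
    intro a ha x hx
    have hxA := (mem_diagonal_iff.1 hx).2.1
    rw [commutatorElement_def, show a * x * a⁻¹ * x⁻¹ = a * (x * a⁻¹ * x⁻¹) by group]
    refine mul_mem ha ?_
    rw [← hxA]; exact conj_mem_conjBy (inv_mem ha)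
  have hswap : ∀ n, Swaps A B n → conjBy A1 n = B1 ∧ conjBy B1 n = A1 := fun n hn =>
    ⟨by rw [hA1, conjBy_commutator, hn.2.1, swaps_diagonal hn],
      by rw [hB1, conjBy_commutator, hn.2.2, swaps_diagonal hn]⟩
  have hback : ∀ {x y : G}, Matched A B x y → y ∈ B1 → x ∈ A1 := by
    intro x y m hy
    have := conj_mem_conjBy (g := x⁻¹ * y * x⁻¹) hy
    rw [matched_n_b h m, (hswap _ (matched_swaps h m)).2] at this
    simpa using inv_mem this
  by_contra hne
  obtain ⟨c₀, hc₀, hc₀1⟩ : ∃ c ∈ A, c ∉ A1 := by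
    by_contra hcon
    push Not at hcon
    exact hne (le_antisymm hle hcon)
  have hfix : ∀ c ∈ A, c ∉ A1 → ∀ x ∈ H, x * c = c * x := by
    intro c hc hc1 x hx
    by_contra hxc
    obtain ⟨-, hxA, hxB⟩ := mem_diagonal_iff.1 hx
    have hc_ne : c ≠ 1 := fun e => hc1 (e ▸ one_mem _)
    obtain ⟨bc, mc⟩ := matched_exists h hc hc_ne
    have m' := matched_conj mc hxA hxB
    set η := bc⁻¹ * (x * bc * x⁻¹) with hη
    have hη1 : η ∈ B1 := by
      have := Subgroup.commutator_mem_commutator (inv_mem mc.2.2.1) hx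
      rwa [commutatorElement_def, inv_inv, show bc⁻¹ * x * bc * x⁻¹ = η by rw [hη]; group] at this
    have hηne : η ≠ 1 := by
      intro e
      rw [hη, inv_mul_eq_one] at e
      rw [← e] at m'
      have := matched_unique (rankOne_symm h.1) (matched_symm m') (matched_symm mc)
      exact hxc (by rw [← mul_inv_eq_iff_eq_mul]; exact this)
    have hηB : η ∈ B := mul_mem (inv_mem mc.2.2.1) m'.2.2.1
    obtain ⟨e, me'⟩ := matched_exists (special_symm h) hηB hηne
    have me := matched_symm me'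
    have he1 := hback me hη1
    have hce : c * e ≠ 1 := fun e' => hc1 (by
      rw [eq_inv_of_mul_eq_one_left e']; exact inv_mem he1)
    obtain ⟨d, mu⟩ := matched_exists h (mul_mem hc me.1) hce
    have hsum := matched_sum h hab mc me mu (c' := x * c * x⁻¹) (by rwa [hη, mul_inv_cancel_left])
    have hα : (c⁻¹ * bc * c⁻¹) * d * (c⁻¹ * bc * c⁻¹)⁻¹ ∈ A1 := by
      have := Subgroup.commutator_mem_commutator (inv_mem hc) hx
      rwa [commutatorElement_def, inv_inv, mul_assoc, mul_assoc c⁻¹, ← mul_assoc x, hsum, inv_mul_cancel_left,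
        ← hA1] at this
    have hd : d ∈ B1 := by
      have := conj_mem_conjBy (g := (c⁻¹ * bc * c⁻¹)⁻¹) hα
      rw [(hswap _ (swaps_inv (matched_swaps h mc))).1, inv_inv] at this
      rwa [show (c⁻¹ * bc * c⁻¹)⁻¹ * ((c⁻¹ * bc * c⁻¹) * d * (c⁻¹ * bc * c⁻¹)⁻¹) * (c⁻¹ * bc * c⁻¹) = d
        by group] at this
    have := hback mu hd
    exact hc1 (by simpa using mul_mem this (inv_mem he1))
  have hall : ∀ x ∈ H, ∀ a ∈ A, x * a = a * x := by
    intro x hx a ha
    by_cases ha1 : a ∈ A1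
    · have h1 := hfix c₀ hc₀ hc₀1 x hx
      have h2 := hfix (c₀ * a) (mul_mem hc₀ ha) (fun e => hc₀1 (by
        simpa using mul_mem e (inv_mem ha1))) x hx
      rw [← mul_assoc, h1, mul_assoc, mul_assoc c₀ a x] at h2
      exact mul_left_cancel h2
    · exact hfix a ha ha1 x hx
  exact absurd (card_le_three_of_centralized h hab hall) (not_le.2 h3)

theorem card_right_eq : ENat.card A = ENat.card B := by
  obtain ⟨a, ha, ha1⟩ := rankOne_exists_ne_one h.1
  obtain ⟨b, m⟩ := matched_exists h ha ha1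
  exact ENat.card_congr (((A.equivMapOfInjective (MulAut.conj (a⁻¹ * b * a⁻¹)).toMonoidHom
    (MulAut.conj (a⁻¹ * b * a⁻¹)).injective).trans (MulEquiv.subgroupCongr (matched_swaps h m).2.1)).toEquiv)

theorem special_perfect (h3 : 3 < ENat.card A) : ⁅A ⊔ B, A ⊔ B⁆ = A ⊔ B := by
  refine le_antisymm (Subgroup.commutator_le.2 fun x hx y hy => ?_) (sup_le ?_ ?_)
  · rw [commutatorElement_def]
    exact mul_mem (mul_mem (mul_mem hx hy) (inv_mem hx)) (inv_mem hy)
  · exact (commutator_diagonal h hab h3).ge.trans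
      (Subgroup.commutator_mono le_sup_left (inf_le_left.trans inf_le_left))
  · obtain ⟨h', hab'⟩ := special_swap h hab
    refine (commutator_diagonal h' hab' (by rwa [← card_right_eq h hab])).ge.trans ?_
    rw [sup_comm A B]
    exact Subgroup.commutator_mono le_sup_left (inf_le_left.trans inf_le_left)

end Special

end Cfsg.Agent.RootSub
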