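import Cfsg.Agent.Lib.RootSub.Special
import Cfsg.Agent.Lib.RootSub.Graph
import Cfsg.Agent.Lib.RootSub.Classes
import Cfsg.Agent.Lib.RootSub.SpecialDiagonal
set_option autoImplicit false

/-! Timmesfeld II (2.14): perfectness and normal subgroups of groups generated by a connected class. -/

namespace Cfsg.Agent.RootSub

open Cfsg
open scoped commutatorElement

variable {G Q : Type*} [Group G] [Group Q] {S : Set (Subgroup G)}

/-- The hypotheses: connected class with a commutator case or large members, all pairs special. -/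
structure QuasiData (S : Set (Subgroup G)) : Prop where
  root : IsRootSubgroupSet S
  conn : IsConnectedFamily (FAdj S) S
  two : ∃ A ∈ S, ∃ B ∈ S, A ≠ B
  large : IsDegenerateRootSet S → ∀ A ∈ S, 3 < ENat.card A
  special : ∀ A ∈ S, ∀ B ∈ rankOnePartners S A, IsSpecialRankOnePair A B

variable (D : QuasiData S)
include D

theorem QuasiData.isClass : IsRootSubgroupClass S := by
  obtain ⟨A, hA, -⟩ := D.two
  exact ⟨D.root, class_of_connected ⟨A, hA⟩ D.conn⟩

theorem QuasiData.all_le_of_mem {N : Subgroup G} [hN : N.Normal] {U : Subgroup G} (hU : U ∈ S) (h : U ≤ N) :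
    N = ⊤ := by
  rw [eq_top_iff, ← D.root.generates, iSup₂_le_iff]
  intro V hV
  obtain ⟨g, rfl⟩ := D.isClass.2.2 U hU V hV
  intro x hx
  have := hN.conj_mem _ (h (mem_conjBy.1 hx)) g
  rwa [show g * (g⁻¹ * x * g) * g⁻¹ = x by group] at this

theorem QuasiData.perfect : commutator G = ⊤ := by
  obtain ⟨A, hA, -⟩ := D.two
  by_cases hd : IsDegenerateRootSet S
  · obtain ⟨P, hP, hr⟩ := partner_of_connected D.conn D.two A hA
    refine D.all_le_of_mem hA ?_
    have h := special_perfect (D.special A hA P ⟨hP, hr⟩) ⟨D.root.commutative A hA, D.root.commutative P hP⟩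
      (D.large hd A hA)
    calc A ≤ A ⊔ P := le_sup_left
      _ = ⁅A ⊔ P, A ⊔ P⁆ := h.symm
      _ ≤ commutator G := Subgroup.commutator_mono le_top le_top
  · simp only [IsDegenerateRootSet, not_forall, not_not] at hd
    obtain ⟨X, hX, Y, hY, hXY⟩ := hd
    exact D.all_le_of_mem hXY.1 (Subgroup.commutator_mono le_top le_top)

/-- A rank one pair with equal images forces the map to be trivial. -/
theorem QuasiData.ker_eq_top (f : G →* Q) {U V : Subgroup G} (hU : U ∈ S) (hV : V ∈ S)
    (hr : IsRankOnePair U V) (e : U.map f = V.map f) : f.ker = ⊤ := by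
  by_cases hd : IsDegenerateRootSet S
  · refine D.all_le_of_mem hU ?_
    rw [← Subgroup.map_eq_bot_iff]
    have h := congrArg (fun W => W.map f) (special_perfect (D.special U hU V ⟨hV, hr⟩)
      ⟨D.root.commutative U hU, D.root.commutative V hV⟩ (D.large hd U hU))
    simp only [Subgroup.map_commutator, Subgroup.map_sup, ← e, sup_idem] at h
    rw [← h, commutator_eq_bot_iff_commute]
    rintro _ ⟨x, hx, rfl⟩ _ ⟨y, hy, rfl⟩
    rw [← map_mul, ← map_mul, mul_comm_of_mem (D.root.commutative U hU) hx hy]
  · have hnd : IsNondegenerateRootSet S := by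
      simp only [IsDegenerateRootSet, not_forall, not_not] at hd
      obtain ⟨X, hX, Y, hY, hXY⟩ := hd
      exact ⟨⟨X, hX, _, hXY.1, commCase_ne D.root hX hXY, commCase_commute_eq_bot hXY⟩,
        ⟨U, hU, V, hV, hr⟩, X, hX, Y, hY, hXY⟩
    obtain ⟨F, -, hcase, T⟩ := nondeg_triangle D.isClass hnd hU hV hr
    refine D.all_le_of_mem T.memA ?_
    rw [← Subgroup.map_eq_bot_iff, ← T.back, Subgroup.map_commutator, e, ← Subgroup.map_commutator,
      commutator_eq_bot_iff_commute.2 (fun b hb c hc => triangle_B_C T b hb c hc), Subgroup.map_bot]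

/-- Normal subgroups are central or everything, given that distinct members have distinct centralizers. -/
theorem QuasiData.normal_dichotomy
    (hsep : ∀ A ∈ S, ∀ C ∈ S, A ≠ C → centralizingMembers S A ≠ centralizingMembers S C)
    (N : Subgroup G) [hN : N.Normal] : N = ⊤ ∨ N ≤ Subgroup.center G := by
  by_contra hcon
  push Not at hcon
  obtain ⟨hne, hcen⟩ := hcon
  have hnoeq : ∀ U ∈ S, ∀ V ∈ S, IsRankOnePair U V → U.map (QuotientGroup.mk' N) ≠ V.map (QuotientGroup.mk' N) :=
    fun U hU V hV hr e => hne (by rw [← QuotientGroup.ker_mk' N]; exact D.ker_eq_top _ hU hV hr e)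
  have hfix : ∀ n ∈ N, ∀ A ∈ S, conjBy A n = A := by
    intro n hn A hA
    by_contra hA'
    have hB := D.root.conj_mem A hA n
    have emap : (conjBy A n).map (QuotientGroup.mk' N) = A.map (QuotientGroup.mk' N) := by
      rw [map_conjBy, show QuotientGroup.mk' N n = 1 from (QuotientGroup.eq_one_iff n).2 hn, conjBy_one]
    have key : ∀ U V C : Subgroup G, V ∈ S → C ∈ S → U.map (QuotientGroup.mk' N) = V.map (QuotientGroup.mk' N) →
        ⁅C, U⁆ = ⊥ → ⁅C, V⁆ = ⊥ := by
      intro U V C hV hC e h0
      have h1 : ⁅C, V⁆.map (QuotientGroup.mk' N) = ⊥ := by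
        rw [Subgroup.map_commutator, ← e, ← Subgroup.map_commutator, h0, Subgroup.map_bot]
      rcases D.root.pair C hC V hV with h | h | h
      · exact h
      · exfalso
        rw [Subgroup.map_commutator] at h1
        exact rankOne_not_commute (map_rankOne (QuotientGroup.mk' N) h (hnoeq C hC V hV h)) h1
      · exfalso
        rw [Subgroup.map_eq_bot_iff, QuotientGroup.ker_mk'] at h1
        exact hne (D.all_le_of_mem h.1 h1)
    refine hsep _ hB A hA hA' (Set.ext fun C => ?_)
    rw [centralizingMembers_mem_iff, centralizingMembers_mem_iff]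
    exact ⟨fun h => ⟨h.1, key _ A C hA h.1 emap h.2⟩, fun h => ⟨h.1, key A _ C hB h.1 emap.symm h.2⟩⟩
  refine hcen fun n hn => ?_
  -- n centralizes every member
  have hall : (⊤ : Subgroup G) ≤ Subgroup.centralizer {n} := by
    rw [← D.root.generates, iSup₂_le_iff]
    intro A hA a ha
    rw [Subgroup.mem_centralizer_singleton_iff]
    by_contra hne'
    set x := n * a * n⁻¹ * a⁻¹ with hx
    have hxA : x ∈ A := by
      refine mul_mem ?_ (inv_mem ha)
      have := conj_mem_conjBy (g := n) ha
      rwa [hfix n hn A hA] at this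
    have hxN : x ∈ N := by
      rw [hx, show n * a * n⁻¹ * a⁻¹ = n * (a * n⁻¹ * a⁻¹) by group]
      exact mul_mem hn (hN.conj_mem _ (inv_mem hn) a)
    have hx1 : x ≠ 1 := fun e => hne' (by
      rw [hx, mul_inv_eq_one, mul_inv_eq_iff_eq_mul] at e; exact e.symm)
    obtain ⟨P, hP, hr⟩ := partner_of_connected D.conn D.two A hA
    refine rankOne_eq_one_of_normalizes hr hxA (hfix x hxN P hP) |> hx1
  exact Subgroup.mem_center_iff.2 fun g => Subgroup.mem_centralizer_singleton_iff.1 (hall (Subgroup.mem_top g))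

end Cfsg.Agent.RootSub
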