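import Cfsg.Agent.Lib.SL2Presentation.Model
set_option autoImplicit false

/-! Homomorphisms out of SL₂ over a finite field from the rank one relations. -/

namespace Cfsg.Agent.RootSub

open Matrix
open Cfsg.Agent.SL2Presentation (uL tL)

variable {F : Type*} [Field F] {G : Type*} [Group G]

/-- The element x(t) y(-1/t) x(t). -/
def nEl (x y : F → G) (t : F) : G := x t * y (-t⁻¹) * x t

/-- The diagonal element n(t) n(-1). -/
def hEl (x y : F → G) (t : F) : G := nEl x y t * nEl x y (-1)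

/-- The relations of a special rank one group. -/
structure SL2Rels (x y : F → G) : Prop where
  addX : ∀ s t, x (s + t) = x s * x t
  addY : ∀ s t, y (s + t) = y s * y t
  braid : ∀ t, t ≠ 0 → nEl x y t = y (-t⁻¹) * x t * y (-t⁻¹)
  conjX : ∀ t, t ≠ 0 → ∀ s, nEl x y t * x s * (nEl x y t)⁻¹ = y (-(s / t ^ 2))
  conjY : ∀ t, t ≠ 0 → ∀ r, nEl x y t * y r * (nEl x y t)⁻¹ = x (-(r * t ^ 2))
  gen : Subgroup.closure (Set.range x ∪ Set.range y) = ⊤

namespace SL2Rels

variable {x y : F → G} (R : SL2Rels x y)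
include R

local notation "n" => nEl x y
local notation "h" => hEl x y

theorem x_zero : x 0 = 1 := by
  have := R.addX 0 0
  rw [add_zero] at this
  simpa using this

theorem y_zero : y 0 = 1 := by
  have := R.addY 0 0
  rw [add_zero] at this
  simpa using this

theorem x_neg (t : F) : x (-t) = (x t)⁻¹ :=
  eq_inv_of_mul_eq_one_left (by rw [← R.addX, neg_add_cancel, R.x_zero])

theorem y_neg (t : F) : y (-t) = (y t)⁻¹ :=
  eq_inv_of_mul_eq_one_left (by rw [← R.addY, neg_add_cancel, R.y_zero])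

theorem n_neg (t : F) : n (-t) = (n t)⁻¹ := by
  simp only [nEl, inv_neg, R.x_neg, R.y_neg]
  group

theorem h_one : h 1 = 1 := by rw [hEl, R.n_neg, mul_inv_cancel]

theorem h_conjX {t : F} (ht : t ≠ 0) (s : F) : h t * x s * (h t)⁻¹ = x (s * t ^ 2) := by
  have e : h t * x s * (h t)⁻¹ = n t * (n (-1) * x s * (n (-1))⁻¹) * (n t)⁻¹ := by rw [hEl]; group
  rw [e, R.conjX _ (neg_ne_zero.2 one_ne_zero), R.conjY _ ht]
  congr 1; ring

theorem h_conjY {t : F} (ht : t ≠ 0) (r : F) : h t * y r * (h t)⁻¹ = y (r / t ^ 2) := by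
  have e : h t * y r * (h t)⁻¹ = n t * (n (-1) * y r * (n (-1))⁻¹) * (n t)⁻¹ := by rw [hEl]; group
  rw [e, R.conjY _ (neg_ne_zero.2 one_ne_zero), R.conjX _ ht]
  congr 1; ring

theorem h_conjN {s t : F} (hs : s ≠ 0) (ht : t ≠ 0) : h s * n t * (h s)⁻¹ = n (s ^ 2 * t) := by
  have e : h s * n t * (h s)⁻¹ =
      (h s * x t * (h s)⁻¹) * (h s * y (-t⁻¹) * (h s)⁻¹) * (h s * x t * (h s)⁻¹) := by rw [nEl]; group
  rw [e, R.h_conjX hs, R.h_conjY hs, nEl, show t * s ^ 2 = s ^ 2 * t by ring,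
    show -t⁻¹ / s ^ 2 = -(s ^ 2 * t)⁻¹ by field_simp]

theorem n_conjN {u t : F} (hu : u ≠ 0) (ht : t ≠ 0) : n u * n t * (n u)⁻¹ = n (u ^ 2 / t) := by
  have e : n u * n t * (n u)⁻¹ =
      (n u * x t * (n u)⁻¹) * (n u * y (-t⁻¹) * (n u)⁻¹) * (n u * x t * (n u)⁻¹) := by
    conv_lhs => arg 1; arg 2; unfold nEl
    group
  rw [e, R.conjX _ hu, R.conjY _ hu, R.braid _ (div_ne_zero (pow_ne_zero 2 hu) ht)]
  congr 3 <;> field_simp

theorem n_eq_h (t : F) : n t = h t * n 1 := by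
  rw [hEl, R.n_neg, inv_mul_cancel_right]

theorem n_one_mul_h {u : F} (hu : u ≠ 0) : n 1 * h u * (n 1)⁻¹ = h u⁻¹ := by
  have e : n 1 * h u * (n 1)⁻¹ = (n 1 * n u * (n 1)⁻¹) * (n 1 * n (-1) * (n 1)⁻¹) := by rw [hEl]; group
  rw [e, R.n_conjN one_ne_zero hu, R.n_conjN one_ne_zero (neg_ne_zero.2 one_ne_zero), hEl]
  congr 2 <;> field_simp

theorem n_one_sq : n 1 * n 1 = (h (-1))⁻¹ := by
  rw [hEl, R.n_neg]; simp

theorem commute_of_agree {a b : G} (hx : ∀ s, a * x s * a⁻¹ = b * x s * b⁻¹)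
    (hy : ∀ s, a * y s * a⁻¹ = b * y s * b⁻¹) (g : G) : Commute (b⁻¹ * a) g := by
  have h1 : Subgroup.closure (Set.range x ∪ Set.range y) ≤ Subgroup.centralizer {b⁻¹ * a} := by
    rw [Subgroup.closure_le]
    rintro _ (⟨s, rfl⟩ | ⟨s, rfl⟩) <;> rw [SetLike.mem_coe, Subgroup.mem_centralizer_singleton_iff]
    · have := congrArg (fun z => b⁻¹ * z * a) (hx s)
      simpa [mul_assoc] using this.symm
    · have := congrArg (fun z => b⁻¹ * z * a) (hy s)
      simpa [mul_assoc] using this.symm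
  rw [R.gen] at h1
  exact (Subgroup.mem_centralizer_singleton_iff.1 (h1 (Subgroup.mem_top g))).symm

/-- The three term identity. -/
theorem n_triple {s t : F} (hs : s ≠ 0) (ht : t ≠ 0) (hst : s + t ≠ 0) :
    n s * n (-(s + t)) * n t = n (s * t / (s + t)) := by
  set v := -(s + t) with hv
  have hv0 : v ≠ 0 := neg_ne_zero.2 hst
  set r := s * t / (s + t) with hr
  have hr0 : r ≠ 0 := div_ne_zero (mul_ne_zero hs ht) hst
  have hyx : ∀ u, u ≠ 0 → y (-u⁻¹) = x (-u) * n u * x (-u) := fun u _ => by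
    rw [nEl, R.x_neg]; group
  have h1 : y (-r⁻¹) = y (-s⁻¹) * y (-t⁻¹) := by
    rw [← R.addY]; congr 1; rw [hr]; field_simp; ring
  have h2 : x v = y v⁻¹ * n v * y v⁻¹ := by
    rw [R.braid v hv0, R.y_neg]; group
  have h3 : n s * y v⁻¹ = x (-(v⁻¹ * s ^ 2)) * n s := by
    rw [← R.conjY s hs]; group
  have h4 : y v⁻¹ * n t = n t * x (-(v⁻¹ * t ^ 2)) := by
    have h5 := R.conjX t ht (-(v⁻¹ * t ^ 2))
    rw [show -(-(v⁻¹ * t ^ 2) / t ^ 2) = v⁻¹ by field_simp] at h5
    rw [← h5]; group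
  have h6 : x (-r) * n r * x (-r) = x (-r) * (n s * n v * n t) * x (-r) := by
    rw [← hyx r hr0, h1, hyx s hs, hyx t ht]
    calc x (-s) * n s * x (-s) * (x (-t) * n t * x (-t))
        = x (-s) * n s * x v * n t * x (-t) := by
          rw [hv, show -(s + t) = -s + -t by ring, R.addX]; group
      _ = x (-s) * (n s * y v⁻¹) * n v * (y v⁻¹ * n t) * x (-t) := by rw [h2]; group
      _ = (x (-s) * x (-(v⁻¹ * s ^ 2))) * (n s * n v * n t) * (x (-(v⁻¹ * t ^ 2)) * x (-t)) := by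
          rw [h3, h4]; group
      _ = x (-r) * (n s * n v * n t) * x (-r) := by
          rw [← R.addX, ← R.addX]; congr 3 <;> rw [hr, hv] <;> field_simp <;> ring
  exact (mul_left_cancel (mul_right_cancel h6)).symm

variable [Finite F]

theorem h_comm {s t : F} (hs : s ≠ 0) (ht : t ≠ 0) : Commute (h s) (h t) := by
  obtain ⟨g, hg⟩ := IsCyclic.exists_monoid_generator (α := Fˣ)
  have key : ∀ u : F, u ≠ 0 → ∃ k : ℕ, ∀ a : G, Commute ((h (g : F) ^ k)⁻¹ * h u) a := by
    intro u hu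
    obtain ⟨k, hk⟩ := Submonoid.mem_powers_iff _ _ |>.1 (hg (Units.mk0 u hu))
    have hku : (g : F) ^ k = u := by rw [← Units.val_pow_eq_pow_val, hk]; rfl
    refine ⟨k, fun a => R.commute_of_agree (fun v => ?_) (fun v => ?_) a⟩
    · rw [R.h_conjX hu]
      have : ∀ j : ℕ, ∀ v, h (g : F) ^ j * x v * (h (g : F) ^ j)⁻¹ = x (v * ((g : F) ^ j) ^ 2) := by
        intro j
        induction j with
        | zero => simp
        | succ j ih =>
          intro v
          rw [pow_succ, show h (g : F) ^ j * h (g : F) * x v * (h (g : F) ^ j * h (g : F))⁻¹ =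
            h (g : F) ^ j * (h (g : F) * x v * (h (g : F))⁻¹) * (h (g : F) ^ j)⁻¹ by group,
            R.h_conjX g.ne_zero, ih]
          congr 1; ring
      rw [this, hku]
    · rw [R.h_conjY hu]
      have : ∀ j : ℕ, ∀ v, h (g : F) ^ j * y v * (h (g : F) ^ j)⁻¹ = y (v / ((g : F) ^ j) ^ 2) := by
        intro j
        induction j with
        | zero => simp
        | succ j ih =>
          intro v
          rw [pow_succ, show h (g : F) ^ j * h (g : F) * y v * (h (g : F) ^ j * h (g : F))⁻¹ =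
            h (g : F) ^ j * (h (g : F) * y v * (h (g : F))⁻¹) * (h (g : F) ^ j)⁻¹ by group,
            R.h_conjY g.ne_zero, ih]
          congr 1; ring
      rw [this, hku]
  obtain ⟨i, hi⟩ := key s hs
  obtain ⟨j, hj⟩ := key t ht
  have e1 : h s = h (g : F) ^ i * ((h (g : F) ^ i)⁻¹ * h s) := by group
  have e2 : h t = h (g : F) ^ j * ((h (g : F) ^ j)⁻¹ * h t) := by group
  rw [e1, e2]
  exact (((Commute.refl _).pow_pow i j).mul_right (hj _).symm).mul_left ((hi _).mul_right (hi _))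

theorem h_sq_mul {s u : F} (hs : s ≠ 0) (hu : u ≠ 0) : h (s ^ 2 * u) = h (s ^ 2) * h u := by
  have h1 : h s * h u * (h s)⁻¹ = (h s * n u * (h s)⁻¹) * (h s * n (-1) * (h s)⁻¹) := by
    conv_lhs => arg 1; arg 2; unfold hEl
    group
  rw [(R.h_comm hs hu).eq, mul_inv_cancel_right, R.h_conjN hs hu,
    R.h_conjN hs (neg_ne_zero.2 one_ne_zero), mul_neg_one] at h1
  rw [(R.h_comm (pow_ne_zero 2 hs) hu).eq, h1, hEl, hEl, R.n_neg (s ^ 2)]
  group

/-- The defining identity for h. -/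
theorem h_triple {s t : F} (hs : s ≠ 0) (ht : t ≠ 0) (hst : s + t ≠ 0) :
    h s * h (-(s + t))⁻¹ * h t = h (s * t / (s + t)) * h (-1) := by
  have h1 := R.n_triple hs ht hst
  have hv0 : -(s + t) ≠ 0 := neg_ne_zero.2 hst
  rw [R.n_eq_h s, R.n_eq_h (-(s + t)), R.n_eq_h t, R.n_eq_h (s * t / (s + t))] at h1
  have h2 : h s * h (-(s + t))⁻¹ * (h (-1))⁻¹ * h t = h (s * t / (s + t)) := by
    refine mul_right_cancel (b := n 1) ?_
    rw [← h1, ← R.n_one_mul_h hv0, ← R.n_one_sq]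
    group
  rw [← h2, mul_assoc _ (h t), (R.h_comm ht (neg_ne_zero.2 one_ne_zero)).eq]
  group

/-- h is multiplicative. -/
theorem h_mul {s t : F} (hs : s ≠ 0) (ht : t ≠ 0) : h (s * t) = h s * h t := by
  obtain ⟨g, hg⟩ := IsCyclic.exists_monoid_generator (α := Fˣ)
  have hg0 : (g : F) ≠ 0 := g.ne_zero
  have hsq : h ((g : F) ^ 2) = h (g : F) * h (g : F) := by
    by_cases hgs : IsSquare (g : F)
    · obtain ⟨w, hw⟩ := hgs
      have hw0 : w ≠ 0 := fun e => hg0 (by rw [hw, e, zero_mul])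
      have := R.h_sq_mul hw0 hg0
      rw [← sq] at hw
      rw [← hw, ← sq] at this
      exact this
    have h2 : (2 : F) ≠ 0 := fun h2 =>
      hgs (FiniteField.isSquare_of_char_two ((ringChar.spec F 2).1 (by simpa using h2) |> fun hd =>
        ((Nat.prime_dvd_prime_iff_eq (CharP.char_is_prime F (ringChar F)) Nat.prime_two).1 hd)) _)
    have hm1 : (-1 : F) ≠ 0 := neg_ne_zero.2 one_ne_zero
    by_cases hi : IsSquare (-1 : F)
    · obtain ⟨i, hi⟩ := hi
      have hi0 : i ≠ 0 := fun e => hm1 (by rw [hi, e, zero_mul])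
      have hgg : (g : F) + g ≠ 0 := by rw [← two_mul]; exact mul_ne_zero h2 hg0
      have h1 := R.h_triple hg0 hg0 hgg
      have hhalf : (g : F) * g / (g + g) ≠ 0 := div_ne_zero (mul_ne_zero hg0 hg0) hgg
      have e1 : (-((g : F) + g))⁻¹ = ((g : F)⁻¹) ^ 2 * (i ^ 2 * ((g : F) * g / (g + g))) := by
        rw [sq i, ← hi]; field_simp <;> ring_nf
      rw [e1, R.h_sq_mul (inv_ne_zero hg0) (mul_ne_zero (pow_ne_zero 2 hi0) hhalf),
        R.h_sq_mul hi0 hhalf] at h1
      have h3 : h (((g : F)⁻¹) ^ 2) * h ((g : F) ^ 2) = 1 := by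
        rw [← R.h_sq_mul (inv_ne_zero hg0) (pow_ne_zero 2 hg0), ← mul_pow, inv_mul_cancel₀ hg0, one_pow,
          R.h_one]
      rw [show (-1 : F) = i ^ 2 by rw [sq, hi]] at h1
      have c1 := R.h_comm hg0 hhalf
      have c2 := R.h_comm (pow_ne_zero 2 hi0) hhalf
      have c3 := R.h_comm hg0 (pow_ne_zero 2 hi0)
      have h4 : h (g : F) * h (((g : F)⁻¹) ^ 2) * h (g : F) * (h ((g : F) * g / (g + g)) * h (i ^ 2)) =
          1 * (h ((g : F) * g / (g + g)) * h (i ^ 2)) := by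
        rw [one_mul]
        refine Eq.trans ?_ h1
        have cc : Commute (h (g : F)) (h ((g : F) * g / (g + g)) * h (i ^ 2)) := c1.mul_right c3
        rw [mul_assoc (h (g : F) * _) (h (g : F)), cc.eq, c2.eq]
        group
      have h5 := mul_right_cancel h4
      rw [mul_assoc, (R.h_comm (pow_ne_zero 2 (inv_ne_zero hg0)) hg0).eq, ← mul_assoc,
        mul_eq_one_iff_eq_inv] at h5
      rw [h5, ← mul_eq_one_iff_inv_eq.1 h3]
    · obtain ⟨a, b, hab⟩ : ∃ a b : F, a ^ 2 + b ^ 2 = -1 := by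
        haveI := Fintype.ofFinite F
        obtain ⟨a, b, hab⟩ := FiniteField.exists_root_sum_quadratic (f := (Polynomial.X ^ 2 : Polynomial F))
          (g := Polynomial.X ^ 2 - Polynomial.C (-1)) (Polynomial.degree_X_pow 2)
          (Polynomial.degree_X_pow_sub_C (by norm_num) _) (FiniteField.odd_card_of_char_ne_two (fun hc => h2 (by
            have : CharP F 2 := by rw [← hc]; exact ringChar.charP F
            exact CharTwo.two_eq_zero)))
        simp only [Polynomial.eval_pow, Polynomial.eval_X, Polynomial.eval_sub, Polynomial.eval_C] at hab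
        exact ⟨a, b, by linear_combination hab⟩
      have ha : a ≠ 0 := fun e => hi ⟨b, by rw [← hab, e]; ring⟩
      have hb : b ≠ 0 := fun e => hi ⟨a, by rw [← hab, e]; ring⟩
      have hsum : (1 : F) + a ^ 2 = -(b ^ 2) := by linear_combination hab
      have h1 := R.h_triple one_ne_zero (pow_ne_zero 2 ha) (by rw [hsum]; exact neg_ne_zero.2 (pow_ne_zero 2 hb))
      rw [R.h_one, one_mul, hsum, neg_neg, one_mul,
        show a ^ 2 / -(b ^ 2) = (a / b) ^ 2 * (-1) by field_simp,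
        R.h_sq_mul (div_ne_zero ha hb) hm1, ← inv_pow, ← R.h_sq_mul (inv_ne_zero hb) (pow_ne_zero 2 ha),
        ← mul_pow, inv_mul_eq_div] at h1
      have hh : h (-1) * h (-1) = 1 := by rwa [mul_assoc, left_eq_mul] at h1
      -- g is minus a square
      obtain ⟨m, hm⟩ := Submonoid.mem_powers_iff _ _ |>.1 (hg (-1 : Fˣ))
      have hm' : (g : F) ^ m = -1 := by rw [← Units.val_pow_eq_pow_val, hm]; simp
      rcases Nat.even_or_odd m with ⟨j, rfl⟩ | ⟨j, rfl⟩
      · exact absurd ⟨(g : F) ^ j, by rw [← pow_add, hm']⟩ hi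
      have hgw : (g : F) = (((g : F) ^ j)⁻¹) ^ 2 * (-1) := by
        rw [← hm']; field_simp; ring
      have hw0 : ((g : F) ^ j)⁻¹ ≠ 0 := inv_ne_zero (pow_ne_zero _ hg0)
      generalize ((g : F) ^ j)⁻¹ = w at hgw hw0
      have c := R.h_comm (pow_ne_zero 2 hw0) hm1
      rw [show (g : F) ^ 2 = w ^ 2 * w ^ 2 by rw [hgw]; ring, R.h_sq_mul hw0 (pow_ne_zero 2 hw0), hgw,
        R.h_sq_mul hw0 hm1, mul_assoc, ← mul_assoc (h (-1)), c.symm.eq, mul_assoc (h (w ^ 2)) (h (-1)),
        hh, mul_one]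
  have hpow : ∀ k : ℕ, h ((g : F) ^ k) = h (g : F) ^ k := by
    intro k
    induction k using Nat.twoStepInduction with
    | zero => simp [R.h_one]
    | one => simp
    | more k ih _ =>
      rw [show (g : F) ^ (k + 2) = (g : F) ^ 2 * (g : F) ^ k by ring,
        R.h_sq_mul hg0 (pow_ne_zero k hg0), hsq, ih, add_comm k 2, pow_add, sq]
  obtain ⟨i, hi⟩ := Submonoid.mem_powers_iff _ _ |>.1 (hg (Units.mk0 s hs))
  obtain ⟨j, hj⟩ := Submonoid.mem_powers_iff _ _ |>.1 (hg (Units.mk0 t ht))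
  have hi' : (g : F) ^ i = s := by rw [← Units.val_pow_eq_pow_val, hi]; rfl
  have hj' : (g : F) ^ j = t := by rw [← Units.val_pow_eq_pow_val, hj]; rfl
  rw [← hi', ← hj', ← pow_add, hpow, hpow, hpow, pow_add]

/-- The homomorphism on SL₂(F). -/
theorem exists_hom : ∃ φ : SpecialLinearGroup (Fin 2) F →* G, (∀ t, φ (uL t) = x t) ∧
    (∀ t, φ (tL * uL (-t) * tL⁻¹) = y t) ∧
    ∀ M : SpecialLinearGroup (Fin 2) F,
      (M.1 1 0 = 0 → φ M = h (M.1 0 0) * x (M.1 0 1 / M.1 0 0)) ∧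
      (M.1 1 0 ≠ 0 → φ M = x (M.1 0 0 / M.1 1 0) * n (-(M.1 1 0)⁻¹) * x (M.1 1 1 / M.1 1 0)) := by
  classical
  let f : SpecialLinearGroup (Fin 2) F → G := fun M =>
    if M.1 1 0 = 0 then h (M.1 0 0) * x (M.1 0 1 / M.1 0 0)
      else x (M.1 0 0 / M.1 1 0) * n (-(M.1 1 0)⁻¹) * x (M.1 1 1 / M.1 1 0)
  have f_one : f 1 = 1 := by simp [f, R.h_one, R.x_zero]
  have f_u : ∀ u, f (uL u) = x u := fun u => by simp [f, uL, R.h_one]
  have f_t : f tL = n 1 := by simp [f, tL, R.x_zero]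
  let T : Subgroup (SpecialLinearGroup (Fin 2) F) :=
    { carrier := {N | ∀ M, f (M * N) = f M * f N}
      one_mem' := fun M => by rw [mul_one, f_one, mul_one]
      mul_mem' := fun {a b} ha hb M => by rw [← mul_assoc, hb, ha, mul_assoc, ← hb a]
      inv_mem' := fun {a} ha M => by
        have h1 := ha (M * a⁻¹)
        have h2 := ha a⁻¹
        rw [inv_mul_cancel_right] at h1
        rw [inv_mul_cancel, f_one] at h2
        rw [h1, eq_inv_of_mul_eq_one_left h2.symm, mul_inv_cancel_right] }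
  have hu : ∀ u, uL u ∈ T := by
    intro u M
    rw [f_u]
    have hd := M.2
    rw [det_fin_two] at hd
    simp only [f, SL2Presentation.mul_val]
    simp only [uL, Matrix.mul_apply, Fin.sum_univ_two, of_apply, cons_val', cons_val_zero, cons_val_one,
      empty_val', cons_val_fin_one, mul_one, mul_zero, add_zero]
    split_ifs with hc
    · have ha : M.1 0 0 ≠ 0 := fun e => by simp [hc, e] at hd
      rw [mul_assoc, ← R.addX]
      congr 2; field_simp; ring
    · rw [mul_assoc (_ * n _), ← R.addX]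
      congr 2; field_simp; ring
  have ht : tL ∈ T := by
    intro M
    rw [f_t]
    have hd := M.2
    rw [det_fin_two] at hd
    simp only [f, SL2Presentation.mul_val]
    simp only [tL, Matrix.mul_apply, Fin.sum_univ_two, of_apply, cons_val', cons_val_zero, cons_val_one,
      empty_val', cons_val_fin_one, mul_one, mul_zero, add_zero, zero_add, mul_neg]
    generalize M.1 0 0 = a, M.1 0 1 = b, M.1 1 0 = c, M.1 1 1 = d at hd
    by_cases hc : c = 0
    · subst hc
      have ha : a ≠ 0 := fun e => by simp [e] at hd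
      have hd' : d = a⁻¹ := eq_inv_of_mul_eq_one_right (by linear_combination hd)
      subst hd'
      rw [if_neg (neg_ne_zero.2 (inv_ne_zero ha)), if_pos rfl, zero_div, R.x_zero, mul_one,
        show h a * x (b / a) * n 1 = h a * x (b / a) * (h a)⁻¹ * (h a * n 1) by group, R.h_conjX ha,
        ← R.n_eq_h]
      congr 2 <;> field_simp
    rw [if_neg hc]
    by_cases hd0 : d = 0
    · subst hd0
      have hb : b = -c⁻¹ := by
        field_simp; linear_combination -hd
      subst hb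
      rw [neg_zero, if_pos rfl, neg_neg, zero_div, R.x_zero, mul_one, R.n_eq_h (-c⁻¹), mul_assoc (x _),
        mul_assoc (h _), R.n_one_sq, show -c⁻¹ = c⁻¹ * (-1 : F) by ring,
        R.h_mul (inv_ne_zero hc) (neg_ne_zero.2 one_ne_zero), mul_inv_cancel_right,
        show x (a / c) * h c⁻¹ = h c⁻¹ * ((h c⁻¹)⁻¹ * x (a / c) * h c⁻¹) by group]
      congr 1
      rw [eq_comm, ← mul_right_inj (h c⁻¹), ← mul_left_inj (h c⁻¹)⁻¹, R.h_conjX (inv_ne_zero hc)]
      rw [show h c⁻¹ * ((h c⁻¹)⁻¹ * x (a / c) * h c⁻¹) * (h c⁻¹)⁻¹ = x (a / c) by group]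
      congr 1; field_simp
    rw [if_neg (neg_ne_zero.2 hd0)]
    have hv : d / c ≠ 0 := div_ne_zero hd0 hc
    have e1 : x (d / c) = y (c / d) * n (d / c) * y (c / d) := by
      rw [R.braid _ hv, inv_div, R.y_neg]; group
    have e2 : n (-c⁻¹) * y (c / d) = x (-(c * d)⁻¹) * n (-c⁻¹) := by
      have := R.conjY (-c⁻¹) (neg_ne_zero.2 (inv_ne_zero hc)) (c / d)
      rw [show -(c / d * (-c⁻¹) ^ 2) = -(c * d)⁻¹ by field_simp] at this
      rw [← this]; group
    have e3 : y (c / d) * n 1 = n 1 * x (-(c / d)) := by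
      have := R.conjX 1 one_ne_zero (-(c / d))
      rw [show -(-(c / d) / 1 ^ 2) = c / d by ring] at this
      rw [← this]; group
    have e4 : n (-c⁻¹) * n (d / c) * n 1 = n (d⁻¹) := by
      rw [R.n_eq_h (-c⁻¹), mul_assoc (h _) (n 1), R.n_eq_h (d / c),
        show n 1 * (h (d / c) * n 1) = n 1 * h (d / c) * (n 1)⁻¹ * (n 1 * n 1) by group, R.n_one_mul_h hv,
        R.n_one_sq, ← mul_assoc (h (-c⁻¹)), ← R.h_mul (neg_ne_zero.2 (inv_ne_zero hc)) (inv_ne_zero hv),
        show -c⁻¹ * (d / c)⁻¹ = d⁻¹ * (-1 : F) by field_simp, R.h_mul (inv_ne_zero hd0) (neg_ne_zero.2 one_ne_zero),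
        mul_inv_cancel_right, ← R.n_eq_h]
    symm
    calc x (a / c) * n (-c⁻¹) * x (d / c) * n 1
        = x (a / c) * (n (-c⁻¹) * y (c / d)) * n (d / c) * (y (c / d) * n 1) := by rw [e1]; group
      _ = x (a / c) * x (-(c * d)⁻¹) * (n (-c⁻¹) * n (d / c) * n 1) * x (-(c / d)) := by
          rw [e2, e3]; group
      _ = _ := by
          rw [e4, ← R.addX]
          congr 3
          · field_simp; linear_combination hd
          · field_simp
          · field_simp
  have hlow : ∀ s, tL * uL s * tL⁻¹ ∈ T := fun s => mul_mem (mul_mem ht (hu s)) (inv_mem ht)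
  have htop : ∀ M, M ∈ T := by
    haveI := Fintype.ofFinite F
    obtain ⟨ω, hω⟩ := IsCyclic.exists_generator (α := Fˣ)
    have hd : SL2Presentation.dL ω ∈ T := by
      let L : SpecialLinearGroup (Fin 2) F := ⟨!![1, 0; -(ω : F)⁻¹, 1], by simp [det_fin_two]⟩
      have hL : tL * uL (ω : F)⁻¹ * tL⁻¹ = L := by
        rw [mul_inv_eq_iff_eq_mul]
        apply Subtype.ext
        rw [SL2Presentation.mul_val, SL2Presentation.mul_val]
        ext i j; fin_cases i <;> fin_cases j <;> simp [L, tL, uL, Matrix.mul_apply, Fin.sum_univ_two]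
      have e : SL2Presentation.dL ω =
          uL (ω : F) * (tL * uL (ω : F)⁻¹ * tL⁻¹) * uL (ω : F) * tL⁻¹ := by
        rw [hL, eq_mul_inv_iff_mul_eq]
        apply Subtype.ext
        rw [SL2Presentation.mul_val, SL2Presentation.mul_val, SL2Presentation.mul_val, SL2Presentation.dL_coe]
        ext i j; fin_cases i <;> fin_cases j <;> simp [L, tL, uL, Matrix.mul_apply, Fin.sum_univ_two]
      rw [e]
      exact mul_mem (mul_mem (mul_mem (hu _) (hlow _)) (hu _)) (inv_mem ht)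
    intro M
    rw [SL2Presentation.closure_eq_top ω hω T hu hd ht]
    exact Subgroup.mem_top M
  refine ⟨MonoidHom.mk' f (fun a b => htop b a), f_u, fun t => ?_, fun M => ⟨fun e => if_pos e, fun e => if_neg e⟩⟩
  rw [map_mul, map_mul, map_inv]
  simp only [MonoidHom.mk'_apply, f_t, f_u]
  rw [R.conjX 1 one_ne_zero]
  congr 1; ring

end SL2Rels

end Cfsg.Agent.RootSub
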