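import Cfsg.Agent.Lib.RootSub.SpecialPair
set_option autoImplicit false

/-! Degenerate sets: a rank one pair A, Q with the same commuting partners has all elements of order ≤ 3. -/

namespace Cfsg.Agent.RootSub

open Cfsg

variable {G : Type*} [Group G] {S : Set (Subgroup G)} {A B C P Q R T U V W : Subgroup G}

/-- Same commuting partners. -/
def Cl (S : Set (Subgroup G)) (U V : Subgroup G) : Prop := commutingPartners S U = commutingPartners S V

theorem commutingPartners_conj (hS : IsRootSubgroupSet S) (U : Subgroup G) (g : G) :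
    commutingPartners S (conjBy U g) = (fun V => conjBy V g) '' commutingPartners S U := by
  ext V
  constructor
  · rintro ⟨h1, h2, h3⟩
    refine ⟨conjBy V g⁻¹, ⟨hS.conj_mem V h1 _, fun e => h2 ?_, ?_⟩, ?_⟩
    · rw [← e, conjBy_conjBy, mul_inv_cancel, conjBy_one]
    · have := congrArg (fun X => conjBy X g⁻¹) h3
      simp only [conjBy_commutator, conjBy_conjBy, inv_mul_cancel, conjBy_one, conjBy_eq_bot_iff.2 rfl] at this
      exact this
    · simp [conjBy_conjBy, conjBy_one]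
  · rintro ⟨X, ⟨h1, h2, h3⟩, rfl⟩
    exact ⟨hS.conj_mem X h1 g, fun e => h2 (conjBy_inj.1 e), by rw [← conjBy_commutator, h3, conjBy_eq_bot_iff]⟩

theorem cl_conj (hS : IsRootSubgroupSet S) (h : Cl S U V) (g : G) : Cl S (conjBy U g) (conjBy V g) := by
  rw [Cl, commutingPartners_conj hS, commutingPartners_conj hS, h]

theorem cl_trans (h : Cl S U V) (h' : Cl S V W) : Cl S U W := h.trans h'

theorem cl_symm (h : Cl S U V) : Cl S V U := h.symm

/-- A partner cannot move to an equivalent member unless trivially. -/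
theorem cl_fix (hS : IsRootSubgroupSet S) (hr : IsRankOnePair P U) (hne : ¬ Cl S P U) {r : G} (hr' : r ∈ U)
    (h : Cl S (conjBy P r) P) : r = 1 := by
  refine rankOne_eq_one_of_normalizes (rankOne_symm hr) hr' ?_
  by_contra he
  have hm : conjBy P r ∈ unipotentSubgroups P U :=
    unipotentSubgroups_conj (Subgroup.mem_sup_right hr') (left_mem_unipotentSubgroups P U)
  obtain ⟨x, -, e1, e2⟩ := rankOne_two_transitive hr (left_mem_unipotentSubgroups P U) hm (Ne.symm he)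
  apply hne
  rw [← e2] at h
  nth_rewrite 1 [← e1] at h
  have := cl_conj hS h x⁻¹
  rw [conjBy_conjBy, conjBy_conjBy, inv_mul_cancel, conjBy_one, conjBy_one] at this
  exact this.symm

/-- The configuration: A, Q a rank one pair with equal commuting partners, W one of them, R a partner of A and W. -/
structure Bad (S : Set (Subgroup G)) (A Q R W : Subgroup G) : Prop where
  root : IsRootSubgroupSet S
  deg : IsDegenerateRootSet S
  memA : A ∈ S
  memQ : Q ∈ S
  memR : R ∈ S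
  rankAQ : IsRankOnePair A Q
  same : Cl S A Q
  hW : W ∈ commutingPartners S A
  rankAR : IsRankOnePair A R
  rankWR : IsRankOnePair W R

/-- x and y act alike on the classes of the orbit of R under ⟨A, Q⟩. -/
def ActEq (S : Set (Subgroup G)) (A Q R : Subgroup G) (x y : G) : Prop :=
  ∀ z ∈ A ⊔ Q, Cl S (conjBy R (x * z)) (conjBy R (y * z))

variable (h : Bad S A Q R W)
include h

theorem bad_cl (hP : P ∈ unipotentSubgroups A Q) : Cl S A P := by
  obtain ⟨x, hx, rfl⟩ := hP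
  have hfix : ∀ V ∈ commutingPartners S A, conjBy V x = V := by
    intro V hV
    refine conjBy_eq_self_iff.2 (mem_normalizer_of_forall_commute fun v hv => ?_)
    have hV' : V ∈ commutingPartners S Q := h.same ▸ hV
    have hle : A ⊔ Q ≤ Subgroup.centralizer (V : Set G) :=
      sup_le (Subgroup.commutator_eq_bot_iff_le_centralizer.1 hV.2.2)
        (Subgroup.commutator_eq_bot_iff_le_centralizer.1 hV'.2.2)
    exact (Subgroup.mem_centralizer_iff.1 (hle hx) v hv).symm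
  rw [Cl, commutingPartners_conj h.root]
  ext V
  constructor
  · exact fun hV => ⟨V, hV, hfix V hV⟩
  · rintro ⟨U, hU, rfl⟩
    simp only [hfix U hU]
    exact hU

theorem bad_W (hP : P ∈ unipotentSubgroups A Q) : W ∈ commutingPartners S P := bad_cl h hP ▸ h.hW

theorem bad_W_commute {x : G} (hx : x ∈ A ⊔ Q) : ∀ w ∈ W, x * w = w * x := by
  have hle : A ⊔ Q ≤ Subgroup.centralizer (W : Set G) :=
    sup_le (Subgroup.commutator_eq_bot_iff_le_centralizer.1 h.hW.2.2)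
      (Subgroup.commutator_eq_bot_iff_le_centralizer.1 (bad_W h (right_mem_unipotentSubgroups h.rankAQ)).2.2)
  exact fun w hw => (Subgroup.mem_centralizer_iff.1 (hle hx) w hw).symm

theorem bad_rank_W {z : G} (hz : z ∈ A ⊔ Q) : IsRankOnePair W (conjBy R z) := by
  have := rankOne_conjBy h.rankWR z
  rwa [conjBy_eq_self_iff.2 (mem_normalizer_of_forall_commute (bad_W_commute h hz))] at this

theorem bad_rank {z : G} (hz : z ∈ A ⊔ Q) (hP : P ∈ unipotentSubgroups A Q) :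
    IsRankOnePair P (conjBy R z) ∧ ¬ Cl S P (conjBy R z) ∧ IsSpecialRankOnePair P (conjBy R z) := by
  have hS := h.root
  have hP' := unipotentSubgroups_conj (inv_mem hz) hP
  have hPS := mem_of_mem_unipotentSubgroups hS h.memA hP'
  have hclP := bad_cl h hP'
  have hncl : ¬ Cl S (conjBy P z⁻¹) R := fun hc =>
    rankOne_not_commute h.rankWR (by
      have : W ∈ commutingPartners S R := hc ▸ bad_W h hP'
      rw [Subgroup.commutator_comm]; exact this.2.2)
  have hr : IsRankOnePair (conjBy P z⁻¹) R := by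
    rcases hS.pair _ hPS R h.memR with h' | h' | h'
    · exfalso
      have hne : R ≠ conjBy P z⁻¹ := by
        intro e; exact hncl (by rw [← e]; rfl)
      have : R ∈ commutingPartners S A := hclP ▸ ⟨h.memR, hne, h'⟩
      exact rankOne_not_commute h.rankAR this.2.2
    · exact h'
    · exact absurd h' (h.deg _ hPS R h.memR)
  have hr' := rankOne_conjBy hr z
  rw [conjBy_conjBy, mul_inv_cancel, conjBy_one] at hr'
  refine ⟨hr', fun hc => hncl ?_, ?_⟩
  · have := cl_conj hS hc z⁻¹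
    rwa [conjBy_conjBy R, inv_mul_cancel, conjBy_one] at this
  · have hW' := bad_W h hP
    exact special_of_commuting hS (mem_of_mem_unipotentSubgroups hS h.memA hP) h.hW.1
      (hS.conj_mem R h.memR z) hW'.2.2 hW'.2.1 hr' (bad_rank_W h hz)

theorem bad_cl_inj {z : G} (hz : z ∈ A ⊔ Q) (hP : P ∈ unipotentSubgroups A Q) {p p' : G} (hp : p ∈ P)
    (hp' : p' ∈ P) (hc : Cl S (conjBy R (p * z)) (conjBy R (p' * z))) : p = p' := by
  obtain ⟨hr, hn, -⟩ := bad_rank h hz hP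
  have := cl_conj h.root hc p'⁻¹
  rw [conjBy_conjBy, conjBy_conjBy, inv_mul_cancel_left, ← mul_assoc, ← conjBy_conjBy] at this
  exact (inv_mul_eq_one.1 (cl_fix h.root (rankOne_symm hr) (fun hc => hn hc.symm)
    (mul_mem (inv_mem hp') hp) this)).symm

theorem bad_match {z : G} (hz : z ∈ A ⊔ Q) (hP : P ∈ unipotentSubgroups A Q)
    (hP' : T ∈ unipotentSubgroups A Q) {p : G} (hp : p ∈ P) :
    ∃ y ∈ T, Cl S (conjBy R (p * z)) (conjBy R (y * z)) := by
  obtain ⟨hr, -, hs⟩ := bad_rank h hz hP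
  obtain ⟨hr', -, hs'⟩ := bad_rank h hz hP'
  by_cases hp1 : p = 1
  · exact ⟨1, one_mem _, by rw [hp1]; rfl⟩
  obtain ⟨b, hb, hb1, e⟩ := hr.cond_left p hp hp1
  obtain ⟨y, hy, hy1, e'⟩ := hr'.cond_right b hb hb1
  refine ⟨y, hy, ?_⟩
  rw [← conjBy_conjBy, ← conjBy_conjBy, ← special_inv hs hp hp1 hb hb1 e,
    ← special_inv hs' hy hy1 hb hb1 e'.symm]
  exact cl_conj h.root ((bad_cl h hP).symm.trans (bad_cl h hP')) b

/-- The step: agreement at R z gives agreement at R (a z). -/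
theorem bad_step {z : G} (hz : z ∈ A ⊔ Q) {P₀ : Subgroup G} (hP₀ : P₀ ∈ unipotentSubgroups A Q)
    (hP : P ∈ unipotentSubgroups A Q) {p y a : G} (hp : p ∈ P) (hy : y ∈ P₀) (ha : a ∈ P₀)
    (hc : Cl S (conjBy R (p * z)) (conjBy R (y * z))) :
    Cl S (conjBy R (p * (a * z))) (conjBy R (y * (a * z))) := by
  have hS := h.root
  by_cases ha1 : a = 1
  · rw [ha1, one_mul]; exact hc
  by_cases hy1 : y = 1
  · subst hy1
    have : p = 1 := bad_cl_inj h hz hP hp (one_mem _) hc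
    rw [this]; rfl
  have hpX : p ∈ A ⊔ Q := unipotentSubgroups_le hP hp
  have hyX : y ∈ A ⊔ Q := unipotentSubgroups_le hP₀ hy
  have haX : a ∈ A ⊔ Q := unipotentSubgroups_le hP₀ ha
  have hP₀S := mem_of_mem_unipotentSubgroups hS h.memA hP₀
  have hPS := mem_of_mem_unipotentSubgroups hS h.memA hP
  obtain ⟨hr0, -, hs0⟩ := bad_rank h hz hP₀
  obtain ⟨hrP, hnP, hsP⟩ := bad_rank h hz hP
  have hW₀ := bad_W h hP₀
  have hWP := bad_W h hP
  have hrW := bad_rank_W h hz
  set U := conjBy R z with hU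
  have hUS : U ∈ S := hS.conj_mem R h.memR z
  have hsW : IsSpecialRankOnePair W U :=
    special_of_commuting hS h.hW.1 hP₀S hUS (by rw [Subgroup.commutator_comm]; exact hW₀.2.2)
      (Ne.symm hW₀.2.1) hrW hr0
  -- w ∈ W matched with the same element of U as a
  obtain ⟨b', hb', hb1', e'⟩ := hr0.cond_left a ha ha1
  obtain ⟨w, hw, hw1, ew⟩ := hrW.cond_right b' hb' hb1'
  have hcomm : ⁅conjBy U a, conjBy U w⁆ = ⊥ := by
    rw [← special_inv hs0 ha ha1 hb' hb1' e', ← special_inv hsW hw hw1 hb' hb1' ew.symm,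
      ← conjBy_commutator, hW₀.2.2, conjBy_eq_bot_iff]
  set V := conjBy U (w⁻¹ * a) with hV
  have hVS : V ∈ S := hS.conj_mem U hUS _
  have hUV : ⁅V, U⁆ = ⊥ := by
    have := congrArg (fun X => conjBy X w⁻¹) hcomm
    simp only [conjBy_commutator, conjBy_conjBy, inv_mul_cancel, conjBy_one, conjBy_eq_bot_iff.2 rfl] at this
    exact this
  have hne : V ≠ U := by
    intro e
    have := congrArg (fun X => conjBy X w) e
    simp only [hV, conjBy_conjBy, mul_inv_cancel_left] at this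
    exact hW₀.2.1 (eq_of_conj_partner hS h.hW.1 hUS hr0 hW₀.2.2 ha ha1 hw this.symm)
  have hwfix : ∀ X, X ∈ unipotentSubgroups A Q → conjBy X w⁻¹ = X := fun X hX =>
    conjBy_eq_self_iff.2 (inv_mem (mem_normalizer_of_forall_commute fun x hx =>
      (bad_W_commute h (unipotentSubgroups_le hX hx) w hw).symm))
  have hrV : ∀ X, X ∈ unipotentSubgroups A Q → IsRankOnePair X V := by
    intro X hX
    have := rankOne_conjBy (bad_rank h (mul_mem haX hz) hX).1 w⁻¹
    rw [hwfix X hX, conjBy_conjBy, ← mul_assoc, ← conjBy_conjBy R z] at this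
    exact this
  have hsV : ∀ X, X ∈ unipotentSubgroups A Q → IsSpecialRankOnePair X V := by
    intro X hX
    refine special_of_commuting hS (mem_of_mem_unipotentSubgroups hS h.memA hX) h.hW.1 hVS
      (bad_W h hX).2.2 (bad_W h hX).2.1 (hrV X hX) ?_
    have := rankOne_conjBy (bad_rank_W h (mul_mem haX hz)) w⁻¹
    rw [conjBy_self (inv_mem hw), conjBy_conjBy, ← mul_assoc, ← conjBy_conjBy R z] at this
    exact this
  -- matched elements
  obtain ⟨b, hb, hb1, eb⟩ := hr0.cond_left y hy hy1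
  have hyU : conjBy P₀ b = conjBy U y := special_inv hs0 hy hy1 hb hb1 eb
  have hp1 : p ≠ 1 := by
    rintro rfl
    exact hy1 (bad_cl_inj h hz hP₀ hy (one_mem _) hc.symm)
  obtain ⟨b2, hb2, hb21, eb2⟩ := hrP.cond_left p hp hp1
  have hpU' : conjBy P b2 = conjBy U p := special_inv hsP hp hp1 hb2 hb21 eb2
  have hbb : b2 = b := by
    have h1 : Cl S (conjBy P b2) (conjBy P b) := by
      rw [hpU']
      refine cl_trans (V := conjBy U y) ?_ ?_
      · rw [hU, conjBy_conjBy, conjBy_conjBy]; exact hc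
      · rw [← hyU]; exact cl_conj hS ((bad_cl h hP₀).symm.trans (bad_cl h hP)) b
    have h2 := cl_conj hS h1 b⁻¹
    rw [conjBy_conjBy, conjBy_conjBy, inv_mul_cancel, conjBy_one] at h2
    exact (inv_mul_eq_one.1 (cl_fix hS hrP hnP (mul_mem (inv_mem hb) hb2) h2)).symm
  subst b2
  obtain ⟨c, hcV, hc1, ec⟩ := (hrV P₀ hP₀).cond_left y hy hy1
  have hyV : conjBy P₀ c = conjBy V y := special_inv (hsV P₀ hP₀) hy hy1 hcV hc1 ec
  obtain ⟨p', hp', hp'1, ep'⟩ := (hrV P hP).cond_right c hcV hc1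
  have hpV' : conjBy P c = conjBy V p' := special_inv (hsV P hP) hp' hp'1 hcV hc1 ep'.symm
  -- the member c⁻¹ b P₀
  have hX0 : ⁅conjBy P₀ (c⁻¹ * b), P₀⁆ = ⊥ ∧ conjBy P₀ (c⁻¹ * b) ≠ P₀ := by
    refine ⟨?_, fun e => ?_⟩
    · have h1 : ⁅conjBy P₀ b, conjBy P₀ c⁆ = ⊥ := by
        rw [hyU, hyV, ← conjBy_commutator, Subgroup.commutator_comm, hUV, conjBy_eq_bot_iff]
      have := congrArg (fun X => conjBy X c⁻¹) h1
      simp only [conjBy_commutator, conjBy_conjBy, inv_mul_cancel, conjBy_one, conjBy_eq_bot_iff.2 rfl] at this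
      exact this
    · have := congrArg (fun X => conjBy X c) e
      simp only [conjBy_conjBy, mul_inv_cancel_left] at this
      rw [hyU, hyV, conjBy_inj] at this
      exact hne this.symm
  have hcl : Cl S (conjBy P₀ (c⁻¹ * b)) (conjBy P (c⁻¹ * b)) :=
    cl_conj hS ((bad_cl h hP₀).symm.trans (bad_cl h hP)) _
  have h1 : P₀ ∈ commutingPartners S (conjBy P (c⁻¹ * b)) := hcl ▸ ⟨hP₀S, hX0.2.symm, hX0.1⟩
  have h2 : conjBy P (c⁻¹ * b) ∈ commutingPartners S P₀ :=
    ⟨hS.conj_mem P hPS _, h1.2.1.symm, by rw [Subgroup.commutator_comm]; exact h1.2.2⟩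
  rw [show commutingPartners S P₀ = commutingPartners S P from (bad_cl h hP₀).symm.trans (bad_cl h hP)] at h2
  have hpp : p' = p := by
    have h3 : ⁅conjBy V p', conjBy U p⁆ = ⊥ := by
      rw [← hpU', ← hpV']
      have := congrArg (fun X => conjBy X c) h2.2.2
      simp only [conjBy_commutator, conjBy_conjBy, mul_inv_cancel_left, conjBy_eq_bot_iff.2 rfl] at this
      exact this
    have h4 : ⁅conjBy V p, conjBy U p⁆ = ⊥ := by rw [← conjBy_commutator, hUV, conjBy_eq_bot_iff]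
    refine rankOne_conjBy_inj (hrV P hP) hp' hp (by_contra fun hne' => ?_)
    have hm : ∀ q ∈ P, conjBy V q ∈ unipotentSubgroups P V := fun q hq =>
      unipotentSubgroups_conj (Subgroup.mem_sup_left hq) (right_mem_unipotentSubgroups (hrV P hP))
    obtain ⟨-, hsup⟩ := rankOne_of_unipotentSubgroups (hrV P hP) (hm p' hp') (hm p hp) hne'
    have hle : P ≤ Subgroup.centralizer ((conjBy U p : Subgroup G) : Set G) :=
      (le_sup_left.trans hsup.ge).trans (sup_le (Subgroup.commutator_eq_bot_iff_le_centralizer.1 h3)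
        (Subgroup.commutator_eq_bot_iff_le_centralizer.1 h4))
    refine rankOne_conjBy_ne_left hrP hp (unipotentSubgroups_eq_of_commute hrP
      (unipotentSubgroups_conj (Subgroup.mem_sup_left hp) (right_mem_unipotentSubgroups hrP))
      (left_mem_unipotentSubgroups P U) ?_)
    rw [Subgroup.commutator_comm]
    exact Subgroup.commutator_eq_bot_iff_le_centralizer.2 hle
  subst hpp
  have h5 : Cl S (conjBy V p') (conjBy V y) := by
    rw [← hpV', ← hyV]; exact cl_conj hS ((bad_cl h hP).symm.trans (bad_cl h hP₀)) c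
  have h6 := cl_conj hS h5 w
  rw [hV, hU] at h6
  simp only [conjBy_conjBy] at h6
  have e1 : ∀ x ∈ A ⊔ Q, w * (x * (w⁻¹ * a * z)) = x * (a * z) := by
    intro x hx
    calc w * (x * (w⁻¹ * a * z)) = (w * x) * (w⁻¹ * (a * z)) := by group
      _ = (x * w) * (w⁻¹ * (a * z)) := by rw [bad_W_commute h hx w hw]
      _ = x * (a * z) := by group
  rwa [← e1 p' hpX, ← e1 y hyX]

theorem bad_actEq_of_cl (hP : P ∈ unipotentSubgroups A Q) (hP' : T ∈ unipotentSubgroups A Q) {p y : G}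
    (hp : p ∈ P) (hy : y ∈ T) (hc : Cl S (conjBy R p) (conjBy R y)) : ActEq S A Q R p y := by
  intro z hz
  have key : ∀ z ∈ Subgroup.closure ((A : Set G) ∪ Q), z ∈ A ⊔ Q ∧
      ∀ P ∈ unipotentSubgroups A Q, ∀ T ∈ unipotentSubgroups A Q, ∀ p ∈ P, ∀ y ∈ T,
        Cl S (conjBy R p) (conjBy R y) → Cl S (conjBy R (p * z)) (conjBy R (y * z)) := by
    intro z hz
    induction hz using Subgroup.closure_induction_left with
    | one => exact ⟨one_mem _, fun P _ T _ p _ y _ hc => by simpa using hc⟩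
    | mul_left x hx w _ ih =>
      obtain ⟨hw, ih⟩ := ih
      obtain ⟨P₀, hP₀, hxP₀⟩ : ∃ P₀ ∈ unipotentSubgroups A Q, x ∈ P₀ := by
        rcases hx with hx | hx
        · exact ⟨A, left_mem_unipotentSubgroups A Q, hx⟩
        · exact ⟨Q, right_mem_unipotentSubgroups h.rankAQ, hx⟩
      refine ⟨mul_mem (unipotentSubgroups_le hP₀ hxP₀) hw, fun P hP T hT p hp y hy hc => ?_⟩
      obtain ⟨y0, hy0, h0⟩ := bad_match h hw hP hP₀ hp
      exact cl_trans (bad_step h hw hP₀ hP hp hy0 hxP₀ h0)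
        (bad_step h hw hP₀ hT hy hy0 hxP₀ ((ih P hP T hT p hp y hy hc).symm.trans h0)).symm
    | inv_mul_cancel x hx w _ ih =>
      obtain ⟨hw, ih⟩ := ih
      obtain ⟨P₀, hP₀, hxP₀⟩ : ∃ P₀ ∈ unipotentSubgroups A Q, x⁻¹ ∈ P₀ := by
        rcases hx with hx | hx
        · exact ⟨A, left_mem_unipotentSubgroups A Q, inv_mem hx⟩
        · exact ⟨Q, right_mem_unipotentSubgroups h.rankAQ, inv_mem hx⟩
      refine ⟨mul_mem (unipotentSubgroups_le hP₀ hxP₀) hw, fun P hP T hT p hp y hy hc => ?_⟩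
      obtain ⟨y0, hy0, h0⟩ := bad_match h hw hP hP₀ hp
      exact cl_trans (bad_step h hw hP₀ hP hp hy0 hxP₀ h0)
        (bad_step h hw hP₀ hT hy hy0 hxP₀ ((ih P hP T hT p hp y hy hc).symm.trans h0)).symm
  rw [Subgroup.closure_union, Subgroup.closure_eq, Subgroup.closure_eq] at key
  exact (key z hz).2 P hP T hP' p hp y hy hc

omit h in
theorem actEq_mul (hS : IsRootSubgroupSet S) {x y x' y' : G} (hy : y ∈ A ⊔ Q)
    (h1 : ActEq S A Q R x x') (h2 : ActEq S A Q R y y') : ActEq S A Q R (x * y) (x' * y') := by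
  intro z hz
  refine cl_trans (V := conjBy R (x' * y * z)) ?_ ?_
  · rw [mul_assoc, mul_assoc]; exact h1 _ (mul_mem hy hz)
  · have := cl_conj hS (h2 z hz) x'
    rw [conjBy_conjBy, conjBy_conjBy, ← mul_assoc, ← mul_assoc] at this
    exact this

omit h in
theorem actEq_inv (hS : IsRootSubgroupSet S) {x α : G} (hx : x ∈ A ⊔ Q) (h1 : ActEq S A Q R x α) :
    ActEq S A Q R x⁻¹ α⁻¹ := by
  intro z hz
  have := cl_conj hS (h1 (x⁻¹ * z) (mul_mem (inv_mem hx) hz)) α⁻¹
  rw [mul_inv_cancel_left, conjBy_conjBy, conjBy_conjBy, inv_mul_cancel_left] at this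
  exact this.symm

theorem bad_exists_actEq {x : G} (hx : x ∈ A ⊔ Q) : ∃ α ∈ A, ActEq S A Q R x α := by
  have hS := h.root
  rw [← Subgroup.closure_eq A, ← Subgroup.closure_eq Q, ← Subgroup.closure_union] at hx
  have : x ∈ A ⊔ Q ∧ ∃ α ∈ A, ActEq S A Q R x α := by
    induction hx using Subgroup.closure_induction with
    | mem x hx =>
      rcases hx with hx | hx
      · exact ⟨Subgroup.mem_sup_left hx, x, hx, fun z _ => rfl⟩
      · obtain ⟨α, hα, hc⟩ := bad_match h (one_mem _) (right_mem_unipotentSubgroups h.rankAQ)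
          (left_mem_unipotentSubgroups A Q) hx
        rw [mul_one, mul_one] at hc
        exact ⟨Subgroup.mem_sup_right hx, α, hα, bad_actEq_of_cl h (right_mem_unipotentSubgroups h.rankAQ)
          (left_mem_unipotentSubgroups A Q) hx hα hc⟩
    | one => exact ⟨one_mem _, 1, one_mem _, fun z _ => rfl⟩
    | mul x y _ _ hx hy =>
      obtain ⟨hx, α, hα, h1⟩ := hx
      obtain ⟨hy, β, hβ, h2⟩ := hy
      exact ⟨mul_mem hx hy, α * β, mul_mem hα hβ, actEq_mul hS hy h1 h2⟩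
    | inv x _ hx =>
      obtain ⟨hx, α, hα, h1⟩ := hx
      exact ⟨inv_mem hx, α⁻¹, inv_mem hα, actEq_inv hS hx h1⟩
  exact this.2

/-- A conjugate of an element of A acts like that element. -/
theorem bad_conj_actEq {x a : G} (hx : x ∈ A ⊔ Q) (ha : a ∈ A) : ActEq S A Q R (x * a * x⁻¹) a := by
  obtain ⟨α, hα, h1⟩ := bad_exists_actEq h hx
  have hS := h.root
  have haX : a ∈ A ⊔ Q := Subgroup.mem_sup_left ha
  have h2 := actEq_mul hS (inv_mem hx) (actEq_mul hS haX h1 (fun z _ => rfl : ActEq S A Q R a a))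
    (actEq_inv hS hx h1)
  rwa [mul_comm_of_mem (hS.commutative A h.memA) hα ha, mul_inv_cancel_right] at h2

theorem bad_stab {x : G} (hx : x ∈ A ⊔ Q) (hfix : conjBy A x = A) : ∀ a ∈ A, x * a = a * x := by
  intro a ha
  have h1 : x * a * x⁻¹ = a :=
    bad_cl_inj h (one_mem _) (left_mem_unipotentSubgroups A Q) (hfix ▸ conj_mem_conjBy ha) ha
      (bad_conj_actEq h hx ha 1 (one_mem _))
  exact mul_inv_eq_iff_eq_mul.1 h1

theorem bad_stab_comm {x y : G} (hx : x ∈ A ⊔ Q) (hxA : conjBy A x = A) (hy : y ∈ A ⊔ Q)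
    (hyA : conjBy A y = A) : x * y = y * x := by
  obtain ⟨e, he, z, hz, rfl, hzc⟩ := rankOne_centralizer_left h.rankAQ (h.root.commutative A h.memA) hx
    (bad_stab h hx hxA)
  calc e * z * y = e * y * z := by rw [mul_assoc, hzc y hy, ← mul_assoc]
    _ = y * e * z := by rw [← bad_stab h hy hyA e he]
    _ = y * (e * z) := mul_assoc _ _ _

/-- An element fixing A and another point is central. -/
theorem bad_two_points {m : G} (hm : m ∈ A ⊔ Q) (hmA : conjBy A m = A) {x : G} (hx : x ∈ A ⊔ Q)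
    (hxA : conjBy A x ≠ A) (hfix : conjBy (conjBy A x) m = conjBy A x) :
    ∀ y ∈ A ⊔ Q, m * y = y * m := by
  have hC : conjBy A x ∈ unipotentSubgroups A Q := ⟨x, hx, rfl⟩
  have hr := (rankOne_of_unipotentSubgroups h.rankAQ hC (left_mem_unipotentSubgroups A Q) hxA).1
  obtain ⟨e, he, z, hz, hmz, hzc⟩ := rankOne_centralizer_left h.rankAQ (h.root.commutative A h.memA) hm
    (bad_stab h hm hmA)
  have hzfix : conjBy (conjBy A x) z = conjBy A x :=
    conjBy_eq_self_iff.2 (mem_normalizer_of_forall_commute fun c hc => hzc c (unipotentSubgroups_le hC hc))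
  rw [hmz, ← conjBy_conjBy, hzfix] at hfix
  rw [hmz, rankOne_eq_one_of_normalizes (rankOne_symm hr) he hfix, one_mul]
  exact hzc

/-- Independence of the class of x u x⁻¹ v from x moving A. -/
theorem bad_indep {x x' u v : G} (hx : x ∈ A ⊔ Q) (hx' : x' ∈ A ⊔ Q) (hxA : conjBy A x ≠ A)
    (hx'A : conjBy A x' ≠ A) (hu : u ∈ A ⊔ Q) (huA : conjBy A u = A) (hv : v ∈ A ⊔ Q) (hvA : conjBy A v = A) :
    ∃ α ∈ A, x' * u * x'⁻¹ * v = α * (x * u * x⁻¹ * v) * α⁻¹ := by
  have hr := h.rankAQ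
  obtain ⟨a₁, ha₁, e₁⟩ := ((mem_unipotentSubgroups_iff hr).1 ⟨x, hx, rfl⟩).resolve_left hxA
  obtain ⟨a₂, ha₂, e₂⟩ := ((mem_unipotentSubgroups_iff hr).1 ⟨x', hx', rfl⟩).resolve_left hx'A
  refine ⟨a₂ * a₁⁻¹, mul_mem ha₂ (inv_mem ha₁), ?_⟩
  set α := a₂ * a₁⁻¹ with hα
  have hαA : α ∈ A := mul_mem ha₂ (inv_mem ha₁)
  have hαX : α ∈ A ⊔ Q := Subgroup.mem_sup_left hαA
  have hm : conjBy A ((α * x)⁻¹ * x') = A := by
    rw [← conjBy_conjBy, e₂, conjBy_eq_iff, inv_inv, ← conjBy_conjBy A x, e₁, conjBy_conjBy, hα,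
      inv_mul_cancel_right]
  generalize hgen : (α * x)⁻¹ * x' = m at hm
  have hmX : m ∈ A ⊔ Q := hgen ▸ mul_mem (inv_mem (mul_mem hαX hx)) hx'
  have hx'' : x' = α * x * m := by rw [← hgen]; group
  have hmu : m * u * m⁻¹ = u := by rw [bad_stab_comm h hmX hm hu huA, mul_inv_cancel_right]
  calc x' * u * x'⁻¹ * v = α * x * (m * u * m⁻¹) * x⁻¹ * (α⁻¹ * v) := by rw [hx'']; group
    _ = α * x * u * x⁻¹ * (v * α⁻¹) := by
        rw [hmu, ← bad_stab h hv hvA α⁻¹ (inv_mem hαA)]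
    _ = α * (x * u * x⁻¹ * v) * α⁻¹ := by group

/-- A product of conjugates of u and v with a fixed point. -/
theorem bad_fixed {u v : G} (hu : u ∈ A) (hu1 : u ≠ 1) (hv : v ∈ A) (hv1 : v ≠ 1) (huv : u * v ≠ 1) :
    ∃ q ∈ Q, conjBy A q ≠ A ∧ conjBy Q (q * u * q⁻¹ * v) = Q := by
  have hr := h.rankAQ
  have hm : ∀ a ∈ A, a ≠ 1 → ∃ q ∈ Q, conjBy Q a = conjBy A q := by
    intro a ha ha1
    have := unipotentSubgroups_conj (Subgroup.mem_sup_left ha) (right_mem_unipotentSubgroups hr)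
    rw [unipotentSubgroups_symm hr] at this
    exact ((mem_unipotentSubgroups_iff (rankOne_symm hr)).1 this).resolve_left
      fun e => ha1 (rankOne_eq_one_of_normalizes hr ha e)
  obtain ⟨q₀, hq₀, e₀⟩ := hm u⁻¹ (inv_mem hu) (inv_ne_one.2 hu1)
  obtain ⟨q₁, hq₁, e₁⟩ := hm v hv hv1
  have hq : q₁ * q₀⁻¹ ∈ Q := mul_mem hq₁ (inv_mem hq₀)
  refine ⟨q₁ * q₀⁻¹, hq, fun e => ?_, ?_⟩
  · have := rankOne_eq_one_of_normalizes (rankOne_symm hr) hq e
    rw [mul_inv_eq_one] at this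
    rw [this, ← e₀] at e₁
    exact huv (by rw [rankOne_conjBy_inj hr hv (inv_mem hu) e₁, mul_inv_cancel])
  · rw [← conjBy_conjBy, e₁, conjBy_conjBy]
    calc conjBy A (q₁ * q₀⁻¹ * u * (q₁ * q₀⁻¹)⁻¹ * q₁)
        = conjBy (conjBy A q₀) (q₁ * q₀⁻¹ * u) := by rw [conjBy_conjBy]; congr 1; group
      _ = conjBy Q (q₁ * q₀⁻¹) := by rw [← e₀, conjBy_conjBy, mul_inv_cancel_right]
      _ = Q := conjBy_self hq

/-- The product q a q⁻¹ a fixing Q is a conjugate of a². -/
theorem bad_square {a : G} (ha : a ∈ A) (ha1 : a ≠ 1) (ha2 : a * a ≠ 1) (ha3 : a * a * a ≠ 1) :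
    ∃ q ∈ Q, ∃ y ∈ A ⊔ Q, conjBy A q ≠ A ∧ q * a * q⁻¹ * a = y * (a * a) * y⁻¹ := by
  have hr := h.rankAQ
  obtain ⟨q, hq, hqA, hfix⟩ := bad_fixed h ha ha1 ha ha1 ha2
  obtain ⟨q', hq', hq'A, hfix'⟩ := bad_fixed h (mul_mem ha ha) ha2 ha ha1 ha3
  obtain ⟨y, hy, hyQ⟩ := right_mem_unipotentSubgroups hr
  refine ⟨q, hq, y, hy, hqA, ?_⟩
  have hqX : q ∈ A ⊔ Q := Subgroup.mem_sup_right hq
  have hq'X : q' ∈ A ⊔ Q := Subgroup.mem_sup_right hq'
  have haX : a ∈ A ⊔ Q := Subgroup.mem_sup_left ha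
  have hyA : conjBy A y ≠ A := fun e => hr.ne (hyQ.trans e).symm
  have hfixA : ∀ b ∈ A, conjBy A b = A := fun b hb => conjBy_self hb
  have stab_of : ∀ g ∈ A ⊔ Q, conjBy Q g = Q → y⁻¹ * g * y ∈ A ⊔ Q ∧ conjBy A (y⁻¹ * g * y) = A := by
    intro g hg e
    refine ⟨mul_mem (mul_mem (inv_mem hy) hg) hy, ?_⟩
    rw [← conjBy_conjBy, ← hyQ, ← conjBy_conjBy, e, hyQ, conjBy_conjBy, inv_mul_cancel, conjBy_one]
  set g := q * a * q⁻¹ * a with hg
  have hgX : g ∈ A ⊔ Q := mul_mem (mul_mem (mul_mem hqX haX) (inv_mem hqX)) haX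
  obtain ⟨hmX, hmA⟩ := stab_of g hgX hfix
  set m := y⁻¹ * g * y with hm
  set f' := q' * (a * a) * q'⁻¹ * a with hf'
  have hf'X : f' ∈ A ⊔ Q := mul_mem (mul_mem (mul_mem hq'X (mul_mem haX haX)) (inv_mem hq'X)) haX
  obtain ⟨hfX, hfA⟩ := stab_of f' hf'X hfix'
  set f := y⁻¹ * f' * y with hf
  -- g a is conjugate to f
  have hq'A' : conjBy A q'⁻¹ ≠ A := fun e => hq'A (conjBy_eq_self_iff.2 (inv_mem_iff.1 (conjBy_eq_self_iff.1 e)))
  obtain ⟨α, hα, hα'⟩ := bad_indep h (inv_mem hq'X) hqX hq'A' hqA haX (hfixA a ha) (mul_mem haX haX)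
    (hfixA _ (mul_mem ha ha))
  have hga : g * a = (α * q'⁻¹ * a * y) * f * (α * q'⁻¹ * a * y)⁻¹ := by
    calc g * a = q * a * q⁻¹ * (a * a) := by rw [hg]; group
      _ = α * (q'⁻¹ * a * q'⁻¹⁻¹ * (a * a)) * α⁻¹ := hα'
      _ = _ := by rw [hf, hf']; group
  set k := α * q'⁻¹ * a * y with hk
  have hkX : k ∈ A ⊔ Q :=
    mul_mem (mul_mem (mul_mem (Subgroup.mem_sup_left hα) (inv_mem hq'X)) haX) hy
  have hkA : conjBy A k ≠ A := by
    intro e
    have hgA : conjBy A g = A := by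
      have hgaA : conjBy A (g * a) = A := by
        have hkn := conjBy_eq_self_iff.1 e
        rw [hga]
        exact conjBy_eq_self_iff.2 (mul_mem (mul_mem hkn (conjBy_eq_self_iff.1 hfA)) (inv_mem hkn))
      rwa [← conjBy_conjBy, hfixA a ha] at hgaA
    rw [hg, ← conjBy_conjBy, hfixA a ha] at hgA
    have hq1 : conjBy A q⁻¹ ≠ A := fun e => hqA (conjBy_eq_self_iff.2 (inv_mem_iff.1 (conjBy_eq_self_iff.1 e)))
    have h2 : conjBy (conjBy A q⁻¹) a = conjBy A q⁻¹ := by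
      have := congrArg (fun X => conjBy X q⁻¹) hgA
      simp only [conjBy_conjBy] at this
      rw [conjBy_conjBy, ← this]; group
    have hp := (rankOne_of_unipotentSubgroups hr (⟨q⁻¹, inv_mem hqX, rfl⟩ : conjBy A q⁻¹ ∈ unipotentSubgroups A Q)
      (left_mem_unipotentSubgroups A Q) hq1).1
    exact ha1 (rankOne_eq_one_of_normalizes (rankOne_symm hp) ha h2)
  -- inject
  obtain ⟨β, hβ, hβ'⟩ := bad_indep h hy hkX hyA hkA hfX hfA (inv_mem haX) (hfixA _ (inv_mem ha))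
  have e1 : y * m * y⁻¹ = k * f * k⁻¹ * a⁻¹ := by rw [← hga, hm]; group
  have e2 : y * f * y⁻¹ * a⁻¹ = q' * (a * a) * q'⁻¹ := by rw [hf, hf']; group
  set s := y⁻¹ * β * q' with hs
  have hms : m = s * (a * a) * s⁻¹ := by
    calc m = y⁻¹ * (y * m * y⁻¹) * y := by group
      _ = y⁻¹ * (β * (q' * (a * a) * q'⁻¹) * β⁻¹) * y := by rw [e1, hβ', e2]
      _ = _ := by rw [hs]; group
  have hsX : s ∈ A ⊔ Q := mul_mem (mul_mem (inv_mem hy) (Subgroup.mem_sup_left hβ)) hq'X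
  have hsA : conjBy A s = A := by
    by_contra hne
    have hsi : conjBy A s⁻¹ ≠ A := fun e => hne (conjBy_eq_self_iff.2 (inv_mem_iff.1 (conjBy_eq_self_iff.1 e)))
    have h2 : conjBy (conjBy A s⁻¹) (a * a) = conjBy A s⁻¹ := by
      have := congrArg (fun X => conjBy X s⁻¹) (hms ▸ hmA)
      simp only [conjBy_conjBy] at this
      rw [conjBy_conjBy, ← this]; group
    have hp := (rankOne_of_unipotentSubgroups hr (⟨s⁻¹, inv_mem hsX, rfl⟩ : conjBy A s⁻¹ ∈ unipotentSubgroups A Q)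
      (left_mem_unipotentSubgroups A Q) hsi).1
    exact ha2 (rankOne_eq_one_of_normalizes (rankOne_symm hp) (mul_mem ha ha) h2)
  have : m = a * a := by rw [hms, bad_stab h hsX hsA _ (mul_mem ha ha), mul_inv_cancel_right]
  rw [← this, hm]; group

/-- The conjugate of x A by the element matched to a. -/
theorem bad_image {a b : G} (ha : a ∈ A) (ha1 : a ≠ 1) (hb : b ∈ R) (hb1 : b ≠ 1)
    (e : conjBy A b⁻¹ = conjBy R a⁻¹) {x : G} (hx : x ∈ A ⊔ Q) :
    conjBy A (b * x) = conjBy R (x * a * x⁻¹) := by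
  have hS := h.root
  have hP : conjBy A x ∈ unipotentSubgroups A Q := ⟨x, hx, rfl⟩
  obtain ⟨-, -, hsA⟩ := bad_rank h (one_mem _) (left_mem_unipotentSubgroups A Q)
  obtain ⟨hrP, hnP, hsP⟩ := bad_rank h (one_mem _) hP
  rw [conjBy_one] at hsA hrP hnP hsP
  have hp1 : x * a * x⁻¹ ≠ 1 := fun e => ha1 (by simpa [mul_inv_eq_one] using e)
  obtain ⟨b', hb', hb1', e'⟩ := hrP.cond_left _ (conj_mem_conjBy ha) hp1
  have h1 := special_inv hsP (conj_mem_conjBy ha) hp1 hb' hb1' e'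
  have hcl : Cl S (conjBy (conjBy A x) b') (conjBy (conjBy A x) b) := by
    rw [h1]
    refine cl_trans (V := conjBy R a) ?_ ?_
    · have := bad_conj_actEq h hx ha 1 (one_mem _)
      rwa [mul_one, mul_one] at this
    · rw [← special_inv hsA ha ha1 hb hb1 e]; exact cl_conj hS (bad_cl h hP) b
  have h2 := cl_conj hS hcl b⁻¹
  rw [conjBy_conjBy _ b' b⁻¹, conjBy_conjBy _ b b⁻¹, inv_mul_cancel, conjBy_one] at h2
  have hbb : b = b' := inv_mul_eq_one.1 (cl_fix hS hrP hnP (mul_mem (inv_mem hb) hb') h2)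
  rw [← conjBy_conjBy, hbb, h1]

/-- All elements of A have order at most 3. -/
theorem bad_order {a : G} (ha : a ∈ A) : a * a = 1 ∨ a * a * a = 1 := by
  by_contra hc
  push Not at hc
  obtain ⟨ha2, ha3⟩ := hc
  have hS := h.root
  have ha1 : a ≠ 1 := by rintro rfl; exact ha2 (mul_one 1)
  have hr := h.rankAR
  obtain ⟨q, hq, y, hy, hqA, hsq⟩ := bad_square h ha ha1 ha2 ha3
  obtain ⟨-, -, hs⟩ := bad_rank h (one_mem _) (left_mem_unipotentSubgroups A Q)
  rw [conjBy_one] at hs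
  obtain ⟨b, hb, hb1, e⟩ := hr.cond_left a ha ha1
  obtain ⟨d, hd, hd1, e'⟩ := hr.cond_left (a * a) (mul_mem ha ha) ha2
  have hdd := special_double hs ha ha1 hb hb1 e hd ha2 e'
  obtain ⟨hnA, hn⟩ := special_conj hs ha ha1 hb hb1 e
  obtain ⟨hn'A, hn'⟩ := special_conj hs (mul_mem ha ha) ha2 hd hd1 e'
  set n := a⁻¹ * b * a⁻¹ with hndef
  set n' := (a * a)⁻¹ * d * (a * a)⁻¹ with hn'def
  have haX : a ∈ A ⊔ Q := Subgroup.mem_sup_left ha
  have hqX : q ∈ A ⊔ Q := Subgroup.mem_sup_right hq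
  have f1 : ∀ x ∈ A ⊔ Q, conjBy A (n * x) = conjBy R (a⁻¹ * a⁻¹ * x * a * x⁻¹ * a) := by
    intro x hx
    rw [hndef, show a⁻¹ * b * a⁻¹ * x = a⁻¹ * (b * (a⁻¹ * x)) by group, ← conjBy_conjBy,
      bad_image h ha ha1 hb hb1 e (mul_mem (inv_mem haX) hx), conjBy_conjBy]
    congr 1; group
  have f2 : ∀ x ∈ A ⊔ Q, conjBy A (n' * x) =
      conjBy R ((a * a)⁻¹ * (a * a)⁻¹ * x * (a * a) * x⁻¹ * (a * a)) := by
    intro x hx
    rw [hn'def, show (a * a)⁻¹ * d * (a * a)⁻¹ * x = (a * a)⁻¹ * (d * ((a * a)⁻¹ * x)) by group,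
      ← conjBy_conjBy, bad_image h (mul_mem ha ha) ha2 hd hd1 e' (mul_mem (inv_mem (mul_mem haX haX)) hx),
      conjBy_conjBy]
    congr 1; group; simp [zpow_ofNat, pow_succ, mul_assoc]
  set x := a⁻¹ * a⁻¹ * q with hx
  have hxX : x ∈ A ⊔ Q := mul_mem (mul_mem (inv_mem haX) (inv_mem haX)) hqX
  have T1 : conjBy A (n * x) = conjBy A (n' * y) := by
    rw [f1 x hxX, f2 y hy]
    congr 1
    calc a⁻¹ * a⁻¹ * x * a * x⁻¹ * a = (a * a)⁻¹ * (a * a)⁻¹ * (q * a * q⁻¹ * a) * (a * a) := by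
          rw [hx]; group; simp [zpow_ofNat, pow_succ, mul_assoc]
      _ = _ := by rw [hsq]; group
  have T2 : conjBy A (n * (a * x)) = conjBy A (n' * (a * y)) := by
    rw [f1 _ (mul_mem haX hxX), f2 _ (mul_mem haX hy)]
    congr 1
    calc a⁻¹ * a⁻¹ * (a * x) * a * (a * x)⁻¹ * a
        = (a * a)⁻¹ * (a * a)⁻¹ * a * (q * a * q⁻¹ * a) * a⁻¹ * (a * a) := by
          rw [hx]; group; simp [zpow_ofNat, pow_succ, mul_assoc]
      _ = _ := by rw [hsq]; group
  set T := conjBy A (n * x) with hT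
  have hb' : conjBy T b⁻¹ = conjBy T (n' * a * n'⁻¹) := by
    have l1 : conjBy T b⁻¹ = conjBy A (n * (a * x)) := by
      rw [hT, conjBy_conjBy, ← hn]; congr 1; group
    have l2 : conjBy T (n' * a * n'⁻¹) = conjBy A (n' * (a * y)) := by
      rw [T1, conjBy_conjBy]; congr 1; group
    rw [l1, l2, T2]
  have hTne : T ≠ R := by
    intro e1
    rw [hT, ← hnA, ← conjBy_conjBy, conjBy_inj, hx, ← conjBy_conjBy,
      conjBy_eq_iff, conjBy_self (inv_mem (mul_mem (inv_mem ha) (inv_mem ha)))] at e1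
    exact hqA e1
  have hTcl : Cl S T R := by
    rw [hT, f1 x hxX]
    have h1 : ActEq S A Q R (a⁻¹ * a⁻¹ * (x * a * x⁻¹) * a) (a⁻¹ * a⁻¹ * a * a) :=
      actEq_mul hS haX (actEq_mul hS (mul_mem (mul_mem hxX haX) (inv_mem hxX)) (fun z _ => rfl)
        (bad_conj_actEq h hxX ha)) (fun z _ => rfl)
    have h2 := h1 1 (one_mem _)
    rw [show a⁻¹ * a⁻¹ * a * a = 1 by group, mul_one, mul_one, conjBy_one] at h2
    rwa [show a⁻¹ * a⁻¹ * x * a * x⁻¹ * a = a⁻¹ * a⁻¹ * (x * a * x⁻¹) * a by group]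
  have hTS : T ∈ S := hS.conj_mem A h.memA _
  have hrank : IsRankOnePair R T := by
    rcases hS.pair R h.memR T hTS with h' | h' | h'
    · exact absurd rfl ((hTcl.symm ▸ (⟨hTS, hTne, h'⟩ : T ∈ commutingPartners S R) :
        T ∈ commutingPartners S T)).2.1
    · exact h'
    · exact absurd h' (h.deg R h.memR T hTS)
  have he : n' * a * n'⁻¹ ∈ R := by
    rw [← hn'A]; exact conj_mem_conjBy ha
  have heq := rankOne_conjBy_inj hrank (inv_mem hb) he hb'
  have hd' : b⁻¹ * b⁻¹ = d⁻¹ := by rw [heq, ← hn']; group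
  have hd3 : d * d * d = 1 := by
    rw [← hdd] at hd'
    calc d * d * d = ((d * d)⁻¹ * (d * d)⁻¹)⁻¹ * d⁻¹ := by group; simp [zpow_ofNat, pow_succ, mul_assoc]
      _ = 1 := by rw [hd']; group
  have hb3 : b * b * b = 1 := by
    calc b * b * b = (d * d * d) * (d * d * d) := by rw [← hdd]; group
      _ = 1 := by rw [hd3, mul_one]
  refine ha3 ?_
  calc a * a * a = n⁻¹ * ((n * a * n⁻¹) * (n * a * n⁻¹) * (n * a * n⁻¹)) * n := by group
    _ = n⁻¹ * (b * b * b)⁻¹ * n := by rw [hn]; group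
    _ = 1 := by rw [hb3]; group

end Cfsg.Agent.RootSub
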