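import Cfsg.Agent.Lib.RootSub.Basic
set_option autoImplicit false

/-! The commutator case (Timmesfeld II (2.4), (2.10)). -/

namespace Cfsg.Agent.RootSub

open Cfsg
open scoped commutatorElement

variable {G : Type*} [Group G] {S : Set (Subgroup G)} {A B C D P : Subgroup G}

theorem exists_mem_ne_one (h : A ≠ ⊥) : ∃ a ∈ A, a ≠ 1 := by
  by_contra hc
  push Not at hc
  exact h ((Subgroup.eq_bot_iff_forall A).2 hc)

/-- If ⁅A, B⁆ ∈ S then A, B are in the commutator case. -/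
theorem commCase_of_mem (hS : IsRootSubgroupSet S) (hA : A ∈ S) (hB : B ∈ S) (h : ⁅A, B⁆ ∈ S) :
    RootCommutatorCase S A B := by
  rcases hS.pair A hA B hB with h1 | h1 | h1
  · exact absurd h1 (hS.ne_bot _ h)
  · exfalso
    have hle : ⁅A, B⁆ ≤ A ⊔ B := (Subgroup.commutator_le.2 fun a ha x hx => by
      rw [commutatorElement_def]
      have h1 := Subgroup.mem_sup_left (T := B) ha
      have h2 := Subgroup.mem_sup_right (S := A) hx
      exact mul_mem (mul_mem (mul_mem h1 h2) (inv_mem h1)) (inv_mem h2))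
    by_cases hc : ⁅⁅A, B⁆, A ⊔ B⁆ = ⊥
    · obtain ⟨a, ha, ha1⟩ := rankOne_exists_ne_one h1
      refine ha1 (rankOne_eq_one_of_normalizes h1 ha (unipotentSubgroups_eq_of_commute h1
        (unipotentSubgroups_conj (Subgroup.mem_sup_left ha) (right_mem_unipotentSubgroups h1))
        (right_mem_unipotentSubgroups h1) ?_))
      rw [commutator_eq_bot_iff_commute]
      intro x hx b hb
      rw [mem_conjBy] at hx
      have hcm : a * (a⁻¹ * x * a) * a⁻¹ * (a⁻¹ * x * a)⁻¹ ∈ ⁅A, B⁆ := by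
        simpa [commutatorElement_def] using Subgroup.commutator_mem_commutator ha hx
      generalize hy : a⁻¹ * x * a = y at hx hcm
      have hxy : x = a * y * a⁻¹ * y⁻¹ * y := by rw [← hy]; group
      have h3 := commutator_eq_bot_iff_commute.1 hc _ hcm b (Subgroup.mem_sup_right hb)
      have h4 := mul_comm_of_mem (hS.commutative B hB) hx hb
      rw [hxy]
      generalize a * y * a⁻¹ * y⁻¹ = c at h3
      rw [mul_assoc, h4, ← mul_assoc, h3, mul_assoc]
    · have hmem := mem_unipotentSubgroups_of_le hS hA hB h1 h hle hc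
      have hfix : ∀ x ∈ A ⊔ B, conjBy ⁅A, B⁆ x = ⁅A, B⁆ := by
        intro x hx
        refine conjBy_eq_self_iff.2 ?_
        have : A ⊔ B ≤ Subgroup.normalizer ((⁅A, B⁆ : Subgroup G) : Set G) :=
          sup_le (Subgroup.normalizer_commutator_ge_left A B) (Subgroup.normalizer_commutator_ge_right A B)
        exact this hx
      obtain ⟨y, hy, e⟩ := hmem
      have hA' : ∀ x ∈ A ⊔ B, conjBy A x = A := by
        intro x hx
        have := hfix (y * x * y⁻¹) (mul_mem (mul_mem hy hx) (inv_mem hy))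
        rw [e, conjBy_conjBy, inv_mul_cancel_right, ← conjBy_conjBy, conjBy_inj] at this
        exact this
      obtain ⟨x, hx, e'⟩ := right_mem_unipotentSubgroups h1
      exact h1.ne (e'.trans (hA' x hx)).symm
  · exact h1

/-- In the commutator case the commutators of a ∈ A# with B form the whole of C. -/
theorem commCase_exists_commutator (h : RootCommutatorCase S A B) {a c : G} (ha : a ∈ A) (ha1 : a ≠ 1)
    (hc : c ∈ ⁅A, B⁆) : ∃ b ∈ B, a * b * a⁻¹ * b⁻¹ = c := by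
  rw [← h.2.2.1 a ha ha1] at hc
  induction hc using Subgroup.closure_induction with
  | mem x hx => exact hx
  | one => exact ⟨1, one_mem _, by group⟩
  | mul x y _ _ hx hy =>
    obtain ⟨b, hb, rfl⟩ := hx
    obtain ⟨b', hb', rfl⟩ := hy
    refine ⟨b * b', mul_mem hb hb', ?_⟩
    have hc' : a * b' * a⁻¹ * b'⁻¹ ∈ ⁅A, B⁆ := by
      simpa [commutatorElement_def] using Subgroup.commutator_mem_commutator ha hb'
    have := h.2.1 _ hc' b (Subgroup.mem_sup_right hb)
    rw [show a * (b * b') * a⁻¹ * (b * b')⁻¹ =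
      (a * b * a⁻¹ * b⁻¹) * (b * (a * b' * a⁻¹ * b'⁻¹) * b⁻¹) by group, ← this]
    group
  | inv x _ hx =>
    obtain ⟨b, hb, rfl⟩ := hx
    refine ⟨b⁻¹, inv_mem hb, ?_⟩
    have hc' : a * b * a⁻¹ * b⁻¹ ∈ ⁅A, B⁆ := by
      simpa [commutatorElement_def] using Subgroup.commutator_mem_commutator ha hb
    have := h.2.1 _ (inv_mem hc') b⁻¹ (Subgroup.mem_sup_right (inv_mem hb))
    rw [show a * b⁻¹ * a⁻¹ * b⁻¹⁻¹ = b⁻¹ * (a * b * a⁻¹ * b⁻¹)⁻¹ * b⁻¹⁻¹ by group, ← this]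
    group

theorem commCase_commute_left (h : RootCommutatorCase S A B) : ∀ c ∈ ⁅A, B⁆, ∀ a ∈ A, c * a = a * c :=
  fun c hc a ha => h.2.1 c hc a (Subgroup.mem_sup_left ha)

theorem commCase_commute_right (h : RootCommutatorCase S A B) : ∀ c ∈ ⁅A, B⁆, ∀ b ∈ B, c * b = b * c :=
  fun c hc b hb => h.2.1 c hc b (Subgroup.mem_sup_right hb)

theorem commCase_inf_eq_bot (hS : IsRootSubgroupSet S) (h : RootCommutatorCase S A B) :
    A ⊓ ⁅A, B⁆ = ⊥ := by
  rw [Subgroup.eq_bot_iff_forall]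
  rintro x ⟨hxA, hxC⟩
  by_contra hx
  refine hS.ne_bot _ h.1 ?_
  rw [← h.2.2.1 x hxA hx, Subgroup.closure_eq_bot_iff]
  rintro _ ⟨b, hb, rfl⟩
  simp [commCase_commute_right h x hxC b hb]

theorem commCase_ne (hS : IsRootSubgroupSet S) (hA : A ∈ S) (h : RootCommutatorCase S A B) :
    A ≠ ⁅A, B⁆ := fun e => hS.ne_bot A hA (by have := commCase_inf_eq_bot hS h; rwa [← e, inf_idem] at this)

theorem mem_sup_of_commute (h : ⁅A, C⁆ = ⊥) {x : G} :
    x ∈ A ⊔ C ↔ ∃ a ∈ A, ∃ c ∈ C, a * c = x := by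
  rw [← SetLike.mem_coe, Subgroup.coe_mul_of_left_le_normalizer_right A C fun a ha =>
    mem_normalizer_of_forall_commute fun c hc => commutator_eq_bot_iff_commute.1 h a ha c hc]
  rfl

theorem prod_unique (hd : A ⊓ C = ⊥) {a a' c c' : G} (ha : a ∈ A) (ha' : a' ∈ A) (hc : c ∈ C)
    (hc' : c' ∈ C) (e : a * c = a' * c') : a = a' ∧ c = c' := by
  have h1 : a'⁻¹ * a = c' * c⁻¹ := by
    rw [eq_mul_inv_iff_mul_eq, mul_assoc, e, inv_mul_cancel_left]
  have h2 : a'⁻¹ * a = 1 := (Subgroup.eq_bot_iff_forall _).1 hd _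
    (Subgroup.mem_inf.2 ⟨mul_mem (inv_mem ha') ha, h1 ▸ mul_mem hc' (inv_mem hc)⟩)
  obtain rfl : a' = a := inv_mul_eq_one.1 h2
  exact ⟨rfl, mul_left_cancel e⟩

theorem commCase_commute_eq_bot (h : RootCommutatorCase S A B) : ⁅A, ⁅A, B⁆⁆ = ⊥ :=
  commutator_eq_bot_iff_commute.2 fun a ha c hc => (commCase_commute_left h c hc a ha).symm

/-- The conjugates of A under B lie in AC. -/
theorem conjBy_le_sup_commutator {b : G} (hb : b ∈ B) : conjBy A b ≤ A ⊔ ⁅A, B⁆ := by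
  intro x hx
  rw [mem_conjBy] at hx
  rw [show x = (b⁻¹ * x * b) * ⁅(b⁻¹ * x * b)⁻¹, b⁆ by rw [commutatorElement_def]; group]
  exact mul_mem (Subgroup.mem_sup_left hx)
    (Subgroup.mem_sup_right (Subgroup.commutator_mem_commutator (inv_mem hx) hb))

/-- Every element of AC outside C is in a conjugate of A under B. -/
theorem exists_conjBy_of_mem (h : RootCommutatorCase S A B) {a c : G} (ha : a ∈ A) (ha1 : a ≠ 1)
    (hc : c ∈ ⁅A, B⁆) : ∃ b ∈ B, a * c ∈ conjBy A b := by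
  obtain ⟨b, hb, e⟩ := commCase_exists_commutator h (inv_mem ha) (inv_ne_one.2 ha1) hc
  refine ⟨b, hb, ?_⟩
  rw [← e, show a * (a⁻¹ * b * a⁻¹⁻¹ * b⁻¹) = b * a * b⁻¹ by group]
  exact conj_mem_conjBy ha

/-- Injectivity of b ↦ [a, b] when A has a partner. -/
theorem commCase_commutator_inj (hS : IsRootSubgroupSet S) (hA : A ∈ S) (hP : P ∈ S)
    (hr : IsRankOnePair A P) (h : RootCommutatorCase S A B) {a b : G} (ha : a ∈ A) (ha1 : a ≠ 1)
    (hb : b ∈ B) (e : a * b = b * a) : b = 1 := by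
  by_contra hb1
  have hfix : conjBy A b = A := by
    refine (eq_of_mem_of_partner hS hA (hS.conj_mem A hA b) hP hr ha ?_ ha1).symm
    have := conj_mem_conjBy (g := b) ha
    rwa [← e, mul_inv_cancel_right] at this
  refine hS.ne_bot _ h.1 ?_
  rw [← h.2.2.2 b hb hb1, Subgroup.closure_eq_bot_iff]
  rintro _ ⟨a', ha', rfl⟩
  refine (Subgroup.eq_bot_iff_forall _).1 (commCase_inf_eq_bot hS h) (a' * b * a'⁻¹ * b⁻¹) (Subgroup.mem_inf.2 ⟨?_, ?_⟩)
  · rw [show a' * b * a'⁻¹ * b⁻¹ = a' * (b * a'⁻¹ * b⁻¹) by group]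
    refine mul_mem ha' ?_
    have := conj_mem_conjBy (g := b) (inv_mem ha')
    rwa [hfix] at this
  · simpa [commutatorElement_def] using Subgroup.commutator_mem_commutator ha' hb

/-- A member inside C = ⁅A, B⁆ equals C. -/
theorem eq_of_le_commutator (hS : IsRootSubgroupSet S) (hA : A ∈ S) (hP : P ∈ S)
    (hr : IsRankOnePair A P) (h : RootCommutatorCase S A B) {E : Subgroup G} (hE : E ∈ S)
    (hEC : E ≤ ⁅A, B⁆) : E = ⁅A, B⁆ := by
  obtain ⟨a, ha, ha1⟩ := rankOne_exists_ne_one hr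
  obtain ⟨e, he, he1⟩ := exists_mem_ne_one (hS.ne_bot E hE)
  have hEA : ∀ x ∈ ⁅A, B⁆, ∀ y ∈ A, x * y = y * x := commCase_commute_left h
  -- x a is a root element for x in C
  have hroot : ∀ x ∈ ⁅A, B⁆, x * a ∈ rootElements S := by
    intro x hx
    obtain ⟨b, hb, hm⟩ := exists_conjBy_of_mem h ha ha1 hx
    rw [← hEA x hx a ha] at hm
    refine ⟨fun e1 => ?_, _, hS.conj_mem A hA b, hm⟩
    have hx' : x = a⁻¹ := eq_inv_of_mul_eq_one_left e1
    exact ha1 ((Subgroup.eq_bot_iff_forall _).1 (commCase_inf_eq_bot hS h) a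
      (Subgroup.mem_inf.2 ⟨ha, inv_mem_iff.1 (hx' ▸ hx)⟩))
  have hnc : ∀ x ∈ ⁅A, B⁆, x ≠ 1 → ¬ ∀ p ∈ P, x * p = p * x := fun x hx hx1 hp =>
    centralizing_mul_not_rootElement hS hA hP hr (hEA x hx) hp hx1 ha ha1 (hroot x hx)
  rcases hS.pair E hE P hP with h1 | h1 | h1
  · exact absurd (commutator_eq_bot_iff_commute.1 h1 e he) (hnc e (hEC he) he1)
  · exact eq_of_mem_of_partner hS hE h.1 hP h1 he (hEC he) he1
  · rcases hS.pair _ h.1 P hP with h2 | h2 | h2
    · exact absurd (commutator_eq_bot_iff_commute.1 h2 e (hEC he)) (hnc e (hEC he) he1)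
    · exact (eq_of_mem_of_partner hS h.1 hE hP h2 (hEC he) he he1).symm
    · have heq : ⁅E, P⁆ = ⁅⁅A, B⁆, P⁆ := by
        rw [← h1.2.2.1 e he he1, ← h2.2.2.1 e (hEC he) he1]
      refine le_antisymm hEC fun c hc => ?_
      obtain ⟨p, hp, hp1⟩ := rankOne_exists_ne_one (rankOne_symm hr)
      have h1' := commCase_symm h1
      have h2' := commCase_symm h2
      have hcm : p * c * p⁻¹ * c⁻¹ ∈ ⁅P, E⁆ := by
        rw [Subgroup.commutator_comm P E, heq, Subgroup.commutator_comm _ P]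
        simpa [commutatorElement_def] using Subgroup.commutator_mem_commutator hp hc
      obtain ⟨x, hx, ex⟩ := commCase_exists_commutator h1' hp hp1 hcm
      have hcx : p * (x⁻¹ * c) = (x⁻¹ * c) * p := by
        have : p * c * p⁻¹ * c⁻¹ = p * x * p⁻¹ * x⁻¹ := ex.symm
        calc p * (x⁻¹ * c) = p * x⁻¹ * p⁻¹ * (p * c * p⁻¹ * c⁻¹) * c * p := by group
          _ = p * x⁻¹ * p⁻¹ * (p * x * p⁻¹ * x⁻¹) * c * p := by rw [this]
          _ = x⁻¹ * c * p := by group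
      have := commCase_commutator_inj hS hP hA (rankOne_symm hr) h2' hp hp1
        (mul_mem (inv_mem (hEC hx)) hc) hcx
      rw [← inv_mul_eq_one.1 this]; exact hx

theorem membersIn_commutator (hS : IsRootSubgroupSet S) (hA : A ∈ S) (hP : P ∈ S)
    (hr : IsRankOnePair A P) (h : RootCommutatorCase S A B) :
    membersIn S (A ⊔ ⁅A, B⁆) = (fun b : G => conjBy A b) '' (B : Set G) ∪ {⁅A, B⁆} := by
  ext E
  constructor
  · rintro ⟨hE, hle⟩
    by_cases hEC : E ≤ ⁅A, B⁆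
    · exact Or.inr (eq_of_le_commutator hS hA hP hr h hE hEC)
    left
    obtain ⟨x, hx, hxC⟩ := SetLike.not_le_iff_exists.1 hEC
    obtain ⟨a, ha, c, hc, rfl⟩ := (mem_sup_of_commute (commCase_commute_eq_bot h)).1 (hle hx)
    have ha1 : a ≠ 1 := by rintro rfl; rw [one_mul] at hxC; exact hxC hc
    obtain ⟨b, hb, hm⟩ := exists_conjBy_of_mem h ha ha1 hc
    refine ⟨b, hb, eq_of_mem_of_partner hS (hS.conj_mem A hA b) hE (hS.conj_mem P hP b)
      (rankOne_conjBy hr b) hm hx (fun e => hxC ?_)⟩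
    rw [e]; exact one_mem _
  · rintro (⟨b, hb, rfl⟩ | rfl)
    · exact ⟨hS.conj_mem A hA b, conjBy_le_sup_commutator hb⟩
    · exact ⟨h.1, le_sup_right⟩

theorem partition_commutator (hS : IsRootSubgroupSet S) (hA : A ∈ S) (hP : P ∈ S)
    (hr : IsRankOnePair A P) (h : RootCommutatorCase S A B) :
    IsSubgroupPartition (A ⊔ ⁅A, B⁆) (membersIn S (A ⊔ ⁅A, B⁆)) := by
  refine ⟨fun E hE => hE.2, fun x hx hx1 => ?_, fun E hE F hF hne => ?_⟩
  · obtain ⟨a, ha, c, hc, rfl⟩ := (mem_sup_of_commute (commCase_commute_eq_bot h)).1 hx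
    by_cases ha1 : a = 1
    · subst ha1; exact ⟨_, ⟨h.1, le_sup_right⟩, by rwa [one_mul]⟩
    · obtain ⟨b, hb, hm⟩ := exists_conjBy_of_mem h ha ha1 hc
      exact ⟨_, ⟨hS.conj_mem A hA b, conjBy_le_sup_commutator hb⟩, hm⟩
  · rw [Subgroup.eq_bot_iff_forall]
    rintro x ⟨hxE, hxF⟩
    by_contra hx1
    have h1 := membersIn_commutator hS hA hP hr h
    rcases (h1 ▸ hE : E ∈ _ ∪ _) with ⟨b, hb, rfl⟩ | rfl
    · exact hne (eq_of_mem_of_partner hS (hS.conj_mem A hA b) hF.1 (hS.conj_mem P hP b)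
        (rankOne_conjBy hr b) hxE hxF hx1)
    · rcases (h1 ▸ hF : F ∈ _ ∪ _) with ⟨b, hb, rfl⟩ | e
      · exact hne (eq_of_mem_of_partner hS (hS.conj_mem A hA b) hE.1 (hS.conj_mem P hP b)
          (rankOne_conjBy hr b) hxF hxE hx1).symm
      · exact hne e.symm

theorem left_mem_linePartners (hS : IsRootSubgroupSet S) (hA : A ∈ S) (hP : P ∈ S)
    (hr : IsRankOnePair A P) (h : RootCommutatorCase S A B) : A ∈ linePartners S ⁅A, B⁆ := by
  refine ⟨⟨hA, commCase_ne hS hA h, ?_⟩, ?_⟩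
  · rw [Subgroup.commutator_comm]; exact commCase_commute_eq_bot h
  · rw [sup_comm]; exact partition_commutator hS hA hP hr h

end Cfsg.Agent.RootSub
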