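import Cfsg.Prelude.Def_RootSubgroups
set_option autoImplicit false

/-! Calculus of `conjBy`. -/

namespace Cfsg.Agent.RootSub

open Cfsg
open scoped commutatorElement

variable {G : Type*} [Group G] {A B : Subgroup G} {g h x : G}

theorem mem_conjBy : x ∈ conjBy A g ↔ g⁻¹ * x * g ∈ A := by
  constructor
  · rintro ⟨y, hy, rfl⟩
    simpa [MulAut.conj_apply, mul_assoc] using hy
  · intro hx
    exact ⟨g⁻¹ * x * g, hx, by simp [MulAut.conj_apply, mul_assoc]⟩

theorem conj_mem_conjBy (hx : x ∈ A) : g * x * g⁻¹ ∈ conjBy A g :=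
  ⟨x, hx, rfl⟩

theorem conjBy_one (A : Subgroup G) : conjBy A 1 = A := by
  ext x; simp [mem_conjBy]

theorem conjBy_conjBy (A : Subgroup G) (g h : G) : conjBy (conjBy A g) h = conjBy A (h * g) := by
  ext x; simp [mem_conjBy, mul_assoc]

theorem conjBy_inj : conjBy A g = conjBy B g ↔ A = B :=
  (Subgroup.map_injective (MulAut.conj g).injective).eq_iff

theorem conjBy_le_conjBy : conjBy A g ≤ conjBy B g ↔ A ≤ B :=
  Subgroup.map_le_map_iff_of_injective (MulAut.conj g).injective

theorem conjBy_eq_iff : conjBy A g = B ↔ A = conjBy B g⁻¹ := by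
  constructor <;> rintro rfl <;> simp [conjBy_conjBy, conjBy_one]

theorem conjBy_eq_conjBy_iff : conjBy A g = conjBy A h ↔ conjBy A (g⁻¹ * h) = A := by
  rw [conjBy_eq_iff, conjBy_conjBy, eq_comm]

theorem conjBy_eq_self_iff : conjBy A g = A ↔ g ∈ Subgroup.normalizer (A : Set G) := by
  rw [Subgroup.mem_normalizer_iff'']
  constructor
  · intro e h
    constructor
    · intro hh
      have := e.symm ▸ hh
      exact mem_conjBy.1 this
    · intro hh
      have := mem_conjBy.2 hh
      exact e ▸ this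
  · intro e; ext x; rw [mem_conjBy]; exact (e x).symm

theorem conjBy_self (hg : g ∈ A) : conjBy A g = A :=
  conjBy_eq_self_iff.2 (Subgroup.le_normalizer hg)

theorem mem_normalizer_of_forall_commute (h : ∀ a ∈ A, g * a = a * g) :
    g ∈ Subgroup.normalizer (A : Set G) := by
  refine conjBy_eq_self_iff.1 ?_
  ext x
  rw [mem_conjBy]
  constructor
  · intro hx
    have h1 := h _ hx
    have : x = g⁻¹ * x * g := by
      have h2 : x * g = g⁻¹ * x * g * g := by rw [← h1]; group
      exact mul_right_cancel h2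
    rw [this]; exact hx
  · intro hx
    have : g⁻¹ * x * g = x := by rw [mul_assoc, ← h x hx]; group
    rw [this]; exact hx

theorem conjBy_eq_bot_iff : conjBy A g = ⊥ ↔ A = ⊥ :=
  Subgroup.map_eq_bot_iff_of_injective A (MulAut.conj g).injective

theorem conjBy_ne_bot (h : A ≠ ⊥) (g : G) : conjBy A g ≠ ⊥ :=
  fun e => h (conjBy_eq_bot_iff.1 e)

theorem conjBy_sup (A B : Subgroup G) (g : G) : conjBy (A ⊔ B) g = conjBy A g ⊔ conjBy B g :=
  Subgroup.map_sup A B _

theorem conjBy_inf (A B : Subgroup G) (g : G) : conjBy (A ⊓ B) g = conjBy A g ⊓ conjBy B g :=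
  Subgroup.map_inf A B _ (MulAut.conj g).injective

theorem conjBy_commutator (A B : Subgroup G) (g : G) :
    conjBy ⁅A, B⁆ g = ⁅conjBy A g, conjBy B g⁆ :=
  Subgroup.map_commutator A B _

theorem conjBy_isMulCommutative (h : IsMulCommutative A) (g : G) : IsMulCommutative (conjBy A g) := by
  have := h
  exact Subgroup.map_isMulCommutative A _

theorem mul_comm_of_mem (h : IsMulCommutative A) {a b : G} (ha : a ∈ A) (hb : b ∈ A) :
    a * b = b * a := by
  have := h
  exact congrArg Subtype.val (mul_comm' (⟨a, ha⟩ : A) ⟨b, hb⟩)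

theorem commutator_eq_bot_iff_commute :
    ⁅A, B⁆ = ⊥ ↔ ∀ a ∈ A, ∀ b ∈ B, a * b = b * a := by
  rw [Subgroup.commutator_eq_bot_iff_le_centralizer]
  constructor
  · exact fun h a ha b hb => (Subgroup.mem_centralizer_iff.1 (h ha) b hb).symm
  · exact fun h a ha => Subgroup.mem_centralizer_iff.2 fun b hb => (h a ha b hb).symm

theorem ne_one_of_conjBy_ne (h : conjBy A g ≠ A) : g ≠ 1 := by
  rintro rfl; exact h (conjBy_one A)

theorem conjBy_nilpotent (h : Group.IsNilpotent A) (g : G) : Group.IsNilpotent (conjBy A g) :=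
  Group.nilpotent_of_mulEquiv (Subgroup.equivMapOfInjective A _ (MulAut.conj g).injective)

end Cfsg.Agent.RootSub
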