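import Cfsg.Agent.Lib.RootSub.Triangle
set_option autoImplicit false

/-! Lines AB (B ∈ Λ_A) and their partners. -/

namespace Cfsg.Agent.RootSub

open Cfsg
open scoped commutatorElement

variable {G : Type*} [Group G] {S : Set (Subgroup G)} {A B E F P R : Subgroup G}

/-- A line: an abelian product A ⊔ B partitioned by the members of S inside it, (partners are hypotheses where needed). -/
structure Line (S : Set (Subgroup G)) (A B : Subgroup G) : Prop where
  root : IsRootSubgroupSet S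
  memA : A ∈ S
  memB : B ∈ S
  ne : A ≠ B
  commute : ⁅A, B⁆ = ⊥
  part : IsSubgroupPartition (A ⊔ B) (membersIn S (A ⊔ B))

theorem line_of_linePartner (hS : IsRootSubgroupSet S) (hA : A ∈ S) (hB : B ∈ linePartners S A) :
    Line S A B :=
  ⟨hS, hA, hB.1.1, fun e => hB.1.2.1 e.symm, hB.1.2.2, hB.2⟩

variable (L : Line S A B)
include L

theorem line_comm : ∀ x ∈ A ⊔ B, ∀ y ∈ A ⊔ B, x * y = y * x := by
  intro x hx y hy
  obtain ⟨a, ha, c, hc, rfl⟩ := (mem_sup_of_commute L.commute).1 hx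
  obtain ⟨a', ha', c', hc', rfl⟩ := (mem_sup_of_commute L.commute).1 hy
  have h := commutator_eq_bot_iff_commute.1 L.commute
  exact Commute.mul_left
    (Commute.mul_right (mul_comm_of_mem (L.root.commutative A L.memA) ha ha') (h a ha c' hc'))
    (Commute.mul_right (h a' ha' c hc).symm (mul_comm_of_mem (L.root.commutative B L.memB) hc hc'))

theorem line_members_commute (hE : E ∈ membersIn S (A ⊔ B)) (hF : F ∈ membersIn S (A ⊔ B)) :
    ⁅E, F⁆ = ⊥ :=
  commutator_eq_bot_iff_commute.2 fun x hx y hy => line_comm L x (hE.2 hx) y (hF.2 hy)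

theorem line_eq_of_mem (hE : E ∈ membersIn S (A ⊔ B)) (hF : F ∈ membersIn S (A ⊔ B)) {x : G}
    (hx : x ∈ E) (hx' : x ∈ F) (hx1 : x ≠ 1) : E = F := by
  by_contra hne
  exact hx1 ((Subgroup.eq_bot_iff_forall _).1 (L.part.2.2 E hE F hF hne) x (Subgroup.mem_inf.2 ⟨hx, hx'⟩))

/-- No member of S commutes with one member of a line and is a rank one partner of another. -/
theorem line_no_mixed (hE : E ∈ membersIn S (A ⊔ B)) (hF : F ∈ membersIn S (A ⊔ B)) (hne : E ≠ F)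
    (hR : R ∈ S) (hc : ⁅E, R⁆ = ⊥) (hr : IsRankOnePair F R) : False := by
  have hS := L.root
  obtain ⟨x, hx, hx1⟩ := exists_mem_ne_one (hS.ne_bot E hE.1)
  obtain ⟨a, ha, ha1⟩ := rankOne_exists_ne_one hr
  have hb1 : a⁻¹ * x ≠ 1 := fun e => hne (line_eq_of_mem L hE hF hx (inv_mul_eq_one.1 e ▸ ha) hx1)
  obtain ⟨X, hX, hbX⟩ := L.part.2.1 _ (mul_mem (inv_mem (hF.2 ha)) (hE.2 hx)) hb1
  have e : conjBy R (a⁻¹ * x)⁻¹ = conjBy R a := by
    have hfix : conjBy R x⁻¹ = R := conjBy_eq_self_iff.2 (inv_mem (mem_normalizer_of_forall_commute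
      (commutator_eq_bot_iff_commute.1 hc x hx)))
    rw [mul_inv_rev, inv_inv, line_comm L _ (inv_mem (hE.2 hx)) a (hF.2 ha), ← conjBy_conjBy, hfix]
  have hXF := eq_of_conj_partner hS hX.1 hR hr (line_members_commute L hF hX) ha ha1 (inv_mem hbX) e
  subst hXF
  exact hne (line_eq_of_mem L hE hF hx (by simpa using mul_mem ha hbX) hx1)

/-- A partner of one member of a line is in the commutator case with another member. -/
theorem line_exists_commCase (hE : E ∈ membersIn S (A ⊔ B)) (hP : P ∈ S) (hr : IsRankOnePair E P) :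
    ∃ F ∈ membersIn S (A ⊔ B), F ≠ E ∧ RootCommutatorCase S F P := by
  have hS := L.root
  by_contra hno
  push Not at hno
  have hall : ∀ X ∈ membersIn S (A ⊔ B), IsRankOnePair X P := by
    intro X hX
    by_cases hXE : X = E
    · exact hXE ▸ hr
    rcases hS.pair X hX.1 P hP with h | h | h
    · exact (line_no_mixed L hX hE hXE hP h hr).elim
    · exact h
    · exact absurd h (hno X hX hXE)
  have hA : A ∈ membersIn S (A ⊔ B) := ⟨L.memA, le_sup_left⟩
  have hB : B ∈ membersIn S (A ⊔ B) := ⟨L.memB, le_sup_right⟩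
  obtain ⟨u, hu, hu1⟩ := rankOne_exists_ne_one (rankOne_symm hr)
  obtain ⟨a, ha, ha1, ea⟩ := (hall A hA).cond_right u hu hu1
  obtain ⟨b, hb, hb1, eb⟩ := (hall B hB).cond_right u hu hu1
  have hc : ⁅conjBy P a⁻¹, conjBy P b⁻¹⁆ = ⊥ := by
    rw [ea, eb, ← conjBy_commutator, L.commute, conjBy_eq_bot_iff.2 rfl]
  have hab : a * b⁻¹ ≠ 1 := fun e =>
    ha1 ((Subgroup.eq_bot_iff_forall _).1 (L.part.2.2 A hA B hB L.ne) a
      (Subgroup.mem_inf.2 ⟨ha, (mul_inv_eq_one.1 e) ▸ hb⟩))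
  obtain ⟨X, hX, hxX⟩ := L.part.2.1 _ (mul_mem (hA.2 ha) (inv_mem (hB.2 hb))) hab
  have hc' : ⁅P, conjBy P (a * b⁻¹)⁆ = ⊥ := by
    have := congrArg (fun U => conjBy U a) hc
    simp only [conjBy_commutator, conjBy_conjBy, mul_inv_cancel, conjBy_one, conjBy_eq_bot_iff.2 rfl] at this
    exact this
  refine hab (rankOne_eq_one_of_normalizes (hall X hX) hxX (Eq.symm ?_))
  exact unipotentSubgroups_eq_of_commute (hall X hX) (right_mem_unipotentSubgroups (hall X hX))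
    (unipotentSubgroups_conj (Subgroup.mem_sup_left hxX) (right_mem_unipotentSubgroups (hall X hX))) hc'

/-- The triangle attached to a partner P of E and the member F in the commutator case with P. -/
theorem line_triangle (hE : E ∈ membersIn S (A ⊔ B)) (hP : P ∈ S) (hr : IsRankOnePair E P)
    (hF : F ∈ membersIn S (A ⊔ B)) (hne : F ≠ E) (h : RootCommutatorCase S F P) :
    RootCommutatorCase S E ⁅F, P⁆ ∧ ⁅E, ⁅F, P⁆⁆ = F := by
  have hS := L.root
  obtain ⟨f, hf, hf1⟩ := exists_mem_ne_one (hS.ne_bot F hF.1)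
  obtain ⟨a, ha, ha1⟩ := rankOne_exists_ne_one hr
  obtain ⟨u, hu, hu1, eu⟩ := hr.cond_left a ha ha1
  have hFE := commutator_eq_bot_iff_commute.1 (line_members_commute L hF hE)
  have hRP := commCase_commute_right h
  have hRF := commCase_commute_left h
  have hnotcomm : ⁅E, ⁅F, P⁆⁆ ≠ ⊥ := by
    intro hc
    have hz1 : f * u * f⁻¹ * u⁻¹ ≠ 1 := by
      intro e
      refine hf1 (commCase_commutator_inj hS hP hE.1 (rankOne_symm hr) (commCase_symm h) hu hu1 hf ?_)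
      rw [mul_inv_eq_one, mul_inv_eq_iff_eq_mul] at e
      exact e.symm
    have hzR : f * u * f⁻¹ * u⁻¹ ∈ ⁅F, P⁆ := by
      simpa [commutatorElement_def] using Subgroup.commutator_mem_commutator hf hu
    refine centralizing_mul_not_rootElement hS hP hE.1 (rankOne_symm hr) (hRP _ hzR)
      (fun x hx => (commutator_eq_bot_iff_commute.1 hc x hx _ hzR).symm) hz1 hu hu1
      ⟨?_, conjBy P f, hS.conj_mem P hP f, ?_⟩
    · rw [inv_mul_cancel_right]
      exact fun e => hu1 (by rw [mul_inv_eq_one] at e; simpa using e)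
    · rw [inv_mul_cancel_right]; exact conj_mem_conjBy hu
  have hC : RootCommutatorCase S E ⁅F, P⁆ := by
    rcases hS.pair E hE.1 _ h.1 with h' | h' | h'
    · exact absurd h' hnotcomm
    · exact (line_no_mixed L hF hE hne h.1 (commCase_commute_eq_bot h) h').elim
    · exact h'
  refine ⟨hC, (eq_of_le_commutator hS hE.1 hP hr hC hF.1 fun f hf => ?_).symm⟩
  by_cases hf1 : f = 1
  · rw [hf1]; exact one_mem _
  set r := f⁻¹ * u⁻¹ * f * u with hr'
  have hrR : r ∈ ⁅F, P⁆ := by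
    have := Subgroup.commutator_mem_commutator (inv_mem hf) (inv_mem hu)
    simpa [commutatorElement_def, mul_assoc, hr'] using this
  set c := r⁻¹ * a * r * a⁻¹ with hc'
  have hcC : c ∈ ⁅E, ⁅F, P⁆⁆ := by
    have := Subgroup.commutator_mem_commutator (inv_mem hrR) ha
    rw [Subgroup.commutator_comm]
    simpa [commutatorElement_def, mul_assoc, hc'] using this
  have hcomm1 : ∀ p ∈ P, f * (r * c) * p = p * (f * (r * c)) := by
    intro p hp
    have e1 : f * (r * c) = a * (u⁻¹ * f * u) * a⁻¹ := by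
      rw [hc', hr']
      calc f * (f⁻¹ * u⁻¹ * f * u * ((f⁻¹ * u⁻¹ * f * u)⁻¹ * a * (f⁻¹ * u⁻¹ * f * u) * a⁻¹))
          = (f * a) * (f⁻¹ * u⁻¹ * f * u) * a⁻¹ := by group
        _ = (a * f) * (f⁻¹ * u⁻¹ * f * u) * a⁻¹ := by rw [hFE f hf a ha]
        _ = a * (u⁻¹ * f * u) * a⁻¹ := by group
    rw [e1]
    have hp' : a⁻¹ * p * a ∈ conjBy E u⁻¹ := by
      rw [eu]
      have := conj_mem_conjBy (g := a⁻¹) hp
      rwa [inv_inv] at this
    rw [mem_conjBy, inv_inv] at hp'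
    have := hFE f hf _ hp'
    calc a * (u⁻¹ * f * u) * a⁻¹ * p
        = a * u⁻¹ * (f * (u * (a⁻¹ * p * a) * u⁻¹)) * u * a⁻¹ := by group
      _ = a * u⁻¹ * ((u * (a⁻¹ * p * a) * u⁻¹) * f) * u * a⁻¹ := by rw [this]
      _ = p * (a * (u⁻¹ * f * u) * a⁻¹) := by group
  set d := f * c with hd
  have hdP : ∀ p ∈ P, d * p = p * d := by
    intro p hp
    have e1 : f * (r * c) = r * d := (mul_assoc f r c).symm.trans ((congrArg (· * c) (hRF r hrR f hf).symm).trans (mul_assoc r f c))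
    have := hcomm1 p hp
    rw [e1, mul_assoc, ← mul_assoc p, ← hRP r hrR p hp, mul_assoc r p] at this
    exact mul_left_cancel this
  by_cases hd1 : d = 1
  · have hfC : f ∈ ⁅E, ⁅F, P⁆⁆ := by
      rw [show f = c⁻¹ by exact eq_inv_of_mul_eq_one_left hd1]
      exact inv_mem hcC
    exact hfC
  exfalso
  obtain ⟨s, hs, hm⟩ := exists_conjBy_of_mem hC ha ha1 (inv_mem hcC)
  have hfC : ∀ x ∈ ⁅E, ⁅F, P⁆⁆, f * x = x * f := by
    have hle : ⁅E, ⁅F, P⁆⁆ ≤ Subgroup.centralizer {f} := by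
      refine Subgroup.commutator_le.2 fun y hy z hz => ?_
      have h1 : y ∈ Subgroup.centralizer ({f} : Set G) :=
        Subgroup.mem_centralizer_singleton_iff.2 (hFE f hf y hy).symm
      have h2 : z ∈ Subgroup.centralizer ({f} : Set G) :=
        Subgroup.mem_centralizer_singleton_iff.2 (hRF z hz f hf)
      rw [commutatorElement_def]
      exact mul_mem (mul_mem (mul_mem h1 h2) (inv_mem h1)) (inv_mem h2)
    exact fun x hx => (Subgroup.mem_centralizer_singleton_iff.1 (hle hx)).symm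
  have hEC := commCase_commute_left hC
  have hCab := hS.commutative _ hC.1
  have hdEC : ∀ x ∈ conjBy E s, d * x = x * d := by
    intro x hx
    obtain ⟨y, hy, z, hz, rfl⟩ :=
      (mem_sup_of_commute (commCase_commute_eq_bot hC)).1 (conjBy_le_sup_commutator hs hx)
    exact Commute.mul_right (Commute.mul_left (hFE f hf y hy) (hEC c hcC y hy))
      (Commute.mul_left (hfC z hz) (mul_comm_of_mem hCab hcC hz))
  have hPs : conjBy P s = P :=
    conjBy_eq_self_iff.2 (mem_normalizer_of_forall_commute (hRP s hs))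
  have hac1 : a * c⁻¹ ≠ 1 := fun e => ha1 ((Subgroup.eq_bot_iff_forall _).1 (commCase_inf_eq_bot hS hC) a
    (Subgroup.mem_inf.2 ⟨ha, (mul_inv_eq_one.1 e) ▸ hcC⟩))
  refine centralizing_mul_not_rootElement hS (hS.conj_mem E hE.1 s) hP (hPs ▸ rankOne_conjBy hr s)
    hdEC hdP hd1 hm hac1 ?_
  have e2 : d * (a * c⁻¹) = f * a := by
    calc d * (a * c⁻¹) = f * (c * a) * c⁻¹ := by rw [hd]; group
      _ = f * (a * c) * c⁻¹ := by rw [hEC c hcC a ha]
      _ = f * a := by group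
  rw [e2]
  have h1 : f * a ≠ 1 := fun e => hne (line_eq_of_mem L hF hE hf
    (by rw [show f = a⁻¹ from eq_inv_of_mul_eq_one_left e]; exact inv_mem ha) hf1)
  obtain ⟨X, hX, hxX⟩ := L.part.2.1 _ (mul_mem (hF.2 hf) (hE.2 ha)) h1
  exact ⟨h1, X, hX.1, hxX⟩

/-- A ⊔ F is the whole line. -/
theorem line_sup_eq (hF : F ∈ membersIn S (A ⊔ B)) (hne : F ≠ A)
    (hpart : IsSubgroupPartition (A ⊔ F) (membersIn S (A ⊔ F))) : A ⊔ F = A ⊔ B := by
  refine le_antisymm (sup_le le_sup_left hF.2) (sup_le le_sup_left ?_)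
  obtain ⟨e, he, he1⟩ := exists_mem_ne_one (L.root.ne_bot F hF.1)
  obtain ⟨a, ha, b, hb, rfl⟩ := (mem_sup_of_commute L.commute).1 (hF.2 he)
  have hb1 : b ≠ 1 := by
    rintro rfl
    rw [mul_one] at he he1
    exact hne (line_eq_of_mem L hF ⟨L.memA, le_sup_left⟩ he ha he1)
  have hbAF : b ∈ A ⊔ F := by
    rw [show b = a⁻¹ * (a * b) by group]
    exact mul_mem (Subgroup.mem_sup_left (inv_mem ha)) (Subgroup.mem_sup_right he)
  obtain ⟨X, hX, hbX⟩ := hpart.2.1 b hbAF hb1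
  have hXB : B = X :=
    line_eq_of_mem L ⟨L.memB, le_sup_right⟩ ⟨hX.1, hX.2.trans (sup_le le_sup_left hF.2)⟩ hb hbX hb1
  rw [hXB]; exact hX.2

/-- For each partner P of A the line is A ⊔ F with F = ⁅A, R⁆, R = ⁅F, P⁆. -/
theorem line_from_partner (hP : P ∈ S) (hr : IsRankOnePair A P) :
    ∃ F ∈ membersIn S (A ⊔ B), F ≠ A ∧ RootCommutatorCase S F P ∧
      RootCommutatorCase S A ⁅F, P⁆ ∧ ⁅A, ⁅F, P⁆⁆ = F ∧ A ⊔ F = A ⊔ B := by
  have hA : A ∈ membersIn S (A ⊔ B) := ⟨L.memA, le_sup_left⟩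
  obtain ⟨F, hF, hne, h⟩ := line_exists_commCase L hA hP hr
  obtain ⟨hC, e⟩ := line_triangle L hA hP hr hF hne h
  refine ⟨F, hF, hne, h, hC, e, line_sup_eq L hF hne ?_⟩
  have := partition_commutator L.root L.memA hP hr hC
  rwa [e] at this

omit L in
/-- Doubly transitive action of the normalizing members on a line. -/
theorem line_two_transitive (L : Line S A B) (hpart : ∀ E ∈ membersIn S (A ⊔ B), ∃ P ∈ S, IsRankOnePair E P) :
    ∀ C₁ ∈ membersIn S (A ⊔ B), ∀ C₂ ∈ membersIn S (A ⊔ B), ∀ D₁ ∈ membersIn S (A ⊔ B),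
      ∀ D₂ ∈ membersIn S (A ⊔ B), C₁ ≠ C₂ → D₁ ≠ D₂ →
        ∃ x ∈ ⨆ X ∈ normalizingMembers S (A ⊔ B), X, conjBy C₁ x = D₁ ∧ conjBy C₂ x = D₂ := by
  have hS := L.root
  set M := membersIn S (A ⊔ B) with hM
  set H : Subgroup G := ⨆ X ∈ normalizingMembers S (A ⊔ B), X with hH
  have hHn : H ≤ Subgroup.normalizer ((A ⊔ B : Subgroup G) : Set G) := iSup₂_le fun X hX => hX.2
  have hMconj : ∀ x ∈ H, ∀ X ∈ M, conjBy X x ∈ M := fun x hx X hX =>
    ⟨hS.conj_mem X hX.1 x, (conjBy_le_conjBy.2 hX.2).trans (conjBy_eq_self_iff.2 (hHn hx)).le⟩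
  have hnorm : ∀ (C U : Subgroup G), U ∈ S → RootCommutatorCase S C U → C ⊔ ⁅C, U⁆ = A ⊔ B → U ≤ H := by
    intro C U hU hC he
    refine le_iSup₂_of_le U ⟨hU, fun g hg => conjBy_eq_self_iff.1 ?_⟩ le_rfl
    rw [← he]
    have h1 : ∀ g ∈ U, conjBy (C ⊔ ⁅C, U⁆) g ≤ C ⊔ ⁅C, U⁆ := fun g hg => by
      rw [conjBy_sup]
      refine sup_le (conjBy_le_sup_commutator hg) ?_
      rw [conjBy_eq_self_iff.2 (mem_normalizer_of_forall_commute fun c hc =>
        (commCase_commute_right hC c hc g hg).symm)]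
      exact le_sup_right
    refine le_antisymm (h1 g hg) ?_
    calc C ⊔ ⁅C, U⁆ = conjBy (conjBy (C ⊔ ⁅C, U⁆) g⁻¹) g := by
          rw [conjBy_conjBy, mul_inv_cancel, conjBy_one]
      _ ≤ conjBy (C ⊔ ⁅C, U⁆) g := conjBy_le_conjBy.2 (h1 _ (inv_mem hg))
  have hAM : A ∈ M := ⟨L.memA, le_sup_left⟩
  obtain ⟨P, hP, hr⟩ := hpart A hAM
  obtain ⟨F, hF, hne, hcase, hC, e, hsup⟩ := line_from_partner L hP hr
  have hR : ⁅F, P⁆ ≤ H := hnorm A _ hcase.1 hC (by rw [e]; exact hsup)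
  have horb : ∀ X ∈ M, X ≠ F → ∃ x ∈ H, conjBy X x = A ∧ conjBy F x = F := by
    intro X hX hXF
    have hmem := membersIn_commutator hS L.memA hP hr hC
    rw [e, hsup] at hmem
    have hX' : X ∈ membersIn S (A ⊔ B) := hX; rw [hmem] at hX'; rcases hX' with ⟨r, hr', rfl⟩ | h'
    · exact ⟨r⁻¹, inv_mem (hR hr'), by rw [conjBy_conjBy, inv_mul_cancel, conjBy_one],
        conjBy_eq_self_iff.2 (inv_mem (mem_normalizer_of_forall_commute fun f hf =>
          commCase_commute_left hcase r hr' f hf))⟩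
    · exact absurd h' hXF
  -- some element of H moves F
  obtain ⟨Q, hQ, hrF⟩ := hpart F hF
  obtain ⟨F₂, hF₂, hne₂, hcase₂⟩ := line_exists_commCase L hF hQ hrF
  obtain ⟨hC₂, e₂⟩ := line_triangle L hF hQ hrF hF₂ hne₂ hcase₂
  have hR₂ : ⁅F₂, Q⁆ ≤ H := by
    refine hnorm F _ hcase₂.1 hC₂ ?_
    rw [e₂]
    have hmem := membersIn_commutator hS L.memA hP hr hC
    rw [e, hsup] at hmem
    rcases (hmem ▸ hF₂ : F₂ ∈ _ ∪ _) with ⟨r, hr', rfl⟩ | h'
    · have hFr : conjBy F r = F := conjBy_eq_self_iff.2 (mem_normalizer_of_forall_commute fun f hf =>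
          commCase_commute_left hcase r hr' f hf)
      calc F ⊔ conjBy A r = conjBy (A ⊔ F) r := by rw [conjBy_sup, hFr, sup_comm]
        _ = A ⊔ B := by rw [hsup]; exact conjBy_eq_self_iff.2 (hHn (hR hr'))
    · exact absurd h' hne₂
  obtain ⟨r₂, hr₂, hr₂1⟩ := exists_mem_ne_one (hS.ne_bot _ hcase₂.1)
  obtain ⟨f, hf, hf1⟩ := rankOne_exists_ne_one hrF
  have hmove : conjBy F r₂ ≠ F := by
    intro efix
    refine hr₂1 (commCase_commutator_inj hS hF.1 hQ hrF hC₂ hf hf1 hr₂ ?_)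
    have h1 : f * r₂ * f⁻¹ * r₂⁻¹ ∈ F := by
      rw [show f * r₂ * f⁻¹ * r₂⁻¹ = f * (r₂ * f⁻¹ * r₂⁻¹) by group]
      refine mul_mem hf ?_
      have := conj_mem_conjBy (g := r₂) (inv_mem hf)
      rwa [efix] at this
    have h2 : f * r₂ * f⁻¹ * r₂⁻¹ ∈ ⁅F, ⁅F₂, Q⁆⁆ := by
      simpa [commutatorElement_def] using Subgroup.commutator_mem_commutator hf hr₂
    have h3 := (Subgroup.eq_bot_iff_forall _).1 (commCase_inf_eq_bot hS hC₂) _ (Subgroup.mem_inf.2 ⟨h1, h2⟩)
    rw [mul_inv_eq_one, mul_inv_eq_iff_eq_mul] at h3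
    exact h3
  have htoF : ∀ X ∈ M, ∃ x ∈ H, conjBy X x = F := by
    intro X hX
    by_cases hXF : X = F
    · exact ⟨1, one_mem _, by rw [conjBy_one, hXF]⟩
    obtain ⟨x, hx, ex, -⟩ := horb X hX hXF
    obtain ⟨y, hy, ey, -⟩ := horb _ (hMconj r₂ (hR₂ hr₂) F hF) hmove
    refine ⟨r₂⁻¹ * y⁻¹ * x, mul_mem (mul_mem (inv_mem (hR₂ hr₂)) (inv_mem hy)) hx, ?_⟩
    rw [← conjBy_conjBy, ex, ← conjBy_conjBy, ← ey, conjBy_conjBy _ y, inv_mul_cancel, conjBy_one,
      conjBy_conjBy, inv_mul_cancel, conjBy_one]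
  have hnormal : ∀ C₁ ∈ M, ∀ C₂ ∈ M, C₁ ≠ C₂ → ∃ x ∈ H, conjBy C₁ x = F ∧ conjBy C₂ x = A := by
    intro C₁ h₁ C₂ h₂ h12
    obtain ⟨x, hx, ex⟩ := htoF C₁ h₁
    have hne' : conjBy C₂ x ≠ F := fun e' => h12 (conjBy_inj.1 (ex.trans e'.symm))
    obtain ⟨y, hy, ey, eyF⟩ := horb _ (hMconj x hx C₂ h₂) hne'
    exact ⟨y * x, mul_mem hy hx, by rw [← conjBy_conjBy, ex, eyF], by rw [← conjBy_conjBy, ey]⟩
  intro C₁ h₁ C₂ h₂ D₁ k₁ D₂ k₂ h12 k12
  obtain ⟨x, hx, ex1, ex2⟩ := hnormal C₁ h₁ C₂ h₂ h12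
  obtain ⟨y, hy, ey1, ey2⟩ := hnormal D₁ k₁ D₂ k₂ k12
  refine ⟨y⁻¹ * x, mul_mem (inv_mem hy) hx, ?_, ?_⟩
  · rw [← conjBy_conjBy, ex1, ← ey1, conjBy_conjBy, inv_mul_cancel, conjBy_one]
  · rw [← conjBy_conjBy, ex2, ← ey2, conjBy_conjBy, inv_mul_cancel, conjBy_one]

omit L in
/-- The members of a line other than F are in the component of A for the graph of rank one pairs. -/
theorem line_component (L : Line S A B) (hP : P ∈ S) (hr : IsRankOnePair A P) :
    ∃ F ∈ membersIn S (A ⊔ B), F ≠ A ∧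
      (∀ X ∈ membersIn S (A ⊔ B), X ≠ F → Relation.ReflTransGen (FAdj S) A X) ∧
      ∃ X ∈ membersIn S (A ⊔ B), X ≠ F ∧ X ≠ A := by
  have hS := L.root
  obtain ⟨F, hF, hne, hcase, hC, e, hsup⟩ := line_from_partner L hP hr
  have hmem := membersIn_commutator hS L.memA hP hr hC
  rw [e, hsup] at hmem
  refine ⟨F, hF, hne, fun X hX hXF => ?_, ?_⟩
  · rw [hmem] at hX
    rcases hX with ⟨r, hr', rfl⟩ | h'
    · have hPr : conjBy P r = P := conjBy_eq_self_iff.2 (mem_normalizer_of_forall_commute fun p hp =>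
        commCase_commute_right hcase r hr' p hp)
      exact .head ⟨L.memA, hP, hr⟩ (.single ⟨hP, hS.conj_mem A L.memA r, hPr ▸ rankOne_symm (rankOne_conjBy hr r)⟩)
    · exact absurd h' hXF
  · obtain ⟨r, hr', hr1⟩ := exists_mem_ne_one (hS.ne_bot _ hcase.1)
    have hrA : conjBy A r ≠ A := by
      intro efix
      obtain ⟨a, ha, ha1⟩ := rankOne_exists_ne_one hr
      refine hr1 (commCase_commutator_inj hS L.memA hP hr hC ha ha1 hr' ?_)
      have h1 : a * r * a⁻¹ * r⁻¹ ∈ A := by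
        rw [show a * r * a⁻¹ * r⁻¹ = a * (r * a⁻¹ * r⁻¹) by group]
        refine mul_mem ha ?_
        have := conj_mem_conjBy (g := r) (inv_mem ha)
        rwa [efix] at this
      have h2 : a * r * a⁻¹ * r⁻¹ ∈ ⁅A, ⁅F, P⁆⁆ := by
        simpa [commutatorElement_def] using Subgroup.commutator_mem_commutator ha hr'
      have h3 := (Subgroup.eq_bot_iff_forall _).1 (commCase_inf_eq_bot hS hC) _ (Subgroup.mem_inf.2 ⟨h1, h2⟩)
      rwa [mul_inv_eq_one, mul_inv_eq_iff_eq_mul] at h3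
    refine ⟨conjBy A r, ?_, ?_, hrA⟩
    · rw [hmem]; exact Or.inl ⟨r, hr', rfl⟩
    · intro h'
      apply hne
      have := congrArg (fun U => conjBy U r⁻¹) h'
      simp only [conjBy_conjBy, inv_mul_cancel, conjBy_one] at this
      rw [this]
      exact (conjBy_eq_self_iff.2 (inv_mem (mem_normalizer_of_forall_commute fun f hf =>
        commCase_commute_left hcase r hr' f hf))).symm

omit L in
/-- Two members with partners on a line lie in one component. -/
theorem line_same_component (L : Line S A B) (hP : P ∈ S) (hr : IsRankOnePair A P) (hR : R ∈ S)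
    (hr' : IsRankOnePair B R) :
    componentOf (FAdj S) S A = componentOf (FAdj S) S B := by
  obtain ⟨F, hF, hne, hconn, X, hX, hXF, hXA⟩ := line_component L hP hr
  have L' : Line S B A :=
    ⟨L.root, L.memB, L.memA, L.ne.symm, by rw [Subgroup.commutator_comm]; exact L.commute,
      by rw [sup_comm]; exact L.part⟩
  obtain ⟨F', hF', hne', hconn', -⟩ := line_component L' hR hr'
  rw [sup_comm B A] at hF' hconn'
  have hA : A ∈ membersIn S (A ⊔ B) := ⟨L.memA, le_sup_left⟩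
  have hB : B ∈ membersIn S (A ⊔ B) := ⟨L.memB, le_sup_right⟩
  have hsymm : ∀ U V : Subgroup G, Relation.ReflTransGen (FAdj S) U V → Relation.ReflTransGen (FAdj S) V U :=
    fun U V h => by
      induction h with
      | refl => exact .refl
      | tail _ h1 ih => exact .head ⟨h1.2.1, h1.1, rankOne_symm h1.2.2⟩ ih
  have hAB : Relation.ReflTransGen (FAdj S) A B := by
    by_cases h1 : B = F
    · by_cases h2 : A = F'
      · subst h1 h2
        exact (hconn X hX hXF).trans (hsymm _ _ (hconn' X hX hXA))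
      · exact hsymm _ _ (hconn' A hA h2)
    · exact hconn B hB h1
  ext U
  exact ⟨fun h => ⟨h.1, (hsymm _ _ hAB).trans h.2⟩, fun h => ⟨h.1, hAB.trans h.2⟩⟩

end Cfsg.Agent.RootSub
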