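import Cfsg.Agent.Lib.RootSub.Conj
set_option autoImplicit false

/-! Rank one pairs: basic properties (Timmesfeld I §1). -/

namespace Cfsg.Agent.RootSub

open Cfsg

variable {G : Type*} [Group G] {A B C D : Subgroup G}

theorem rankOne_symm (h : IsRankOnePair A B) : IsRankOnePair B A := RankOnePair_symm h

theorem rankOne_left_ne_bot (h : IsRankOnePair A B) : A ≠ ⊥ := by
  intro hA
  apply h.ne
  rw [hA]; symm
  rw [Subgroup.eq_bot_iff_forall]
  intro b hb
  by_contra hb1
  obtain ⟨a, ha, ha1, -⟩ := h.cond_right b hb hb1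
  rw [hA] at ha
  exact ha1 (Subgroup.mem_bot.1 ha)

theorem rankOne_right_ne_bot (h : IsRankOnePair A B) : B ≠ ⊥ := rankOne_left_ne_bot (rankOne_symm h)

theorem rankOne_exists_ne_one (h : IsRankOnePair A B) : ∃ a ∈ A, a ≠ 1 := by
  by_contra hc
  push Not at hc
  exact rankOne_left_ne_bot h ((Subgroup.eq_bot_iff_forall A).2 hc)

theorem rankOne_eq_one_of_normalizes (h : IsRankOnePair A B) {a : G} (ha : a ∈ A)
    (hn : conjBy B a = B) : a = 1 := by
  by_contra ha1
  obtain ⟨b, hb, -, e⟩ := h.cond_left a ha ha1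
  have h2 : conjBy B a⁻¹ = B :=
    conjBy_eq_self_iff.2 (inv_mem (conjBy_eq_self_iff.1 hn))
  rw [h2, conjBy_eq_iff, inv_inv, conjBy_self hb] at e
  exact h.ne e

theorem rankOne_inf_normalizer (h : IsRankOnePair A B) :
    A ⊓ Subgroup.normalizer (B : Set G) = ⊥ := by
  rw [Subgroup.eq_bot_iff_forall]
  rintro a ⟨ha, hn⟩
  exact rankOne_eq_one_of_normalizes h ha (conjBy_eq_self_iff.2 hn)

theorem rankOne_inf_eq_bot (h : IsRankOnePair A B) : A ⊓ B = ⊥ :=
  le_bot_iff.1 ((inf_le_inf_left A Subgroup.le_normalizer).trans (rankOne_inf_normalizer h).le)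

theorem rankOne_not_commute (h : IsRankOnePair A B) : ⁅A, B⁆ ≠ ⊥ := by
  intro e
  obtain ⟨a, ha, ha1⟩ := rankOne_exists_ne_one h
  refine ha1 (rankOne_eq_one_of_normalizes h ha ?_)
  exact conjBy_eq_self_iff.2 (mem_normalizer_of_forall_commute fun b hb =>
    commutator_eq_bot_iff_commute.1 e a ha b hb)

theorem rankOne_conjBy_inj (h : IsRankOnePair A B) {a a' : G} (ha : a ∈ A) (ha' : a' ∈ A)
    (e : conjBy B a = conjBy B a') : a = a' := by
  rw [conjBy_eq_conjBy_iff] at e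
  exact inv_mul_eq_one.1 (rankOne_eq_one_of_normalizes h (mul_mem (inv_mem ha) ha') e)

theorem rankOne_conjBy_ne_left (h : IsRankOnePair A B) {a : G} (ha : a ∈ A) : conjBy B a ≠ A := by
  intro e
  apply h.ne
  rw [conjBy_eq_iff, conjBy_self (inv_mem ha)] at e
  exact e.symm

theorem left_mem_unipotentSubgroups (A B : Subgroup G) : A ∈ unipotentSubgroups A B :=
  ⟨1, one_mem _, (conjBy_one A).symm⟩

theorem right_mem_unipotentSubgroups (h : IsRankOnePair A B) : B ∈ unipotentSubgroups A B := by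
  obtain ⟨a, ha, ha1⟩ := rankOne_exists_ne_one h
  obtain ⟨b, hb, -, e⟩ := h.cond_left a ha ha1
  refine ⟨a * b⁻¹, mul_mem (Subgroup.mem_sup_left ha) (Subgroup.mem_sup_right (inv_mem hb)), ?_⟩
  rw [← conjBy_conjBy, e, conjBy_conjBy, mul_inv_cancel, conjBy_one]

theorem unipotentSubgroups_conj {x : G} (hx : x ∈ A ⊔ B) (hC : C ∈ unipotentSubgroups A B) :
    conjBy C x ∈ unipotentSubgroups A B := by
  obtain ⟨y, hy, rfl⟩ := hC
  exact ⟨x * y, mul_mem hx hy, conjBy_conjBy _ _ _⟩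

theorem unipotentSubgroups_le (hC : C ∈ unipotentSubgroups A B) : C ≤ A ⊔ B := by
  obtain ⟨x, hx, rfl⟩ := hC
  calc conjBy A x ≤ conjBy (A ⊔ B) x := conjBy_le_conjBy.2 le_sup_left
    _ = A ⊔ B := conjBy_self hx

/-- The unipotent subgroups are A and the conjugates of B under A. -/
theorem mem_unipotentSubgroups_iff (h : IsRankOnePair A B) :
    C ∈ unipotentSubgroups A B ↔ C = A ∨ ∃ a ∈ A, C = conjBy B a := by
  constructor
  · rintro ⟨x, hx, rfl⟩
    suffices hs : ∀ g ∈ A ⊔ B, ∀ C : Subgroup G, (C = A ∨ ∃ a ∈ A, C = conjBy B a) →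
        (conjBy C g = A ∨ ∃ a ∈ A, conjBy C g = conjBy B a) from hs x hx A (Or.inl rfl)
    let T : Subgroup G :=
      { carrier := {g | ∀ C : Subgroup G, ((C = A ∨ ∃ a ∈ A, C = conjBy B a) ↔
            (conjBy C g = A ∨ ∃ a ∈ A, conjBy C g = conjBy B a))}
        one_mem' := fun C => by rw [conjBy_one]
        mul_mem' := fun {g g'} hg hg' C => by rw [← conjBy_conjBy]; exact (hg' C).trans (hg _)
        inv_mem' := fun {g} hg C => by
          rw [hg (conjBy C g⁻¹), conjBy_conjBy, mul_inv_cancel, conjBy_one] }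
    have hA : A ≤ T := by
      intro g hg C
      constructor
      · rintro (rfl | ⟨a, ha, rfl⟩)
        · exact Or.inl (conjBy_self hg)
        · exact Or.inr ⟨g * a, mul_mem hg ha, conjBy_conjBy _ _ _⟩
      · rintro (e | ⟨a, ha, e⟩)
        · rw [conjBy_eq_iff, conjBy_self (inv_mem hg)] at e; exact Or.inl e
        · rw [conjBy_eq_iff, conjBy_conjBy] at e; exact Or.inr ⟨_, mul_mem (inv_mem hg) ha, e⟩
    have key : ∀ g ∈ B, ∀ C : Subgroup G, (C = A ∨ ∃ a ∈ A, C = conjBy B a) →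
        (conjBy C g = A ∨ ∃ a ∈ A, conjBy C g = conjBy B a) := by
      intro g hg C hC
      -- every member is either B or a B-conjugate of A
      have h1 : C = B ∨ ∃ b ∈ B, C = conjBy A b := by
        rcases hC with rfl | ⟨a, ha, rfl⟩
        · exact Or.inr ⟨1, one_mem _, (conjBy_one _).symm⟩
        by_cases ha1 : a = 1
        · subst ha1; exact Or.inl (conjBy_one _)
        obtain ⟨b, hb, -, e⟩ := h.cond_left a⁻¹ (inv_mem ha) (inv_ne_one.2 ha1)
        rw [inv_inv] at e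
        exact Or.inr ⟨b⁻¹, inv_mem hb, e.symm⟩
      rcases h1 with rfl | ⟨b, hb, rfl⟩
      · exact Or.inr ⟨1, one_mem _, by rw [conjBy_self hg, conjBy_one]⟩
      · rw [conjBy_conjBy]
        by_cases hgb : g * b = 1
        · rw [hgb]; exact Or.inl (conjBy_one _)
        obtain ⟨a, ha, -, e⟩ := h.cond_right (g * b)⁻¹ (inv_mem (mul_mem hg hb)) (inv_ne_one.2 hgb)
        rw [inv_inv] at e
        exact Or.inr ⟨a⁻¹, inv_mem ha, e.symm⟩
    have hB : B ≤ T := fun g hg C => ⟨key g hg C, fun hC => by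
      have := key g⁻¹ (inv_mem hg) _ hC
      rwa [conjBy_conjBy, inv_mul_cancel, conjBy_one] at this⟩
    intro g hg C hC
    exact ((sup_le hA hB) hg C).1 hC
  · rintro (rfl | ⟨a, ha, rfl⟩)
    · exact left_mem_unipotentSubgroups _ _
    · exact unipotentSubgroups_conj (Subgroup.mem_sup_left ha) (right_mem_unipotentSubgroups h)

theorem unipotentSubgroups_symm (h : IsRankOnePair A B) :
    unipotentSubgroups A B = unipotentSubgroups B A := by
  obtain ⟨y, hy, e⟩ := right_mem_unipotentSubgroups h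
  ext C
  constructor
  · rintro ⟨x, hx, rfl⟩
    refine ⟨x * y⁻¹, ?_, ?_⟩
    · rw [sup_comm]; exact mul_mem hx (inv_mem hy)
    · rw [e, conjBy_conjBy, inv_mul_cancel_right]
  · rintro ⟨x, hx, rfl⟩
    rw [sup_comm] at hx
    exact ⟨x * y, mul_mem hx hy, by rw [e, conjBy_conjBy]⟩

theorem rankOne_conjBy (h : IsRankOnePair A B) (g : G) : IsRankOnePair (conjBy A g) (conjBy B g) := by
  have key : ∀ {A B : Subgroup G}, RankOneCondition A B → RankOneCondition (conjBy A g) (conjBy B g) := by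
    intro A B hc a ha ha1
    rw [mem_conjBy] at ha
    obtain ⟨b, hb, hb1, e⟩ := hc _ ha (fun e1 => ha1 (by
      rw [show a = g * (g⁻¹ * a * g) * g⁻¹ by group, e1]; group))
    refine ⟨g * b * g⁻¹, conj_mem_conjBy hb, fun e1 => hb1 ?_, ?_⟩
    · rw [show b = g⁻¹ * (g * b * g⁻¹) * g by group, e1]; group
    · rw [conjBy_conjBy, conjBy_conjBy, show (g * b * g⁻¹)⁻¹ * g = g * b⁻¹ by group,
        show a⁻¹ * g = g * (g⁻¹ * a * g)⁻¹ by group, ← conjBy_conjBy A, ← conjBy_conjBy B, e]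
  exact ⟨fun e => h.ne (conjBy_inj.1 e), conjBy_nilpotent h.nilpotent_left g,
    conjBy_nilpotent h.nilpotent_right g, key h.cond_left, key h.cond_right⟩

theorem rankOne_two_transitive (h : IsRankOnePair A B) (hC : C ∈ unipotentSubgroups A B)
    (hD : D ∈ unipotentSubgroups A B) (hne : C ≠ D) :
    ∃ x ∈ A ⊔ B, conjBy A x = C ∧ conjBy B x = D := by
  obtain ⟨y, hy, rfl⟩ := hC
  have hD' : conjBy D y⁻¹ ∈ unipotentSubgroups A B := unipotentSubgroups_conj (inv_mem hy) hD
  rcases (mem_unipotentSubgroups_iff h).1 hD' with e | ⟨a, ha, e⟩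
  · refine absurd ?_ hne
    rw [← e, conjBy_conjBy, mul_inv_cancel, conjBy_one]
  · refine ⟨y * a, mul_mem hy (Subgroup.mem_sup_left ha), ?_, ?_⟩
    · rw [← conjBy_conjBy, conjBy_self ha]
    · rw [← conjBy_conjBy, ← e, conjBy_conjBy, mul_inv_cancel, conjBy_one]

theorem rankOne_of_unipotentSubgroups (h : IsRankOnePair A B) (hC : C ∈ unipotentSubgroups A B)
    (hD : D ∈ unipotentSubgroups A B) (hne : C ≠ D) : IsRankOnePair C D ∧ C ⊔ D = A ⊔ B := by
  obtain ⟨x, hx, rfl, rfl⟩ := rankOne_two_transitive h hC hD hne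
  exact ⟨rankOne_conjBy h x, by rw [← conjBy_sup, conjBy_self hx]⟩

theorem unipotentSubgroups_eq (h : IsRankOnePair A B) (hC : C ∈ unipotentSubgroups A B)
    (hD : D ∈ unipotentSubgroups A B) (hne : C ≠ D) :
    unipotentSubgroups C D = unipotentSubgroups A B := by
  obtain ⟨x, hx, rfl, rfl⟩ := rankOne_two_transitive h hC hD hne
  ext E
  simp only [unipotentSubgroups, Set.mem_ofPred_eq, ← conjBy_sup, conjBy_self hx, conjBy_conjBy]
  constructor
  · rintro ⟨y, hy, rfl⟩; exact ⟨y * x, mul_mem hy hx, rfl⟩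
  · rintro ⟨y, hy, rfl⟩; exact ⟨y * x⁻¹, mul_mem hy (inv_mem hx), by rw [inv_mul_cancel_right]⟩

/-- If two unipotent subgroups commute elementwise they are equal. -/
theorem unipotentSubgroups_eq_of_commute (h : IsRankOnePair A B) (hC : C ∈ unipotentSubgroups A B)
    (hD : D ∈ unipotentSubgroups A B) (he : ⁅C, D⁆ = ⊥) : C = D := by
  by_contra hne
  exact rankOne_not_commute (rankOne_of_unipotentSubgroups h hC hD hne).1 he

/-- An element normalizing A and B and whose commutators with A lie in a group fixing B centralizes A. -/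
theorem rankOne_commute_of_normal (h : IsRankOnePair A B) (N : Subgroup G)
    (hnorm : ∀ a ∈ A, ∀ n ∈ N, a * n * a⁻¹ ∈ N) (hfA : ∀ n ∈ N, conjBy A n = A)
    (hfB : ∀ n ∈ N, conjBy B n = B) : ∀ n ∈ N, ∀ a ∈ A, n * a = a * n := by
  intro n hn a ha
  have h1 : n * a * n⁻¹ * a⁻¹ ∈ A := by
    refine mul_mem ?_ (inv_mem ha)
    rw [← hfA n hn]; exact conj_mem_conjBy ha
  have h2 : n * a * n⁻¹ * a⁻¹ ∈ N := by
    have := mul_mem hn (hnorm a ha n⁻¹ (inv_mem hn))
    rwa [show n * a * n⁻¹ * a⁻¹ = n * (a * n⁻¹ * a⁻¹) by group]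
  have h3 := rankOne_eq_one_of_normalizes h h1 (hfB _ h2)
  rw [mul_inv_eq_one, mul_inv_eq_iff_eq_mul] at h3
  exact h3

/-- A subgroup normalized by ⟨A, B⟩ and inside it either covers it modulo A or is central. -/
theorem rankOne_normal_dichotomy (h : IsRankOnePair A B) (N : Subgroup G) (hN : N ≤ A ⊔ B)
    (hnorm : ∀ x ∈ A ⊔ B, ∀ n ∈ N, x * n * x⁻¹ ∈ N) :
    A ⊔ B ≤ N ⊔ A ∨ ∀ n ∈ N, ∀ x ∈ A ⊔ B, n * x = x * n := by
  by_cases hfix : ∀ n ∈ N, conjBy A n = A
  · right
    have hall : ∀ n ∈ N, ∀ C ∈ unipotentSubgroups A B, conjBy C n = C := by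
      rintro n hn C ⟨x, hx, rfl⟩
      have := hfix _ (hnorm x⁻¹ (inv_mem hx) n hn)
      rw [inv_inv] at this
      calc conjBy (conjBy A x) n = conjBy (conjBy A (x⁻¹ * n * x)) x := by
            rw [conjBy_conjBy, conjBy_conjBy, show x * (x⁻¹ * n * x) = n * x by group]
        _ = conjBy A x := by rw [this]
    have hfB : ∀ n ∈ N, conjBy B n = B := fun n hn => hall n hn B (right_mem_unipotentSubgroups h)
    have hA := rankOne_commute_of_normal h N
      (fun a ha => hnorm a (Subgroup.mem_sup_left ha)) hfix hfB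
    have hB := rankOne_commute_of_normal (rankOne_symm h) N
      (fun a ha => hnorm a (Subgroup.mem_sup_right ha)) hfB hfix
    intro n hn x hx
    have : A ⊔ B ≤ Subgroup.centralizer {n} := sup_le
      (fun a ha => Subgroup.mem_centralizer_singleton_iff.2 (hA n hn a ha).symm)
      (fun b hb => Subgroup.mem_centralizer_singleton_iff.2 (hB n hn b hb).symm)
    exact (Subgroup.mem_centralizer_singleton_iff.1 (this hx)).symm
  · left
    push Not at hfix
    obtain ⟨n, hn, hne⟩ := hfix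
    rcases (mem_unipotentSubgroups_iff h).1 ⟨n, hN hn, rfl⟩ with e | ⟨a, ha, e⟩
    · exact absurd e hne
    refine sup_le le_sup_right fun b hb => ?_
    have hB : B = conjBy A (a⁻¹ * n) := by
      rw [← conjBy_conjBy, e, conjBy_conjBy, inv_mul_cancel, conjBy_one]
    rw [hB, mem_conjBy] at hb
    have hm : a⁻¹ * n ∈ N ⊔ A :=
      mul_mem (Subgroup.mem_sup_right (inv_mem ha)) (Subgroup.mem_sup_left hn)
    have := mul_mem (mul_mem hm (Subgroup.mem_sup_right hb : _ ∈ N ⊔ A)) (inv_mem hm)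
    rwa [show a⁻¹ * n * ((a⁻¹ * n)⁻¹ * b * (a⁻¹ * n)) * (a⁻¹ * n)⁻¹ = b by group] at this

theorem rankOne_unique (h : IsRankOnePair A B) {a b b' : G} (hb : b ∈ B) (hb' : b' ∈ B)
    (e : conjBy A b⁻¹ = conjBy B a⁻¹) (e' : conjBy A b'⁻¹ = conjBy B a⁻¹) : b = b' :=
  inv_injective (rankOne_conjBy_inj (rankOne_symm h) (inv_mem hb) (inv_mem hb') (e.trans e'.symm))

end Cfsg.Agent.RootSub
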