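import Cfsg.Agent.Lib.RootSub.Line
set_option autoImplicit false

/-! Non-degenerate classes: line partners exist and rank one pairs are special (Timmesfeld II (3.x)). -/

namespace Cfsg.Agent.RootSub

open Cfsg
open scoped commutatorElement

variable {G : Type*} [Group G] {S : Set (Subgroup G)} {A B C D E F P R : Subgroup G}

/-- In a triangle the rank one pair is special. -/
theorem triangle_special (T : Triangle S A B D) {a b : G} (ha : a ∈ D) (hb : b ∈ B) (hb1 : b ≠ 1)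
    (e : conjBy D b⁻¹ = conjBy B a⁻¹) : b⁻¹ * a * b = a⁻¹ * b⁻¹ * a := by
  have hS := T.root
  have hAB := triangle_caseAB T
  have hr := triangle_rankOne T
  have hbm : b⁻¹ ∈ B ⊔ D := Subgroup.mem_sup_left (inv_mem hb)
  have ham : a⁻¹ ∈ B ⊔ D := Subgroup.mem_sup_right (inv_mem ha)
  have hN : conjBy A b⁻¹ = conjBy ⁅A, B⁆ a⁻¹ := by
    have h1 := congrArg (fun U => ⁅U, A ⊔ ⁅A, B⁆⁆) e
    simp only [triangle_map T hbm, triangle_map T ham, triangle_commutator_D T, triangle_commutator_B T] at h1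
    exact h1
  set ψb : G ≃* G := (MulAut.conj b⁻¹ : MulAut G) with hψb
  set ψa : G ≃* G := (MulAut.conj a⁻¹ : MulAut G) with hψa
  have hψb' : ∀ x, ψb x = b⁻¹ * x * b := fun x => by simp [hψb, MulAut.conj_apply]
  have hψa' : ∀ x, ψa x = a⁻¹ * x * a := fun x => by simp [hψa, MulAut.conj_apply]
  have pb : ∀ c ∈ ⁅A, B⁆, ψb c = c := fun c hc => by
    rw [hψb', mul_assoc, ← triangle_B_C T b hb c hc, inv_mul_cancel_left]
  have pa : ∀ x ∈ A, ψa x = x := fun x hx => by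
    rw [hψa', mul_assoc, ← triangle_D_A T a ha x hx, inv_mul_cancel_left]
  -- the basic relation
  have rel : ∀ x ∈ A, ∀ f ∈ ⁅A, B⁆, ψb x = x * f → ψa f = f * x := by
    intro x hx f hf h
    have hm : ψb x ∈ conjBy ⁅A, B⁆ a⁻¹ := by
      rw [← hN, hψb', mem_conjBy]
      rwa [show b⁻¹⁻¹ * (b⁻¹ * x * b) * b⁻¹ = x by group]
    rw [mem_conjBy, inv_inv] at hm
    generalize hy : a * ψb x * a⁻¹ = y at hm
    have e1 : ψb x = ψa y := by rw [hψa', ← hy]; group
    obtain ⟨x', hx', e2⟩ : ∃ x' ∈ A, ψa y = x' * y := by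
      refine ⟨a⁻¹ * y * a * y⁻¹, ?_, by rw [hψa']; group⟩
      have := T.back.le (Subgroup.commutator_mem_commutator (inv_mem ha) hm)
      simpa [commutatorElement_def] using this
    obtain ⟨rfl, rfl⟩ := prod_unique (commCase_inf_eq_bot hS hAB) hx hx' hf hm (h.symm.trans (e1.trans e2))
    rw [e2, triangle_A_C T x hx' f hm]
  have hcomp : ∀ g : G, ψb (ψa (ψb.symm g)) = (b⁻¹ * a * b)⁻¹ * g * (b⁻¹ * a * b) := by
    intro g
    rw [hψb', hψa', show ψb.symm g = b * g * b⁻¹ from ψb.symm_apply_eq.2 (by rw [hψb']; group)]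
    group
  have hcomp' : ∀ g : G, ψa (ψb.symm (ψa.symm g)) = (a⁻¹ * b⁻¹ * a)⁻¹ * g * (a⁻¹ * b⁻¹ * a) := by
    intro g
    rw [hψa', show ψa.symm g = a * g * a⁻¹ from ψa.symm_apply_eq.2 (by rw [hψa']; group),
      show ψb.symm (a * g * a⁻¹) = b * (a * g * a⁻¹) * b⁻¹ from ψb.symm_apply_eq.2 (by rw [hψb']; group)]
    group
  have cN := triangle_N_comm T
  have key : ∀ x ∈ A, ∀ f ∈ ⁅A, B⁆, ψb x = x * f →
      (ψb (ψa (ψb.symm x)) = ψa (ψb.symm (ψa.symm x))) ∧
      (ψb (ψa (ψb.symm f)) = ψa (ψb.symm (ψa.symm f))) := by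
    intro x hx f hf h
    have h' := rel x hx f hf h
    have hxf : x * f = f * x := triangle_A_C T x hx f hf
    have i1 : ψb.symm f = f := ψb.symm_apply_eq.2 (pb f hf).symm
    have i2 : ψb.symm x = x * f⁻¹ := ψb.symm_apply_eq.2 (by rw [map_mul, map_inv, h, pb f hf]; group)
    have i3 : ψa.symm x = x := ψa.symm_apply_eq.2 (pa x hx).symm
    have i4 : ψa.symm f = f * x⁻¹ := ψa.symm_apply_eq.2 (by rw [map_mul, map_inv, h', pa x hx]; group)
    refine ⟨?_, ?_⟩
    · rw [i2, i3, i2, map_mul, map_inv, pa x hx, h', mul_inv_rev, mul_inv_cancel_left, map_inv, pb f hf]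
    · rw [i1, h', map_mul, pb f hf, h, i4, map_mul, map_inv, i1, i2, map_mul, map_inv, map_mul,
        map_inv, h', pa x hx, hxf]
      group
      rw [mul_assoc f x f, hxf, mul_assoc f f x]
  set g₁ := b⁻¹ * a * b with hg₁
  set g₂ := a⁻¹ * b⁻¹ * a with hg₂
  have hagree : A ⊔ ⁅A, B⁆ ≤ Subgroup.centralizer {g₁ * g₂⁻¹} := by
    have fix : ∀ g, ψb (ψa (ψb.symm g)) = ψa (ψb.symm (ψa.symm g)) →
        g ∈ Subgroup.centralizer ({g₁ * g₂⁻¹} : Set G) := by
      intro g h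
      rw [hcomp, hcomp'] at h
      rw [Subgroup.mem_centralizer_singleton_iff]
      calc g * (g₁ * g₂⁻¹) = g₁ * (g₁⁻¹ * g * g₁) * g₂⁻¹ := by group
        _ = g₁ * (g₂⁻¹ * g * g₂) * g₂⁻¹ := by rw [h]
        _ = g₁ * g₂⁻¹ * g := by group
    refine sup_le (fun x hx => fix x ?_) (fun f hf => fix f ?_)
    · refine (key x hx (x⁻¹ * ψb x) ?_ (by group)).1
      rw [hψb']
      have := Subgroup.commutator_mem_commutator (inv_mem hx) (inv_mem hb)
      simpa [commutatorElement_def, mul_assoc] using this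
    · obtain ⟨x, hx, e1⟩ := commCase_exists_commutator (commCase_symm hAB) (inv_mem hb)
        (inv_ne_one.2 hb1) (Subgroup.commutator_comm A B ▸ hf)
      refine (key x hx f hf ?_).2
      rw [hψb', triangle_A_C T x hx f hf, ← e1]; group
  have hz1 : g₁ * g₂⁻¹ ∈ conjBy D b⁻¹ := by
    refine mul_mem ?_ (inv_mem ?_)
    · rw [hg₁]; have := conj_mem_conjBy (g := b⁻¹) ha; rwa [inv_inv] at this
    · rw [e, hg₂]
      have := conj_mem_conjBy (g := a⁻¹) (inv_mem hb)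
      rwa [inv_inv] at this
  have hMΩ : conjBy D b⁻¹ ∈ unipotentSubgroups B D :=
    unipotentSubgroups_conj hbm (right_mem_unipotentSubgroups hr)
  have hne : conjBy D b⁻¹ ≠ D := fun e' =>
    hb1 (inv_eq_one.1 (rankOne_eq_one_of_normalizes hr (inv_mem hb) e'))
  have hpair := (rankOne_of_unipotentSubgroups hr hMΩ (right_mem_unipotentSubgroups hr) hne).1
  have hcen := triangle_centralizer T (g₁ * g₂⁻¹)
    (Subgroup.mem_inf.2 ⟨unipotentSubgroups_le hMΩ hz1, Subgroup.mem_centralizer_iff.2 fun m hm =>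
      (Subgroup.mem_centralizer_singleton_iff.1 (hagree hm))⟩)
  exact mul_inv_eq_one.1 (rankOne_eq_one_of_normalizes hpair hz1
    (conjBy_eq_self_iff.2 (mem_normalizer_of_forall_commute fun d hd => hcen d (Subgroup.mem_sup_right hd))))

theorem class_partner (hS : IsRootSubgroupClass S) (h : ∃ A ∈ S, ∃ B ∈ S, IsRankOnePair A B) :
    ∀ E ∈ S, ∃ P ∈ S, IsRankOnePair E P := by
  obtain ⟨A, hA, B, hB, hr⟩ := h
  intro E hE
  obtain ⟨g, rfl⟩ := hS.2.2 A hA E hE
  exact ⟨conjBy B g, hS.1.conj_mem B hB g, rankOne_conjBy hr g⟩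

theorem membersIn_conjBy (hS : IsRootSubgroupSet S) (U : Subgroup G) (g : G) :
    membersIn S (conjBy U g) = (fun E => conjBy E g) '' membersIn S U := by
  ext E
  constructor
  · rintro ⟨hE, hle⟩
    refine ⟨conjBy E g⁻¹, ⟨hS.conj_mem E hE _, ?_⟩, by simp [conjBy_conjBy, conjBy_one]⟩
    have := (conjBy_le_conjBy (g := g⁻¹)).2 hle
    rwa [conjBy_conjBy, inv_mul_cancel, conjBy_one] at this
  · rintro ⟨X, ⟨hX, hle⟩, rfl⟩
    exact ⟨hS.conj_mem X hX g, conjBy_le_conjBy.2 hle⟩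

theorem linePartners_conjBy (hS : IsRootSubgroupSet S) {g : G} (h : C ∈ linePartners S A) :
    conjBy C g ∈ linePartners S (conjBy A g) := by
  obtain ⟨⟨hC, hne, hcomm⟩, h1, h2, h3⟩ := h
  refine ⟨⟨hS.conj_mem C hC g, fun e => hne (conjBy_inj.1 e), ?_⟩, ?_⟩
  · rw [← conjBy_commutator, hcomm, conjBy_eq_bot_iff]
  rw [← conjBy_sup, membersIn_conjBy hS]
  refine ⟨?_, ?_, ?_⟩
  · rintro _ ⟨X, hX, rfl⟩; exact conjBy_le_conjBy.2 (h1 X hX)
  · intro x hx hx1
    obtain ⟨X, hX, hxX⟩ := h2 _ (mem_conjBy.1 hx) (fun e => hx1 (by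
      rw [show x = g * (g⁻¹ * x * g) * g⁻¹ by group, e]; group))
    exact ⟨conjBy X g, ⟨X, hX, rfl⟩, mem_conjBy.2 hxX⟩
  · rintro _ ⟨X, hX, rfl⟩ _ ⟨Y, hY, rfl⟩ hne
    rw [← conjBy_inf, h3 X hX Y hY (fun e => hne (by rw [e])), conjBy_eq_bot_iff]

theorem nondeg_exists_linePartner (hS : IsRootSubgroupClass S) (hnd : IsNondegenerateRootSet S)
    (hA : A ∈ S) : ∃ C, C ∈ linePartners S A := by
  obtain ⟨-, hr, X, hX, Y, hY, hXY⟩ := hnd
  obtain ⟨P, hP, hrX⟩ := class_partner hS hr X hX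
  obtain ⟨g, rfl⟩ := hS.2.2 _ hXY.1 A hA
  exact ⟨conjBy X g, linePartners_conjBy hS.1 (left_mem_linePartners hS.1 hX hP hrX hXY)⟩

theorem linePartners_of_line (L : Line S A B) (hF : F ∈ membersIn S (A ⊔ B)) (hne : F ≠ A)
    (he : A ⊔ F = A ⊔ B) : F ∈ linePartners S A := by
  refine ⟨⟨hF.1, hne, line_members_commute L ⟨L.memA, le_sup_left⟩ hF⟩, ?_⟩
  rw [he]; exact L.part

/-- Timmesfeld II (3.2): for a rank one pair of a non-degenerate class a triangle exists. -/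
theorem nondeg_triangle (hS : IsRootSubgroupClass S) (hnd : IsNondegenerateRootSet S)
    (hA : A ∈ S) (hB : B ∈ S) (hr : IsRankOnePair A B) :
    ∃ F ∈ linePartners S A, RootCommutatorCase S F B ∧ Triangle S F B A := by
  obtain ⟨C, hC⟩ := nondeg_exists_linePartner hS hnd hA
  have L := line_of_linePartner hS.1 hA hC
  obtain ⟨F, hF, hne, hcase, -, e, hsup⟩ := line_from_partner L hB hr
  exact ⟨F, linePartners_of_line L hF hne hsup, hcase, ⟨hS.1, hF.1, hB, hA, hcase.1, e⟩⟩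

theorem nondeg_special (hS : IsRootSubgroupClass S) (hnd : IsNondegenerateRootSet S)
    (hA : A ∈ S) (hB : B ∈ S) (hr : IsRankOnePair A B) : IsSpecialRankOnePair A B := by
  obtain ⟨F, -, -, T⟩ := nondeg_triangle hS hnd hA hB hr
  exact ⟨hr, fun a ha _ b hb hb1 e => triangle_special T ha hb hb1 e⟩

end Cfsg.Agent.RootSub
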