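import Cfsg.Agent.Lib.RootSub.SpecialPower
import Cfsg.Agent.Lib.RootSub.SL2Hom
set_option autoImplicit false

/-! Special rank one groups: the subgroups ⟨a, b(a)⟩ in characteristic p (Timmesfeld I (5.4)). -/

namespace Cfsg.Agent.RootSub

open Cfsg
open Cfsg.Agent.SL2Presentation (uL tL)

variable {G : Type*} [Group G] {A B : Subgroup G} {p : ℕ} [Fact p.Prime]

/-- The power of g with exponent in ZMod p. -/
def zp (g : G) (t : ZMod p) : G := g ^ t.val

theorem zp_mem {g : G} (hg : g ∈ A) (t : ZMod p) : zp g t ∈ A := pow_mem hg _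

theorem zp_one {g : G} : zp g (1 : ZMod p) = g := by
  haveI : Fact (1 < p) := ⟨(Fact.out : p.Prime).one_lt⟩
  rw [zp, ZMod.val_one, pow_one]

theorem zp_add {g : G} (hg : g ^ p = 1) (s t : ZMod p) : zp g (s + t) = zp g s * zp g t := by
  rw [zp, zp, zp, ← pow_add, ZMod.val_add]
  exact (pow_eq_pow_mod _ hg).symm

theorem zp_mul {g : G} (hg : g ^ p = 1) (s t : ZMod p) : zp (zp g s) t = zp g (s * t) := by
  rw [zp, zp, zp, ← pow_mul, ZMod.val_mul]
  exact pow_eq_pow_mod _ hg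

theorem zp_neg {g : G} (hg : g ^ p = 1) (t : ZMod p) : zp g (-t) = (zp g t)⁻¹ := by
  refine eq_inv_of_mul_eq_one_left ?_
  rw [← zp_add hg, neg_add_cancel, zp, ZMod.val_zero, pow_zero]

theorem zp_conj (g c : G) (t : ZMod p) : zp (c * g * c⁻¹) t = c * zp g t * c⁻¹ := conj_pow

theorem zp_eq_one_iff {g : G} (hg : g ^ p = 1) (h1 : g ≠ 1) (t : ZMod p) : zp g t = 1 ↔ t = 0 := by
  rw [zp, ← orderOf_dvd_iff_pow_eq_one, orderOf_eq_prime hg h1]
  refine ⟨fun h => (ZMod.val_eq_zero t).1 (Nat.eq_zero_of_dvd_of_lt h (ZMod.val_lt t)), ?_⟩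
  rintro rfl; simp

variable (h : IsSpecialRankOnePair A B) (hab : HasAbelianUnipotents A B)
include h hab

omit hab in
theorem matched_pow_prime {a b : G} (m : Matched A B a b) (hap : a ^ p = 1) : b ^ p = 1 :=
  (matched_pow_ne h m p).1 hap

theorem matched_zp {a b : G} (m : Matched A B a b) (hap : a ^ p = 1) {t : ZMod p} (ht : t ≠ 0) :
    Matched A B (zp a t) (zp b t⁻¹) := by
  have hne : a ^ t.val ≠ 1 := fun e => ht ((zp_eq_one_iff hap m.2.1 t).1 e)
  obtain ⟨d, md⟩ := matched_exists h (pow_mem m.1 t.val) hne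
  have hd := matched_pow t.val h hab a b d m md
  have hdp : d ^ p = 1 := matched_pow_prime h md (by rw [← pow_mul, mul_comm, pow_mul, hap, one_pow])
  have e : zp b t⁻¹ = d := by
    rw [← hd, show d ^ t.val = zp d t from rfl, zp_mul hdp, mul_inv_cancel₀ ht, zp_one]
  rw [e]
  exact md

theorem sl2Rels {a b : G} (m : Matched A B a b) (hap : a ^ p = 1) :
    (∀ t : ZMod p, t ≠ 0 → nEl (zp a) (zp b) t = zp b (-t⁻¹) * zp a t * zp b (-t⁻¹)) ∧
    (∀ t : ZMod p, t ≠ 0 → ∀ s, nEl (zp a) (zp b) t * zp a s * (nEl (zp a) (zp b) t)⁻¹ = zp b (-(s / t ^ 2))) ∧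
    (∀ t : ZMod p, t ≠ 0 → ∀ r, nEl (zp a) (zp b) t * zp b r * (nEl (zp a) (zp b) t)⁻¹ = zp a (-(r * t ^ 2))) ∧
    (∀ t : ZMod p, t ≠ 0 → conjBy A (nEl (zp a) (zp b) t) = B ∧ conjBy B (nEl (zp a) (zp b) t) = A) := by
  have hbp : b ^ p = 1 := matched_pow_prime h m hap
  have hN : ∀ t : ZMod p, (zp a (-t))⁻¹ * zp b (-t⁻¹) * (zp a (-t))⁻¹ = nEl (zp a) (zp b) t := fun t => by
    rw [zp_neg hap, inv_inv, nEl]
  have hbr : ∀ t : ZMod p, t ≠ 0 → nEl (zp a) (zp b) t = zp b (-t⁻¹) * zp a t * zp b (-t⁻¹) := by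
    intro t ht
    have mt := matched_zp h hab m hap ht
    have := special_braid h mt.1 mt.2.1 mt.2.2.1 mt.2.2.2.1 (matched_cond h mt)
    rw [← zp_neg hbp] at this
    exact this
  refine ⟨hbr, fun t ht s => ?_, fun t ht r => ?_, fun t ht => ?_⟩
  · have mt := matched_zp h hab m hap (neg_ne_zero.2 ht)
    rw [inv_neg] at mt
    have h1 := (matched_n h mt).2.2
    rw [hN, ← zp_neg hbp, neg_neg] at h1
    have h2 := congrArg (fun z => zp (p := p) z (-(s / t))) h1
    simp only [zp_conj, zp_mul hap, zp_mul hbp] at h2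
    convert h2 using 3 <;> field_simp
  · have mt := matched_zp h hab m hap ht
    have h1 := (matched_n (special_symm h) (matched_symm mt)).2.2
    rw [← zp_neg hbp, ← hbr t ht, ← zp_neg hap] at h1
    have h2 := congrArg (fun z => zp (p := p) z (r * t)) h1
    simp only [zp_conj, zp_mul hap, zp_mul hbp] at h2
    convert h2 using 3 <;> field_simp
  · have mt := matched_zp h hab m hap (neg_ne_zero.2 ht)
    rw [inv_neg] at mt
    have h1 := matched_n h mt
    rw [hN] at h1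
    exact ⟨h1.1, h1.2.1⟩

/-- Timmesfeld I (5.4): a homomorphism from SL₂(p) onto ⟨a, b⟩ with central kernel. -/
theorem exists_sl2_hom {a b : G} (m : Matched A B a b) (hap : a ^ p = 1) :
    ∃ φ : Matrix.SpecialLinearGroup (Fin 2) (ZMod p) →* ↥(Subgroup.closure ({a, b} : Set G)),
      Function.Surjective φ ∧ φ.ker ≤ Subgroup.center _ ∧
      (∀ t, ((φ (uL t) : _) : G) = zp a t) ∧ (∀ t, ((φ (tL * uL (-t) * tL⁻¹) : _) : G) = zp b t) := by
  set X := Subgroup.closure ({a, b} : Set G) with hX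
  have haX : a ∈ X := Subgroup.subset_closure (by simp)
  have hbX : b ∈ X := Subgroup.subset_closure (by simp)
  have hbp : b ^ p = 1 := matched_pow_prime h m hap
  obtain ⟨hbr, hnx, hny, hswap⟩ := sl2Rels h hab m hap
  let x : ZMod p → X := fun t => ⟨zp a t, zp_mem haX t⟩
  let y : ZMod p → X := fun t => ⟨zp b t, zp_mem hbX t⟩
  have hn : ∀ t, ((nEl x y t : X) : G) = nEl (zp a) (zp b) t := fun t => rfl
  have R : SL2Rels x y := by
    refine ⟨fun s t => Subtype.ext (zp_add hap s t), fun s t => Subtype.ext (zp_add hbp s t),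
      fun t ht => Subtype.ext (hbr t ht), fun t ht s => Subtype.ext (hnx t ht s),
      fun t ht r => Subtype.ext (hny t ht r), eq_top_iff.2 ?_⟩
    rw [← Subgroup.closure_closure_coe_preimage (k := ({a, b} : Set G))]
    refine Subgroup.closure_mono ?_
    rintro ⟨z, hz⟩ (e | e)
    · exact Or.inl ⟨1, Subtype.ext (zp_one.trans e.symm)⟩
    · exact Or.inr ⟨1, Subtype.ext (zp_one.trans (Set.mem_singleton_iff.1 e).symm)⟩
  obtain ⟨φ, hφx, hφy, hφ⟩ := R.exists_hom
  refine ⟨φ, ?_, ?_, fun t => congrArg Subtype.val (hφx t), fun t => congrArg Subtype.val (hφy t)⟩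
  · rw [← MonoidHom.range_eq_top, eq_top_iff, ← R.gen, Subgroup.closure_le]
    rintro _ (⟨t, rfl⟩ | ⟨t, rfl⟩)
    · exact ⟨_, hφx t⟩
    · exact ⟨_, hφy t⟩
  intro M hM
  rw [MonoidHom.mem_ker] at hM
  by_cases hc : M.1 1 0 = 0
  · have hd := M.2
    rw [Matrix.det_fin_two, hc, mul_zero, sub_zero] at hd
    have ha0 : M.1 0 0 ≠ 0 := fun e => by rw [e, zero_mul] at hd; exact zero_ne_one hd
    have e := (hφ M).1 hc
    rw [hM, eq_comm, mul_eq_one_iff_eq_inv, ← R.x_neg] at e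
    have hfix : conjBy B ((hEl x y (M.1 0 0) : X) : G) = B := by
      rw [hEl, Subgroup.coe_mul, hn, hn, ← conjBy_conjBy,
        (hswap _ (neg_ne_zero.2 one_ne_zero)).2, (hswap _ ha0).1]
    rw [e] at hfix
    have hb0 := rankOne_eq_one_of_normalizes h.1 (zp_mem m.1 _) hfix
    rw [zp_eq_one_iff hap m.2.1, neg_eq_zero, div_eq_zero_iff, or_iff_left ha0] at hb0
    rw [hb0, zero_div, neg_zero, R.x_zero] at e
    have h2 := R.h_conjX ha0 1
    rw [e, one_mul, inv_one, mul_one, one_mul] at h2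
    have hsq : M.1 0 0 ^ 2 = 1 := by
      have h4 : zp a (M.1 0 0 ^ 2 - 1) = 1 := by
        have h3 : zp a (1 : ZMod p) = zp a (M.1 0 0 ^ 2) := congrArg Subtype.val h2
        rw [sub_eq_add_neg, zp_add hap, zp_neg hap, h3, mul_inv_cancel]
      exact sub_eq_zero.1 ((zp_eq_one_iff hap m.2.1 _).1 h4)
    refine Matrix.SpecialLinearGroup.mem_center_iff.2 ⟨M.1 0 0, by simpa using hsq, ?_⟩
    have hd' : M.1 1 1 = M.1 0 0 := by linear_combination (M.1 0 0) * hd - (M.1 1 1) * hsq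
    ext i j
    fin_cases i <;> fin_cases j <;> simp [hb0, hc, hd']
  · exfalso
    have e := (hφ M).2 hc
    rw [hM, eq_comm, mul_eq_one_iff_eq_inv, ← eq_inv_mul_iff_mul_eq] at e
    have hA : ((nEl x y (-(M.1 1 0)⁻¹) : X) : G) ∈ A := by
      rw [e]
      exact mul_mem (inv_mem (zp_mem m.1 _)) (inv_mem (zp_mem m.1 _))
    have h1 := (hswap _ (neg_ne_zero.2 (inv_ne_zero hc))).1
    rw [← hn, conjBy_self hA] at h1
    exact h.1.ne h1

end Cfsg.Agent.RootSub
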