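import Cfsg.Agent.Lib.RootSub.Basic
set_option autoImplicit false

/-! Special rank one pairs, and a criterion: a commuting member which is a partner of the other side. -/

namespace Cfsg.Agent.RootSub

open Cfsg

variable {G : Type*} [Group G] {S : Set (Subgroup G)} {A B C Q : Subgroup G}

/-- The criterion: C commutes with A, is different from A and is a partner of Q. -/
theorem special_eq_of_commuting (hS : IsRootSubgroupSet S) (hA : A ∈ S) (hC : C ∈ S) (hQ : Q ∈ S)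
    (hAC : ⁅A, C⁆ = ⊥) (hne : C ≠ A) (hr : IsRankOnePair A Q) (hrC : IsRankOnePair C Q)
    {a b : G} (ha : a ∈ A) (ha1 : a ≠ 1) (hb : b ∈ Q) (hb1 : b ≠ 1)
    (e : conjBy A b⁻¹ = conjBy Q a⁻¹) : b⁻¹ * a * b = a⁻¹ * b⁻¹ * a := by
  obtain ⟨c, hc, -, ec⟩ := hrC.cond_right b hb hb1
  have hac := commutator_eq_bot_iff_commute.1 hAC
  set z := a * c⁻¹ with hz
  -- the conjugate Q' = z Q commutes with Q and differs from it
  have hQQ : ⁅Q, conjBy Q z⁆ = ⊥ := by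
    have h1 : ⁅conjBy Q a⁻¹, conjBy Q c⁻¹⁆ = ⊥ := by
      rw [← e, ec, ← conjBy_commutator, hAC, conjBy_eq_bot_iff]
    have h2 := congrArg (fun U => conjBy U a) h1
    simp only [conjBy_commutator, conjBy_conjBy, mul_inv_cancel, conjBy_one,
      conjBy_eq_bot_iff.2 rfl] at h2
    exact h2
  have hQne : conjBy Q z ≠ Q := by
    intro h
    have h2 := congrArg (fun U => conjBy U a⁻¹) h
    simp only [conjBy_conjBy, hz, inv_mul_cancel_left] at h2
    exact hne (eq_of_conj_partner hS hC hQ hr hAC (inv_mem ha) (inv_ne_one.2 ha1) (inv_mem hc) h2)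
  have hzA : ∀ y ∈ A, z * y = y * z := fun y hy =>
    Commute.mul_left (mul_comm_of_mem (hS.commutative A hA) ha hy) (hac y hy _ (inv_mem hc)).symm
  set g := b⁻¹ * z * b with hg
  -- g moves A to a member commuting with A
  have hgA : ⁅conjBy A g⁻¹, A⁆ = ⊥ := by
    obtain ⟨a', ha', -, e'⟩ := hr.cond_right b⁻¹ (inv_mem hb) (inv_ne_one.2 hb1)
    rw [inv_inv] at e'
    have h1 : ⁅conjBy A b, conjBy A (z * b)⁆ = ⊥ := by
      have h := congrArg (fun U => conjBy U a'⁻¹) hQQ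
      simp only [conjBy_commutator, conjBy_conjBy, conjBy_eq_bot_iff.2 rfl] at h
      rw [← hzA _ (inv_mem ha'), ← conjBy_conjBy Q a'⁻¹, e', conjBy_conjBy] at h
      exact h
    have h2 := congrArg (fun U => conjBy U (g⁻¹ * b⁻¹)) h1
    simp only [conjBy_commutator, conjBy_conjBy, conjBy_eq_bot_iff.2 rfl] at h2
    rwa [show g⁻¹ * b⁻¹ * b = g⁻¹ by group, show g⁻¹ * b⁻¹ * (z * b) = 1 by rw [hg]; group,
      conjBy_one] at h2
  set q₁ := b * (a * (b⁻¹ * a * b) * a⁻¹) with hq₁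
  set q₂' := z * b * z⁻¹ with hq₂'
  set q₃ := a * (b⁻¹ * c * b) * a⁻¹ with hq₃
  have hq1m : q₁ ∈ Q := by
    refine mul_mem hb ?_
    have := conj_mem_conjBy (g := b⁻¹) ha
    rw [e, inv_inv, mem_conjBy, inv_inv] at this
    exact this
  have hq2m : q₂'⁻¹ ∈ conjBy Q z := inv_mem (conj_mem_conjBy hb)
  have hq3m : q₃⁻¹ ∈ conjBy Q z := by
    refine inv_mem (mem_conjBy.2 ?_)
    have := conj_mem_conjBy (g := b⁻¹) hc
    rw [← ec, inv_inv, mem_conjBy, inv_inv] at this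
    rw [hq₃, hz, show (a * c⁻¹)⁻¹ * (a * (b⁻¹ * c * b) * a⁻¹) * (a * c⁻¹) = c * (b⁻¹ * c * b) * c⁻¹ by group]
    exact this
  set r := z * (g⁻¹ * a * g * a⁻¹) with hr'
  have hrA : ∀ y ∈ A, r * y = y * r := by
    intro y hy
    refine Commute.mul_left (hzA y hy) ?_
    refine Commute.mul_left ?_ (mul_comm_of_mem (hS.commutative A hA) (inv_mem ha) hy)
    have := conj_mem_conjBy (g := g⁻¹) ha
    rw [inv_inv] at this
    exact commutator_eq_bot_iff_commute.1 hgA _ this y hy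
  have hdec : r = q₁ * (q₂'⁻¹ * q₃⁻¹) := by
    have hcm := commutator_eq_bot_iff_commute.1 hQQ
    have hq2 : q₂'⁻¹ * b = b * q₂'⁻¹ := (hcm b hb _ hq2m).symm
    have hu : a * (b⁻¹ * a * b) * a⁻¹ * q₂'⁻¹ = q₂'⁻¹ * (a * (b⁻¹ * a * b) * a⁻¹) := by
      refine hcm _ ?_ _ hq2m
      have := mul_mem (inv_mem hb) hq1m
      rwa [hq₁, inv_mul_cancel_left] at this
    calc r = q₂'⁻¹ * b * (a * (b⁻¹ * a * b) * a⁻¹) * q₃⁻¹ := by
          rw [hr', hg, hq₂', hq₃, hz]; group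
      _ = b * (q₂'⁻¹ * (a * (b⁻¹ * a * b) * a⁻¹)) * q₃⁻¹ := by rw [hq2]; group
      _ = b * ((a * (b⁻¹ * a * b) * a⁻¹) * q₂'⁻¹) * q₃⁻¹ := by rw [hu]
      _ = q₁ * (q₂'⁻¹ * q₃⁻¹) := by rw [hq₁]; group
  have hq1 : q₁ = 1 := by
    by_contra hne1
    have hfix : conjBy A r = A := conjBy_eq_self_iff.2 (mem_normalizer_of_forall_commute hrA)
    have hm := mul_mem hq2m hq3m
    rw [hdec, commutator_eq_bot_iff_commute.1 hQQ q₁ hq1m _ hm, ← conjBy_conjBy, conjBy_eq_iff] at hfix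
    exact hQne (eq_of_conj_partner hS (hS.conj_mem Q hQ z) hA (rankOne_symm hr) hQQ hq1m hne1
      (inv_mem hm) hfix.symm)
  rw [hq₁, mul_eq_one_iff_eq_inv'] at hq1
  calc b⁻¹ * a * b = a⁻¹ * (a * (b⁻¹ * a * b) * a⁻¹) * a := by group
    _ = a⁻¹ * b⁻¹ * a := by rw [hq1]

theorem special_of_commuting (hS : IsRootSubgroupSet S) (hA : A ∈ S) (hC : C ∈ S) (hQ : Q ∈ S)
    (hAC : ⁅A, C⁆ = ⊥) (hne : C ≠ A) (hr : IsRankOnePair A Q) (hrC : IsRankOnePair C Q) :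
    IsSpecialRankOnePair A Q :=
  ⟨hr, fun _ ha ha1 _ hb hb1 e => special_eq_of_commuting hS hA hC hQ hAC hne hr hrC ha ha1 hb hb1 e⟩

theorem special_symm (h : IsSpecialRankOnePair A B) : IsSpecialRankOnePair B A := by
  refine ⟨rankOne_symm h.1, fun b hb hb1 a ha ha1 e => ?_⟩
  have := congrArg (fun x => x⁻¹) (h.2 a ha ha1 b hb hb1 e.symm)
  simp only [mul_inv_rev, inv_inv, ← mul_assoc] at this
  exact this.symm

section Special

variable (h : IsSpecialRankOnePair A B) {a b : G} (ha : a ∈ A) (ha1 : a ≠ 1) (hb : b ∈ B) (hb1 : b ≠ 1)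
include h ha ha1 hb hb1

/-- The braid relation. -/
theorem special_braid (e : conjBy A b⁻¹ = conjBy B a⁻¹) : a * b⁻¹ * a = b⁻¹ * a * b⁻¹ := by
  have hs := h.2 a ha ha1 b hb hb1 e
  calc a * b⁻¹ * a = a * (a⁻¹ * (a * (b⁻¹ * a * b))) * b⁻¹ := by group
    _ = a * (a⁻¹ * (a * (a⁻¹ * b⁻¹ * a))) * b⁻¹ := by rw [hs]
    _ = b⁻¹ * a * b⁻¹ := by group

/-- For a special pair b(a⁻¹) = b(a)⁻¹. -/
theorem special_inv (e : conjBy A b⁻¹ = conjBy B a⁻¹) : conjBy A b = conjBy B a := by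
  have hs := h.2 a ha ha1 b hb hb1 e
  have h1 : conjBy A (a * b⁻¹) = B := by
    rw [← conjBy_conjBy, e, conjBy_conjBy, mul_inv_cancel, conjBy_one]
  have hkey := special_braid h ha ha1 hb hb1 e
  set D := a * b⁻¹ * a with hD
  have hDA : conjBy A D = B := by rw [hD, ← conjBy_conjBy, conjBy_self ha, h1]
  have hDB : conjBy B D = A := by
    have hmem : conjBy B D ∈ unipotentSubgroups A B := by
      refine unipotentSubgroups_conj ?_ (right_mem_unipotentSubgroups h.1)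
      exact mul_mem (mul_mem (Subgroup.mem_sup_left ha) (Subgroup.mem_sup_right (inv_mem hb))) (Subgroup.mem_sup_left ha)
    by_contra hne
    have hr := (rankOne_of_unipotentSubgroups h.1 hmem (left_mem_unipotentSubgroups A B) hne).1
    refine ha1 ((Subgroup.eq_bot_iff_forall _).1 (rankOne_inf_eq_bot hr) a (Subgroup.mem_inf.2 ⟨?_, ha⟩))
    have hm := conj_mem_conjBy (g := D) (inv_mem hb)
    rwa [show D * b⁻¹ * D⁻¹ = a from ?_] at hm
    rw [mul_inv_eq_iff_eq_mul]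
    calc D * b⁻¹ = a * b⁻¹ * a * b⁻¹ := by rw [hD]
      _ = a * (b⁻¹ * a * b⁻¹) := by group
      _ = a * D := by rw [← hkey, hD]
  rw [hkey, ← conjBy_conjBy, conjBy_self (inv_mem hb), ← conjBy_conjBy, conjBy_eq_iff, inv_inv] at hDB
  exact hDB.symm

/-- n = a⁻¹ b a⁻¹ maps a to b⁻¹. -/
theorem special_conj (e : conjBy A b⁻¹ = conjBy B a⁻¹) :
    conjBy A (a⁻¹ * b * a⁻¹) = B ∧ a⁻¹ * b * a⁻¹ * a * (a⁻¹ * b * a⁻¹)⁻¹ = b⁻¹ := by
  refine ⟨?_, ?_⟩
  · rw [← conjBy_conjBy A a⁻¹, conjBy_self (inv_mem ha), ← conjBy_conjBy, special_inv h ha ha1 hb hb1 e,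
      conjBy_conjBy, inv_mul_cancel, conjBy_one]
  · calc a⁻¹ * b * a⁻¹ * a * (a⁻¹ * b * a⁻¹)⁻¹ = a⁻¹ * b * (a * b⁻¹ * a) := by group
      _ = a⁻¹ * b * (b⁻¹ * a * b⁻¹) := by rw [special_braid h ha ha1 hb hb1 e]
      _ = b⁻¹ := by group

/-- Doubling: if d corresponds to a ^ 2 then d ^ 2 = b. -/
theorem special_double (e : conjBy A b⁻¹ = conjBy B a⁻¹) {d : G} (hd : d ∈ B) (ha2 : a * a ≠ 1)
    (e' : conjBy A d⁻¹ = conjBy B (a * a)⁻¹) : d * d = b := by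
  have hd1 : d ≠ 1 := by
    rintro rfl
    rw [inv_one, conjBy_one] at e'
    exact rankOne_conjBy_ne_left h.1 (inv_mem (mul_mem ha ha)) e'.symm
  have i2 := special_inv h (mul_mem ha ha) ha2 hd hd1 e'
  have i1 := special_inv h ha ha1 hb hb1 e
  have hs := h.2 a ha ha1 b hb hb1 e
  have hab : a * b = b * a⁻¹ * b⁻¹ * a := by
    calc a * b = b * (b⁻¹ * a * b) := by group
      _ = b * (a⁻¹ * b⁻¹ * a) := by rw [hs]
      _ = b * a⁻¹ * b⁻¹ * a := by group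
  have k : conjBy A d = conjBy A (b * d⁻¹) := by
    calc conjBy A d = conjBy (conjBy B a) a := by rw [i2, conjBy_conjBy]
      _ = conjBy A (a * b) := by rw [← i1, conjBy_conjBy]
      _ = conjBy (conjBy A b⁻¹) (b * a⁻¹) := by
          rw [hab, ← conjBy_conjBy A a, conjBy_self ha, conjBy_conjBy]
      _ = conjBy A (b * d⁻¹) := by
          rw [e, ← conjBy_conjBy A d⁻¹, e', conjBy_conjBy, conjBy_conjBy]; group
  have := rankOne_conjBy_inj (rankOne_symm h.1) hd (mul_mem hb (inv_mem hd)) k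
  calc d * d = b * d⁻¹ * d := by nth_rewrite 1 [this]; rfl
    _ = b := by group

end Special

end Cfsg.Agent.RootSub
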