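import Cfsg.Agent.Lib.RootSub.SpecialPair
set_option autoImplicit false

/-! Special rank one groups with abelian unipotent subgroups: b(aᵏ)ᵏ = b(a) (Timmesfeld I (5.2)). -/

namespace Cfsg.Agent.RootSub

open Cfsg

variable {G : Type*} [Group G] {A B : Subgroup G}

/-- a and b correspond. -/
def Matched (A B : Subgroup G) (a b : G) : Prop :=
  a ∈ A ∧ a ≠ 1 ∧ b ∈ B ∧ b ≠ 1 ∧ conjBy A b = conjBy B a

theorem matched_symm {a b : G} (m : Matched A B a b) : Matched B A b a :=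
  ⟨m.2.2.1, m.2.2.2.1, m.1, m.2.1, m.2.2.2.2.symm⟩

theorem matched_unique (hr : IsRankOnePair A B) {a b b' : G} (m : Matched A B a b) (m' : Matched A B a b') :
    b = b' :=
  rankOne_conjBy_inj (rankOne_symm hr) m.2.2.1 m'.2.2.1 (m.2.2.2.2.trans m'.2.2.2.2.symm)

theorem matched_exists (h : IsSpecialRankOnePair A B) {a : G} (ha : a ∈ A) (ha1 : a ≠ 1) :
    ∃ b, Matched A B a b := by
  obtain ⟨b, hb, hb1, e⟩ := h.1.cond_left a ha ha1
  exact ⟨b, ha, ha1, hb, hb1, special_inv h ha ha1 hb hb1 e⟩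

theorem matched_cond (h : IsSpecialRankOnePair A B) {a b : G} (m : Matched A B a b) :
    conjBy A b⁻¹ = conjBy B a⁻¹ := by
  obtain ⟨ha, ha1, hb, hb1, e⟩ := m
  obtain ⟨b', hb', hb1', e'⟩ := h.1.cond_left a ha ha1
  rwa [rankOne_conjBy_inj (rankOne_symm h.1) hb hb' (e.trans (special_inv h ha ha1 hb' hb1' e').symm)]

theorem matched_inv (h : IsSpecialRankOnePair A B) {a b : G} (m : Matched A B a b) :
    Matched A B a⁻¹ b⁻¹ :=
  ⟨inv_mem m.1, inv_ne_one.2 m.2.1, inv_mem m.2.2.1, inv_ne_one.2 m.2.2.2.1, matched_cond h m⟩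

theorem matched_n (h : IsSpecialRankOnePair A B) {a b : G} (m : Matched A B a b) :
    conjBy A (a⁻¹ * b * a⁻¹) = B ∧ conjBy B (a⁻¹ * b * a⁻¹) = A ∧
      (a⁻¹ * b * a⁻¹) * a * (a⁻¹ * b * a⁻¹)⁻¹ = b⁻¹ := by
  obtain ⟨h1, h2⟩ := special_conj h m.1 m.2.1 m.2.2.1 m.2.2.2.1 (matched_cond h m)
  refine ⟨h1, ?_, h2⟩
  rw [← conjBy_conjBy, ← matched_cond h m, conjBy_conjBy, mul_inv_cancel_right, conjBy_self (inv_mem m.1)]

theorem matched_pow_ne (h : IsSpecialRankOnePair A B) {a b : G} (m : Matched A B a b) (k : ℕ) :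
    a ^ k = 1 ↔ b ^ k = 1 := by
  have hn := (matched_n h m).2.2
  generalize a⁻¹ * b * a⁻¹ = n at hn
  rw [← inv_eq_one (a := b ^ k), ← inv_pow, ← hn, conj_pow, mul_inv_eq_one]
  exact ⟨fun e => by rw [e, mul_one], fun e => mul_eq_left.1 e⟩

theorem mul_comm_left (hab : HasAbelianUnipotents A B) {x y : G} (hx : x ∈ A) (hy : y ∈ A) :
    x * y = y * x := mul_comm_of_mem hab.1 hx hy

theorem special_swap (h : IsSpecialRankOnePair A B) (hab : HasAbelianUnipotents A B) :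
    IsSpecialRankOnePair B A ∧ HasAbelianUnipotents B A := ⟨special_symm h, hab.2, hab.1⟩

/-- The simultaneous induction step. -/
theorem matched_step (h : IsSpecialRankOnePair A B) (hab : HasAbelianUnipotents A B) {k : ℕ}
    (hP : ∀ a b d : G, Matched A B a b → Matched A B (a ^ k) d → d ^ k = b)
    (hQ : ∀ b a c : G, Matched B A b a → Matched B A (b ^ k) c → c ^ k = a)
    {b a u : G} (m : Matched B A b a) (mu : Matched B A (b ^ (k + 1)) u) : u ^ (k + 1) = a := by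
  have m' := matched_symm m
  have hr := h.1
  by_cases hak : a ^ k = 1
  · have hbk := (matched_pow_ne h m' k).1 hak
    rw [pow_succ, hbk, one_mul] at mu
    rw [matched_unique (rankOne_symm hr) mu m, pow_succ, hak, one_mul]
  obtain ⟨f, mf⟩ := matched_exists h (pow_mem m'.1 k) hak
  have hfk := hP a b f m' mf
  set y := f ^ (k + 1) with hy
  have hyk : y ^ k = b ^ (k + 1) := by rw [← hfk, hy, ← pow_mul, ← pow_mul, mul_comm]
  have hy1 : y ≠ 1 := fun e => mu.2.1 (by rw [← hyk, e, one_pow])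
  have hyB : y ∈ B := pow_mem mf.2.2.1 _
  obtain ⟨v, mv⟩ := matched_exists (special_symm h) hyB hy1
  have huv : u ^ k = v := hQ y v u mv (hyk.symm ▸ mu)
  -- two values of n (a ^ (k+1) B)
  obtain ⟨-, hnB, hna⟩ := matched_n h m'
  set n := a⁻¹ * b * a⁻¹ with hn
  have e1 : conjBy (conjBy B (a ^ (k + 1))) n = conjBy B u⁻¹ := by
    have e2 : n * a ^ (k + 1) = (b ^ (k + 1))⁻¹ * n := by
      calc n * a ^ (k + 1) = n * a ^ (k + 1) * n⁻¹ * n := by group
        _ = (n * a * n⁻¹) ^ (k + 1) * n := by rw [conj_pow]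
        _ = (b ^ (k + 1))⁻¹ * n := by rw [hna, inv_pow]
    rw [conjBy_conjBy, e2, ← conjBy_conjBy, hnB]
    exact matched_cond (special_symm h) mu |> fun e => (matched_symm (matched_inv (special_symm h) mu)).2.2.2.2
  have e3 : conjBy (conjBy B (a ^ (k + 1))) n = conjBy B (a⁻¹ * v) := by
    rw [conjBy_conjBy, show n * a ^ (k + 1) = (a⁻¹ * b) * a ^ k by
        rw [hn, show k + 1 = 1 + k by omega, pow_add, pow_one]; group,
      ← conjBy_conjBy B (a ^ k), ← mf.2.2.2.2, conjBy_conjBy,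
      show a⁻¹ * b * f = a⁻¹ * y by rw [hy, mul_assoc, ← hfk, ← pow_succ],
      ← conjBy_conjBy A y, ← (matched_symm mv).2.2.2.2.symm, conjBy_conjBy]
  have hav : u⁻¹ = a⁻¹ * v :=
    rankOne_conjBy_inj hr (inv_mem mu.2.2.1) (mul_mem (inv_mem m'.1) mv.2.2.1) (e1.symm.trans e3)
  have hu : v * u = a := by
    calc v * u = a * (a⁻¹ * v) * u := by group
      _ = a := by rw [← hav, inv_mul_cancel_right]
  rw [pow_succ, huv, hu]

/-- Timmesfeld I (5.2). -/
theorem matched_pow (k : ℕ) : ∀ {A B : Subgroup G}, IsSpecialRankOnePair A B → HasAbelianUnipotents A B →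
    ∀ a b d : G, Matched A B a b → Matched A B (a ^ k) d → d ^ k = b := by
  induction k with
  | zero =>
    intro A B _ _ a b d _ md
    exact absurd (pow_zero a) md.2.1
  | succ k ih =>
    intro A B h hab a b d m md
    obtain ⟨h', hab'⟩ := special_swap h hab
    exact matched_step h' hab' (ih h' hab') (ih h hab) m md

/-- Elements whose k-th power is not 1 are k-th powers. -/
theorem exists_root (h : IsSpecialRankOnePair A B) (hab : HasAbelianUnipotents A B) {a : G} (ha : a ∈ A)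
    {k : ℕ} (hk : a ^ k ≠ 1) : ∃ c ∈ A, c ^ k = a := by
  have ha1 : a ≠ 1 := fun e => hk (by rw [e, one_pow])
  obtain ⟨b, m⟩ := matched_exists h ha ha1
  obtain ⟨d, md⟩ := matched_exists h (pow_mem ha k) hk
  have hd := matched_pow k h hab a b d m md
  obtain ⟨hA, -, hn⟩ := matched_n h m
  set n := a⁻¹ * b * a⁻¹
  refine ⟨n⁻¹ * d⁻¹ * n, ?_, ?_⟩
  · have := inv_mem md.2.2.1
    rwa [← hA, mem_conjBy] at this
  · have hc : (n⁻¹ * d⁻¹ * n⁻¹⁻¹) ^ k = n⁻¹ * d⁻¹ ^ k * n⁻¹⁻¹ := conj_pow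
    rw [inv_inv] at hc
    rw [hc, inv_pow, hd, ← hn]; group

theorem torsion_dichotomy (h : IsSpecialRankOnePair A B) (hab : HasAbelianUnipotents A B) :
    (∃ p : ℕ, p.Prime ∧ ∀ a ∈ A, a ^ p = 1) ∨
    ((∀ a ∈ A, a ≠ 1 → ¬ IsOfFinOrder a) ∧ ∀ a ∈ A, ∀ n : ℕ, 0 < n → ∃ c ∈ A, c ^ n = a) := by
  by_cases ht : ∀ a ∈ A, a ≠ 1 → ¬ IsOfFinOrder a
  · refine Or.inr ⟨ht, fun a ha n hn => ?_⟩
    by_cases ha1 : a = 1
    · exact ⟨1, one_mem A, by rw [ha1, one_pow]⟩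
    refine exists_root h hab ha fun e => ht a ha ha1 ?_
    exact isOfFinOrder_iff_pow_eq_one.2 ⟨n, hn, e⟩
  left
  push Not at ht
  obtain ⟨a₀, ha₀, ha₀1, hfin⟩ := ht
  have hone : orderOf a₀ ≠ 1 := fun e => ha₀1 (orderOf_eq_one_iff.1 e)
  obtain ⟨p, hp, hdvd⟩ := Nat.exists_prime_and_dvd hone
  refine ⟨p, hp, fun c hc => by_contra fun hcp => ?_⟩
  obtain ⟨m, hm⟩ := hdvd
  have hm0 : 0 < m := Nat.pos_of_ne_zero fun e => (hfin.orderOf_pos).ne' (by rw [hm, e, mul_zero])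
  set a := a₀ ^ m with ha_def
  have ha : a ∈ A := pow_mem ha₀ m
  have hap : a ^ p = 1 := by rw [ha_def, ← pow_mul, mul_comm, ← hm, pow_orderOf_eq_one]
  have ha1 : a ≠ 1 := pow_ne_one_of_lt_orderOf hm0.ne' (by rw [hm]; nlinarith [hp.two_le])
  obtain ⟨e₁, he₁, h1⟩ := exists_root h hab hc hcp
  have hcap : (c * a) ^ p ≠ 1 := by
    rw [(show Commute c a from mul_comm_left hab hc ha).mul_pow, hap, mul_one]; exact hcp
  obtain ⟨e₂, he₂, h2⟩ := exists_root h hab (mul_mem hc ha) hcap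
  set e := e₁⁻¹ * e₂ with he
  have hee : e ^ p = a := by
    rw [he, (show Commute e₁⁻¹ e₂ from mul_comm_left hab (inv_mem he₁) he₂).mul_pow, inv_pow, h1, h2]; group
  have hem : e ∈ A := mul_mem (inv_mem he₁) he₂
  have he1 : e ≠ 1 := fun e' => ha1 (by rw [← hee, e', one_pow])
  obtain ⟨f, mf⟩ := matched_exists h hem he1
  obtain ⟨g, mg⟩ := matched_exists h (pow_mem hem p) (hee.symm ▸ ha1)
  have hg := matched_pow p h hab e f g mf mg
  rw [hee] at mg
  exact mf.2.2.2.1 (hg ▸ (matched_pow_ne h mg p).1 hap)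

end Cfsg.Agent.RootSub
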