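import Cfsg.Agent.Lib.RootSub.Commutator
set_option autoImplicit false

/-! Timmesfeld II (2.10): ⁅A, B⁆ = C and ⁅D, C⁆ = A force a rank one group ⟨B, D⟩ acting on AC. -/

namespace Cfsg.Agent.RootSub

open Cfsg
open scoped commutatorElement

variable {G : Type*} [Group G] {S : Set (Subgroup G)} {A B C D : Subgroup G}

/-- The hypotheses of the triangle configuration. -/
structure Triangle (S : Set (Subgroup G)) (A B D : Subgroup G) : Prop where
  root : IsRootSubgroupSet S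
  memA : A ∈ S
  memB : B ∈ S
  memD : D ∈ S
  memC : ⁅A, B⁆ ∈ S
  back : ⁅D, ⁅A, B⁆⁆ = A

variable (T : Triangle S A B D)
include T

theorem triangle_caseAB : RootCommutatorCase S A B := commCase_of_mem T.root T.memA T.memB T.memC

theorem triangle_caseDC : RootCommutatorCase S D ⁅A, B⁆ :=
  commCase_of_mem T.root T.memD T.memC (T.back.symm ▸ T.memA)

theorem triangle_A_C : ∀ a ∈ A, ∀ c ∈ ⁅A, B⁆, a * c = c * a :=
  fun a ha c hc => (commCase_commute_left (triangle_caseAB T) c hc a ha).symm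

theorem triangle_D_A : ∀ d ∈ D, ∀ a ∈ A, d * a = a * d := by
  intro d hd a ha
  exact (commCase_commute_left (triangle_caseDC T) a (T.back.symm ▸ ha) d hd).symm

theorem triangle_B_C : ∀ b ∈ B, ∀ c ∈ ⁅A, B⁆, b * c = c * b :=
  fun b hb c hc => (commCase_commute_right (triangle_caseAB T) c hc b hb).symm

theorem triangle_N_comm : ∀ x ∈ A ⊔ ⁅A, B⁆, ∀ y ∈ A ⊔ ⁅A, B⁆, x * y = y * x := by
  have h : ⁅A, ⁅A, B⁆⁆ = ⊥ := commutator_eq_bot_iff_commute.2 (triangle_A_C T)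
  intro x hx y hy
  obtain ⟨a, ha, c, hc, rfl⟩ := (mem_sup_of_commute h).1 hx
  obtain ⟨a', ha', c', hc', rfl⟩ := (mem_sup_of_commute h).1 hy
  exact Commute.mul_left
    (Commute.mul_right (mul_comm_of_mem (T.root.commutative A T.memA) ha ha') (triangle_A_C T a ha c' hc'))
    (Commute.mul_right (triangle_A_C T a' ha' c hc).symm (mul_comm_of_mem (T.root.commutative _ T.memC) hc hc'))

theorem triangle_rankOne : IsRankOnePair B D := by
  have hS := T.root
  have hAB := triangle_caseAB T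
  have hDC := triangle_caseDC T
  rcases hS.pair B T.memB D T.memD with h | h | h
  · exfalso
    refine hS.ne_bot A T.memA ?_
    rw [← T.back, Subgroup.commutator_comm]
    refine Subgroup.commutator_commutator_eq_bot_of_rotate ?_ ?_
    · rw [h, Subgroup.commutator_bot_left]
    · rw [commutator_eq_bot_iff_commute.2 (triangle_D_A T), Subgroup.commutator_bot_left]
  · exact h
  exfalso
  obtain ⟨b, hb, hb1⟩ := exists_mem_ne_one (hS.ne_bot B T.memB)
  obtain ⟨d, hd, hd1⟩ := exists_mem_ne_one (hS.ne_bot D T.memD)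
  obtain ⟨y2, hy2, hy21⟩ := exists_mem_ne_one (hS.ne_bot _ T.memC)
  have hBA := commCase_symm hAB
  have toA : ∀ y ∈ ⁅A, B⁆, ∃ x ∈ A, b * x * b⁻¹ = y * x := by
    intro y hy
    obtain ⟨x, hx, e⟩ := commCase_exists_commutator hBA hb hb1 (Subgroup.commutator_comm A B ▸ hy)
    exact ⟨x, hx, by rw [← e]; group⟩
  have toC : ∀ x ∈ A, ∃ y ∈ ⁅A, B⁆, d * y * d⁻¹ = x * y := by
    intro x hx
    obtain ⟨y, hy, e⟩ := commCase_exists_commutator hDC hd hd1 (T.back.symm ▸ hx)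
    exact ⟨y, hy, by rw [← e]; group⟩
  obtain ⟨x2, hx2, e2⟩ := toA y2 hy2
  obtain ⟨y1, hy1, e1'⟩ := toC x2 hx2
  obtain ⟨x1, hx1, e1⟩ := toA y1 hy1
  obtain ⟨c, hc, e0⟩ := toC x1 hx1
  have fb : ∀ y ∈ ⁅A, B⁆, MulAut.conj b y = y := fun y hy => by
    rw [MulAut.conj_apply, triangle_B_C T b hb y hy, mul_inv_cancel_right]
  have fd : ∀ x ∈ A, MulAut.conj d x = x := fun x hx => by
    rw [MulAut.conj_apply, triangle_D_A T d hd x hx, mul_inv_cancel_right]
  have hcomm : MulAut.conj (b * d * b⁻¹) (MulAut.conj d c) = MulAut.conj d (MulAut.conj (b * d * b⁻¹) c) := by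
    have := commutator_eq_bot_iff_commute.1 (commCase_conj_commute hS h T.memD hb) _
      (conj_mem_conjBy (g := b) hd) d hd
    rw [← MulAut.mul_apply, ← MulAut.mul_apply, ← map_mul, ← map_mul, this]
  simp only [map_mul, MulAut.mul_apply, map_inv] at hcomm
  have g0 : MulAut.conj d c = x1 * c := by rw [MulAut.conj_apply, e0]
  have g1 : MulAut.conj b x1 = y1 * x1 := by rw [MulAut.conj_apply, e1]
  have g1' : MulAut.conj d y1 = x2 * y1 := by rw [MulAut.conj_apply, e1']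
  have g2 : MulAut.conj b x2 = y2 * x2 := by rw [MulAut.conj_apply, e2]
  have hb0 : (MulAut.conj b)⁻¹ c = c := by
    apply (MulAut.conj b).injective
    rw [MulAut.apply_inv_self, fb c hc]
  have hb1' : (MulAut.conj b)⁻¹ (x1 * c) = y1⁻¹ * x1 * c := by
    apply (MulAut.conj b).injective
    rw [MulAut.apply_inv_self]
    simp only [map_mul, map_inv, fb y1 hy1, g1, fb c hc]
    group
  simp only [g0, g1, g1', g2, hb0, hb1', map_mul, map_inv, fb c hc, fb y1 hy1, fd x1 hx1] at hcomm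
  have hN : IsMulCommutative ↥(A ⊔ ⁅A, B⁆) :=
    isMulCommutative_iff.2 fun x y => Subtype.ext (triangle_N_comm T x x.2 y y.2)
  let _ : CommGroup ↥(A ⊔ ⁅A, B⁆) :=
    { (inferInstance : Group ↥(A ⊔ ⁅A, B⁆)) with mul_comm := fun a b => mul_comm' a b }
  let C2 : ↥(A ⊔ ⁅A, B⁆) := ⟨y2, Subgroup.mem_sup_right hy2⟩
  let X2 : ↥(A ⊔ ⁅A, B⁆) := ⟨x2, Subgroup.mem_sup_left hx2⟩
  let C1 : ↥(A ⊔ ⁅A, B⁆) := ⟨y1, Subgroup.mem_sup_right hy1⟩
  let X1 : ↥(A ⊔ ⁅A, B⁆) := ⟨x1, Subgroup.mem_sup_left hx1⟩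
  let C0 : ↥(A ⊔ ⁅A, B⁆) := ⟨c, Subgroup.mem_sup_right hc⟩
  have hN' : (C2 * X2 * C1)⁻¹ * (C1 * X1) * (C1 * X1 * C0) = X2 * C1 * X1 * (X1 * C0) := by
    apply Subtype.ext
    show (y2 * x2 * y1)⁻¹ * (y1 * x1) * (y1 * x1 * c) = x2 * y1 * x1 * (x1 * c)
    simp only [mul_assoc, mul_inv_rev] at hcomm ⊢
    exact hcomm
  have key : C2⁻¹ = X2 * X2 := by
    apply mul_right_cancel (b := C1 * X1 * X1 * C0 * X2⁻¹)
    calc C2⁻¹ * (C1 * X1 * X1 * C0 * X2⁻¹) = (C2 * X2 * C1)⁻¹ * (C1 * X1) * (C1 * X1 * C0) := by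
          rw [mul_inv_rev, mul_inv_rev]
          simp [mul_comm, mul_assoc, mul_left_comm]
      _ = X2 * C1 * X1 * (X1 * C0) := hN'
      _ = X2 * X2 * (C1 * X1 * X1 * C0 * X2⁻¹) := by simp [mul_comm, mul_assoc, mul_left_comm]
  have key' : y2⁻¹ = x2 * x2 := congrArg Subtype.val key
  refine hy21 (inv_eq_one.1 ((Subgroup.eq_bot_iff_forall _).1 (commCase_inf_eq_bot hS hAB) _
    (Subgroup.mem_inf.2 ⟨key' ▸ mul_mem hx2 hx2, inv_mem hy2⟩)))

theorem triangle_normalizes {x : G} (hx : x ∈ B ⊔ D) :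
    conjBy (A ⊔ ⁅A, B⁆) x = A ⊔ ⁅A, B⁆ := by
  refine conjBy_eq_self_iff.2 ?_
  suffices B ⊔ D ≤ Subgroup.normalizer ((A ⊔ ⁅A, B⁆ : Subgroup G) : Set G) from this hx
  have key : ∀ g : G, conjBy (A ⊔ ⁅A, B⁆) g ≤ A ⊔ ⁅A, B⁆ →
      conjBy (A ⊔ ⁅A, B⁆) g⁻¹ ≤ A ⊔ ⁅A, B⁆ → g ∈ Subgroup.normalizer ((A ⊔ ⁅A, B⁆ : Subgroup G) : Set G) := by
    intro g h1 h2
    refine conjBy_eq_self_iff.1 (le_antisymm h1 ?_)
    calc A ⊔ ⁅A, B⁆ = conjBy (conjBy (A ⊔ ⁅A, B⁆) g⁻¹) g := by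
          rw [conjBy_conjBy, mul_inv_cancel, conjBy_one]
      _ ≤ conjBy (A ⊔ ⁅A, B⁆) g := conjBy_le_conjBy.2 h2
  have hB : ∀ b ∈ B, conjBy (A ⊔ ⁅A, B⁆) b ≤ A ⊔ ⁅A, B⁆ := fun b hb => by
    rw [conjBy_sup]
    refine sup_le (conjBy_le_sup_commutator hb) ?_
    rw [conjBy_eq_self_iff.2 (mem_normalizer_of_forall_commute (triangle_B_C T b hb))]
    exact le_sup_right
  have hD : ∀ d ∈ D, conjBy (A ⊔ ⁅A, B⁆) d ≤ A ⊔ ⁅A, B⁆ := fun d hd => by
    rw [conjBy_sup, conjBy_eq_self_iff.2 (mem_normalizer_of_forall_commute (triangle_D_A T d hd))]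
    refine sup_le le_sup_left ?_
    refine (conjBy_le_sup_commutator (A := ⁅A, B⁆) hd).trans ?_
    rw [Subgroup.commutator_comm ⁅A, B⁆ D, T.back]
    exact sup_le le_sup_right le_sup_left
  exact sup_le (fun b hb => key b (hB b hb) (hB _ (inv_mem hb)))
    (fun d hd => key d (hD d hd) (hD _ (inv_mem hd)))

theorem triangle_commutator_D : ⁅D, A ⊔ ⁅A, B⁆⁆ = A := by
  refine le_antisymm (Subgroup.commutator_le.2 fun d hd x hx => ?_)
    (T.back.symm.le.trans (Subgroup.commutator_mono le_rfl le_sup_right))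
  obtain ⟨a, ha, c, hc, rfl⟩ :=
    (mem_sup_of_commute (commutator_eq_bot_iff_commute.2 (triangle_A_C T))).1 hx
  have hm : ⁅d, c⁆ ∈ A := T.back.le (Subgroup.commutator_mem_commutator hd hc)
  rw [commutatorElement_def] at hm ⊢
  rw [show d * (a * c) * d⁻¹ * (a * c)⁻¹ = (d * a * d⁻¹) * (d * c * d⁻¹ * c⁻¹) * a⁻¹ by group,
    triangle_D_A T d hd a ha, mul_inv_cancel_right]
  exact mul_mem (mul_mem ha hm) (inv_mem ha)

theorem triangle_commutator_B : ⁅B, A ⊔ ⁅A, B⁆⁆ = ⁅A, B⁆ := by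
  refine le_antisymm (Subgroup.commutator_le.2 fun b hb x hx => ?_)
    ((Subgroup.commutator_comm A B).le.trans (Subgroup.commutator_mono le_rfl le_sup_left))
  obtain ⟨a, ha, c, hc, rfl⟩ :=
    (mem_sup_of_commute (commutator_eq_bot_iff_commute.2 (triangle_A_C T))).1 hx
  have hm : ⁅b, a⁆ ∈ ⁅A, B⁆ := (Subgroup.commutator_comm B A).le (Subgroup.commutator_mem_commutator hb ha)
  rw [commutatorElement_def] at hm ⊢
  rw [show b * (a * c) * b⁻¹ * (a * c)⁻¹ = (b * a * b⁻¹) * (b * c * b⁻¹ * c⁻¹) * a⁻¹ by group,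
    triangle_B_C T b hb c hc, mul_inv_cancel_right, mul_inv_cancel, mul_one]
  exact hm

/-- The map E ↦ ⁅E, N⁆ from Ω to the conjugates of A commutes with ⟨B, D⟩. -/
theorem triangle_map {E : Subgroup G} {x : G} (hx : x ∈ B ⊔ D) :
    ⁅conjBy E x, A ⊔ ⁅A, B⁆⁆ = conjBy ⁅E, A ⊔ ⁅A, B⁆⁆ x := by
  rw [conjBy_commutator, triangle_normalizes T hx]

theorem triangle_orbit_eq :
    {E | ∃ x ∈ B ⊔ D, E = conjBy A x} = {E | ∃ x ∈ B ⊔ D, E = conjBy ⁅A, B⁆ x} := by
  have hr := triangle_rankOne T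
  obtain ⟨y, hy, e⟩ := right_mem_unipotentSubgroups hr
  have hA : A = conjBy ⁅A, B⁆ y := by
    conv_lhs => rw [← triangle_commutator_D T, e]
    rw [triangle_map T hy, triangle_commutator_B T]
  ext E
  constructor
  · rintro ⟨x, hx, rfl⟩
    exact ⟨x * y, mul_mem hx hy, by conv_lhs => rw [hA, conjBy_conjBy]⟩
  · rintro ⟨x, hx, rfl⟩
    refine ⟨x * y⁻¹, mul_mem hx (inv_mem hy), ?_⟩
    conv_rhs => rw [hA, conjBy_conjBy, inv_mul_cancel_right]

theorem triangle_orbit_B :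
    {E | ∃ x ∈ B ⊔ D, E = conjBy A x} = (fun b : G => conjBy A b) '' (B : Set G) ∪ {⁅A, B⁆} := by
  have hr := triangle_rankOne T
  ext E
  constructor
  · rintro ⟨x, hx, rfl⟩
    have hkey : conjBy A x = ⁅conjBy D x, A ⊔ ⁅A, B⁆⁆ := by
      rw [triangle_map T hx, triangle_commutator_D T]
    rw [hkey]
    rcases (mem_unipotentSubgroups_iff hr).1
      (unipotentSubgroups_conj hx (right_mem_unipotentSubgroups hr)) with e | ⟨b, hb, e⟩
    · exact Or.inr (by rw [e, triangle_commutator_B T]; rfl)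
    · exact Or.inl ⟨b, hb, by rw [e, triangle_map T (Subgroup.mem_sup_left hb), triangle_commutator_D T]⟩
  · rintro (⟨b, hb, rfl⟩ | rfl)
    · exact ⟨b, Subgroup.mem_sup_left hb, rfl⟩
    · rw [triangle_orbit_eq T]
      exact ⟨1, one_mem _, (conjBy_one _).symm⟩

theorem triangle_orbit_D :
    {E | ∃ x ∈ B ⊔ D, E = conjBy A x} = (fun d : G => conjBy ⁅A, B⁆ d) '' (D : Set G) ∪ {A} := by
  have hr := triangle_rankOne T
  ext E
  constructor
  · rw [triangle_orbit_eq T]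
    rintro ⟨x, hx, rfl⟩
    rw [← triangle_commutator_B T, ← triangle_map T hx]
    have hm := unipotentSubgroups_conj hx (left_mem_unipotentSubgroups B D)
    rw [unipotentSubgroups_symm hr] at hm
    rcases (mem_unipotentSubgroups_iff (rankOne_symm hr)).1 hm with e | ⟨d, hd, e⟩
    · exact Or.inr (by rw [e, triangle_commutator_D T]; rfl)
    · exact Or.inl ⟨d, hd, by rw [e, triangle_map T (Subgroup.mem_sup_right hd), triangle_commutator_B T]⟩
  · rintro (⟨d, hd, rfl⟩ | rfl)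
    · rw [triangle_orbit_eq T]
      exact ⟨d, Subgroup.mem_sup_right hd, rfl⟩
    · exact ⟨1, one_mem _, (conjBy_one _).symm⟩

theorem triangle_disjoint {b : G} (hb : b ∈ B) (hb1 : b ≠ 1) : A ⊓ conjBy A b = ⊥ := by
  have hS := T.root
  have hr := triangle_rankOne T
  have hAB := triangle_caseAB T
  rw [Subgroup.eq_bot_iff_forall]
  intro a ha
  obtain ⟨ha, ha'⟩ := Subgroup.mem_inf.1 ha
  rw [mem_conjBy] at ha'
  generalize hz : b⁻¹ * a * b = z at ha'
  have hc : a * z⁻¹ ∈ ⁅A, B⁆ := by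
    have := Subgroup.commutator_mem_commutator (inv_mem ha') hb
    rw [commutatorElement_def, ← hz] at this
    rw [← hz]
    have h2 := triangle_A_C T (b⁻¹ * a * b) (hz ▸ ha') _ this
    convert this using 1
    rw [show a * (b⁻¹ * a * b)⁻¹ = (b⁻¹ * a * b) * ((b⁻¹ * a * b)⁻¹ * b * (b⁻¹ * a * b)⁻¹⁻¹ * b⁻¹) *
      (b⁻¹ * a * b)⁻¹ by group, h2]
    group
  have hza : z = a := (inv_mul_eq_one.1 (show z⁻¹ * a = 1 by
    rw [mul_comm_of_mem (hS.commutative A T.memA) (inv_mem ha') ha]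
    exact (Subgroup.eq_bot_iff_forall _).1 (commCase_inf_eq_bot hS hAB) _
      (Subgroup.mem_inf.2 ⟨mul_mem ha (inv_mem ha'), hc⟩)))
  obtain ⟨d, hd, -, e⟩ := hr.cond_left b hb hb1
  have e' : conjBy A b⁻¹ = conjBy ⁅A, B⁆ d⁻¹ := by
    have := congrArg (fun E => ⁅E, A ⊔ ⁅A, B⁆⁆) e
    simp only [triangle_map T (Subgroup.mem_sup_right (inv_mem hd) : d⁻¹ ∈ B ⊔ D),
      triangle_map T (Subgroup.mem_sup_left (inv_mem hb) : b⁻¹ ∈ B ⊔ D),
      triangle_commutator_D T, triangle_commutator_B T] at this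
    exact this.symm
  have hmem : a ∈ conjBy A b⁻¹ := by
    have := conj_mem_conjBy (g := b⁻¹) ha
    rwa [inv_inv, hz, hza] at this
  rw [e', mem_conjBy, inv_inv, triangle_D_A T d hd a ha, mul_inv_cancel_right] at hmem
  exact (Subgroup.eq_bot_iff_forall _).1 (commCase_inf_eq_bot hS hAB) a (Subgroup.mem_inf.2 ⟨ha, hmem⟩)

theorem triangle_partition :
    IsSubgroupPartition (A ⊔ ⁅A, B⁆) {E | ∃ x ∈ B ⊔ D, E = conjBy A x} := by
  have hS := T.root
  have hAB := triangle_caseAB T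
  refine ⟨?_, ?_, ?_⟩
  · rintro E ⟨x, hx, rfl⟩
    exact (conjBy_le_conjBy.2 le_sup_left).trans (triangle_normalizes T hx).le
  · intro x hx hx1
    rw [triangle_orbit_B T]
    obtain ⟨a, ha, c, hc, rfl⟩ :=
      (mem_sup_of_commute (commutator_eq_bot_iff_commute.2 (triangle_A_C T))).1 hx
    by_cases ha1 : a = 1
    · subst ha1; exact ⟨_, Or.inr rfl, by rwa [one_mul]⟩
    · obtain ⟨b, hb, hm⟩ := exists_conjBy_of_mem hAB ha ha1 hc
      exact ⟨_, Or.inl ⟨b, hb, rfl⟩, hm⟩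
  · have h1 : ∀ b ∈ B, conjBy A b ⊓ ⁅A, B⁆ = ⊥ := by
      intro b hb
      have := conjBy_inf A ⁅A, B⁆ b
      rw [commCase_inf_eq_bot hS hAB,
        conjBy_eq_self_iff.2 (mem_normalizer_of_forall_commute (triangle_B_C T b hb)),
        conjBy_eq_bot_iff.2 rfl] at this
      exact this.symm
    intro E hE F hF hne
    rw [triangle_orbit_B T] at hE hF
    rcases hE with ⟨b, hb, rfl⟩ | rfl <;> rcases hF with ⟨b', hb', rfl⟩ | rfl
    · have h2 : b⁻¹ * b' ≠ 1 := fun e => hne (by rw [inv_mul_eq_one.1 e])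
      have := conjBy_inf A (conjBy A (b⁻¹ * b')) b
      rw [triangle_disjoint T (mul_mem (inv_mem hb) hb') h2, conjBy_eq_bot_iff.2 rfl, conjBy_conjBy,
        mul_inv_cancel_left] at this
      exact this.symm
    · exact h1 b hb
    · rw [inf_comm]; exact h1 b' hb'
    · exact absurd rfl hne

theorem triangle_centralizer :
    ∀ x ∈ (B ⊔ D) ⊓ Subgroup.centralizer ((A ⊔ ⁅A, B⁆ : Subgroup G) : Set G),
      ∀ y ∈ B ⊔ D, x * y = y * x := by
  have hS := T.root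
  set K : Subgroup G := (B ⊔ D) ⊓ Subgroup.centralizer ((A ⊔ ⁅A, B⁆ : Subgroup G) : Set G) with hK
  have hKd := rankOne_normal_dichotomy (triangle_rankOne T) K inf_le_left (by
    intro y hy n hn
    obtain ⟨hn1, hn2⟩ := Subgroup.mem_inf.1 hn
    refine Subgroup.mem_inf.2 ⟨mul_mem (mul_mem hy hn1) (inv_mem hy), Subgroup.mem_centralizer_iff.2 fun m hm => ?_⟩
    have hm' : y⁻¹ * m * y ∈ A ⊔ ⁅A, B⁆ := by
      rw [← mem_conjBy, triangle_normalizes T hy]; exact hm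
    have := Subgroup.mem_centralizer_iff.1 hn2 _ hm'
    calc m * (y * n * y⁻¹) = y * ((y⁻¹ * m * y) * n) * y⁻¹ := by group
      _ = y * (n * (y⁻¹ * m * y)) * y⁻¹ := by rw [this]
      _ = y * n * y⁻¹ * m := by group)
  rcases hKd with h | h
  · exfalso
    have hle : K ⊔ B ≤ Subgroup.centralizer ((⁅A, B⁆ : Subgroup G) : Set G) :=
      sup_le (inf_le_right.trans (Subgroup.centralizer_le (SetLike.coe_subset_coe.2 le_sup_right)))
        (fun b hb => Subgroup.mem_centralizer_iff.2 fun c hc => (triangle_B_C T b hb c hc).symm)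
    refine hS.ne_bot A T.memA ?_
    rw [← T.back, commutator_eq_bot_iff_commute]
    exact fun d hd c hc =>
      (Subgroup.mem_centralizer_iff.1 (hle (h (Subgroup.mem_sup_right hd))) c hc).symm
  · exact h

end Cfsg.Agent.RootSub
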